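import Mathlib
import Cfsg.Agent.H301.SY.Spor
import Cfsg.Agent.H461.T5.Cube
import Cfsg.Agent.Lib.VonDyck
import Cfsg.Agent.H461.T5.Ru
import Cfsg.Agent.CTwoTab.Ru
import Cfsg.Agent.FastGrp
import Cfsg.Agent.Prune
set_option linter.all false
prune_inst 0x7f00000000000000000000000000000000000000000000000000000000000000000000000000000000000000000000000000000000000000000000000000000000000000000000000000000000000000003fffffffffffffffffffffffffffbeffbdffffffff
open scoped Cfsg.Agent.FastGrp

-- part: H387/SyCube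
section
/-!
# `NoE` from certificates (helper387, S3846)

* `not_re_of_a5` : `x` of order 5 is a product of elements of order 2 and 3: it lies in a subgroup `A₅`;
* `noE_cube` : Sylow `p`-subgroups of order `p ^ 3`, non-abelian of exponent `p`, with generators `a`, `b`: it is enough
  to look at the representatives `c`, `a`, `a ^ t b` of the subgroups of order `p`.
-/

set_option autoImplicit false
set_option linter.unusedSectionVars false

namespace Cfsg.Agent.H387.SyCube

open Subgroup Cfsg Cfsg.Agent.H459.Rad Cfsg.Agent.H301.SY Cfsg.Agent.H461.T5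

variable {G : Type*} [Group G] [Finite G]

theorem re_conj {x : G} (h : RE x) (g : G) : RE (g * x * g⁻¹) := h.map (MulAut.conj g)

theorem re_of_mem_zpowers {x y : G} (hx : x ∈ zpowers y) (hy : y ∈ zpowers x) (h : RE x) : RE y := by
  intro M hM hyM
  have h1 : x ∈ M := (zpowers_le.2 hyM) hx
  exact (zpowers_le.2 (h M hM h1)) hy

/-- `x` lies in a proper simple subgroup -/
theorem not_re_of_simple {x : G} (hx1 : x ≠ 1) {L : Subgroup G} (hL : L ≠ ⊤) (hxL : x ∈ L) {Q : Type*} [Group Q]
    [Finite Q] [IsSimpleGroup Q] (hQ : ¬ Group.IsSolvable Q) (e : L ≃* Q) : ¬ RE x := by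
  intro hR
  have h1 := hR L hL hxL
  have h2 : (⟨x, hxL⟩ : L) ∈ solvableRadical L := mem_radIn_coe.1 h1
  have h3 := map_rad_le (f := e.toMonoidHom) e.surjective h2
  rw [rad_eq_bot_of_simple hQ, mem_bot] at h3
  have h4 : (⟨x, hxL⟩ : L) = 1 := e.injective (h3.trans (map_one e).symm)
  exact hx1 (congrArg Subtype.val h4)

theorem not_solvable_a5 : ¬ Group.IsSolvable (alternatingGroup (Fin 5)) := by
  intro h
  apply Equiv.Perm.not_isSolvable_fin_5
  have h1 : Group.IsSolvable ↥(Equiv.Perm.sign (α := Fin 5)).ker := h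
  exact Group.isSolvable_of_ker_le_range (f := (Equiv.Perm.sign (α := Fin 5)).ker.subtype)
    (g := Equiv.Perm.sign (α := Fin 5)) (by rw [range_subtype])

/-- **`A₅` containing `x`** -/
theorem not_re_of_a5 {a x : G} (ha : a ^ 2 = 1) (ha1 : a ≠ 1) (hx : x ^ 5 = 1) (hax : (a * x) ^ 3 = 1)
    (hG : 60 < Nat.card G) : ¬ RE x := by
  have hx1 : x ≠ 1 := by
    rintro rfl
    rw [mul_one, pow_succ, ha, one_mul] at hax
    exact ha1 hax
  have haa : a * (a * x) = x := by rw [← mul_assoc, ← pow_two, ha, one_mul]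
  obtain ⟨e⟩ := Lib.VonDyck.closure_equiv_alternatingFive (a := a) (b := a * x) ha hax (by rw [haa, hx]) (Or.inl ha1)
  have hs : IsSimpleGroup (alternatingGroup (Fin 5)) := alternatingGroup.isSimpleGroup (by simp)
  refine not_re_of_simple (L := _root_.Subgroup.closure {a, a * x}) hx1 ?_ ?_ not_solvable_a5 e
  · intro h
    have h1 : Nat.card (closure ({a, a * x} : Set G)) = 60 := by
      rw [Nat.card_congr e.toEquiv, nat_card_alternatingGroup, Nat.card_eq_fintype_card, Fintype.card_fin]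
      rfl
    rw [h, card_top] at h1
    omega
  · have h1 : a ∈ _root_.Subgroup.closure ({a, a * x} : Set G) := _root_.Subgroup.subset_closure (by simp)
    have h2 : a * x ∈ _root_.Subgroup.closure ({a, a * x} : Set G) := _root_.Subgroup.subset_closure (by simp)
    have h3 := mul_mem h1 h2
    rwa [haa] at h3

variable {p : ℕ} [Fact p.Prime]

/-- the elements of order `p` up to conjugation and powers -/
theorem exists_conj_rep (h4 : ¬ p ^ 4 ∣ Nat.card G) {a b c : G} (ha : a ^ p = 1) (hb : b ^ p = 1)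
    (hc : c ^ p = 1) (hc1 : c ≠ 1) (hac : a * c = c * a) (hbc : b * c = c * b) (hab : a * b = b * a * c)
    {z : G} (hz : orderOf z = p) :
    ∃ r, Rp p a b c r ∧ (∃ N, r ^ p ^ N = 1) ∧ ∃ (u : G) (n : ℕ), ¬ p ∣ n ∧ z = u * r ^ n * u⁻¹ := by
  have hp : p.Prime := Fact.out
  obtain ⟨Q, hQ, haQ, hbQ⟩ := Cfsg.Agent.H573.exists_pgroup_of_class_two (p := p) (a := a) (b := b) (c := c) (i := 1) (j := 1)
    (k := 1) (by rw [pow_one, ha]) (by rw [pow_one, hb]) (by rw [pow_one, hc]) hac hbc hab
  have hle : _root_.Subgroup.closure ({a, b} : Set G) ≤ Q := by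
    rw [closure_le]
    rintro z (rfl | rfl)
    · exact haQ
    · exact hbQ
  have hP : IsPGroup p (closure ({a, b} : Set G)) := hQ.to_le hle
  have hidx : ¬ p ∣ (closure ({a, b} : Set G)).index := by
    intro hd
    obtain ⟨n, hn⟩ := IsPGroup.iff_card.1 hP
    have hn3 : 3 ≤ n := by
      by_contra hlt
      have hcomm : ∀ u v : closure ({a, b} : Set G), u * v = v * u := by
        have hn2 : n ≤ 2 := by omega
        interval_cases n
        · have h1 : Subsingleton (closure ({a, b} : Set G)) := (Nat.card_eq_one_iff_unique.1 (by simpa only [_root_.Subgroup.card_eq_one, _root_.Subgroup.closure_eq_bot_iff, _root_.Set.subset_singleton_iff, _root_.Set.mem_insert_iff, _root_.Set.mem_singleton_iff, _root_.forall_eq_or_imp, _root_.forall_eq, _root_.pow_zero] using hn)).1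
          exact fun u v => Subsingleton.elim _ _
        · have h1 : IsCyclic (closure ({a, b} : Set G)) := isCyclic_of_prime_card (p := p) (by simpa only [_root_.pow_one] using hn)
          let _ := IsCyclic.commGroup (α := (closure ({a, b} : Set G)))
          exact fun u v => mul_comm u v
        · exact fun u v => (IsPGroup.isMulCommutative_of_card_eq_prime_sq hn).1.1 u v
      have h1 := congrArg Subtype.val (hcomm ⟨a, _root_.Subgroup.subset_closure (by simp)⟩ ⟨b, _root_.Subgroup.subset_closure (by simp)⟩)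
      change a * b = b * a at h1
      rw [hab] at h1
      exact hc1 (mul_eq_left.1 h1)
    apply h4
    rw [← Subgroup.card_mul_index (_root_.Subgroup.closure ({a, b} : Set G)), hn]
    calc p ^ 4 = p ^ 3 * p := by rw [pow_succ]
      _ ∣ p ^ n * (closure ({a, b} : Set G)).index := Nat.mul_dvd_mul (pow_dvd_pow p hn3) hd
  have hrp : ∀ r, Rp p a b c r → ∃ N, r ^ p ^ N = 1 := by
    intro r hr
    rcases hr with rfl | rfl | ⟨t, -, rfl⟩
    · exact ⟨1, by rw [pow_one, hc]⟩
    · exact ⟨1, by rw [pow_one, ha]⟩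
    · obtain ⟨N, hN⟩ := hP ⟨a ^ t * b, mul_mem (pow_mem (_root_.Subgroup.subset_closure (by simp)) _) (_root_.Subgroup.subset_closure (by simp))⟩
      exact ⟨N, congrArg Subtype.val hN⟩
  obtain ⟨g, hg⟩ := Cfsg.Agent.H533.T5.exists_conj_mem_of_index hidx hz
  have hne : g * z * g⁻¹ ≠ 1 := by
    intro h
    have h1 : z = 1 := by
      have h2 : z = g⁻¹ * (g * z * g⁻¹) * g := by group
      rw [h2, h]
      group
    rw [h1, orderOf_one] at hz
    exact hp.one_lt.ne hz
  obtain ⟨r, hr, u, n, hn, h⟩ := exists_rep hp ha hc hbc hac hab hb hg hne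
  refine ⟨r, hr, hrp r hr, g⁻¹ * u, n, hn, ?_⟩
  calc z = g⁻¹ * (g * z * g⁻¹) * g := by group
    _ = g⁻¹ * u * r ^ n * (g⁻¹ * u)⁻¹ := by rw [h]; group

/-- **`NoE` from representatives** -/
theorem noE_cube (h4 : ¬ p ^ 4 ∣ Nat.card G) {a b c : G} (ha : a ^ p = 1) (hb : b ^ p = 1)
    (hc : c ^ p = 1) (hc1 : c ≠ 1) (hac : a * c = c * a) (hbc : b * c = c * b) (hab : a * b = b * a * c)
    (H : ∀ r, Rp p a b c r → ¬ RE r) : NoE p G := by
  have hp : p.Prime := Fact.out
  intro x hx hR _
  obtain ⟨r, hr, ⟨N, hN⟩, u, n, hn, rfl⟩ := exists_conj_rep h4 ha hb hc hc1 hac hbc hab hx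
  refine H r hr ?_
  have h1 := re_conj hR u⁻¹
  have h2 : u⁻¹ * (u * r ^ n * u⁻¹) * u⁻¹⁻¹ = r ^ n := by group
  rw [h2] at h1
  exact re_of_mem_zpowers (pow_mem (mem_zpowers r) n) (mem_zpowers_pow hp hN hn) h1

end Cfsg.Agent.H387.SyCube
end

-- part: H387/SyRu
section
/-!
# The row `Ru` of S3846 (helper387, for helper301)

`p = 5`: the words of helper461 for a Sylow 5-subgroup; every representative lies in a subgroup `A₅` (words for an
involution `a` with `(a r)³ = 1`, found by computer). `p = 7, 13`: `Sz(8)`. `p = 29`: `M0`.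
-/

set_option autoImplicit false
set_option maxRecDepth 100000

namespace Cfsg.Agent.H387.SyRu

section
open Cfsg.Agent.Lib Cfsg.Agent.Lib.BitNet Cfsg.Agent.SporadicB Cfsg.Agent.SporRec.TCUpperCert Cfsg.Agent.SporRec.R3.Kernel
open Cfsg.Agent.RuD.Letters

/-! ### the letters as tables -/

/-- the table (16 bits for each point) of the inverse position map of a network on 4096 points -/
private noncomputable def tabN (l : List (ℕ × ℕ)) : ℕ :=
  transp 8 (pack (fun r => Nat.shiftRight (forceN (Nat.mod r 16) fun j => BitNetSimple.appMF l (idxMask 12 j))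
    (Nat.mul 256 (Nat.div r 16))) 256 8 0)

/-- look up -/
private def lkN (T i : ℕ) : ℕ :=
  Nat.mod (Nat.shiftRight T (Nat.add (Nat.mul 256 (Nat.mod i 256)) (Nat.mul 16 (Nat.div i 256)))) 4096

private theorem lkN_tabN {l : List (ℕ × ℕ)} (h : _root_.Cfsg.Agent.Lib.BitNet.Valid l) {i : ℕ} (hi : i < 4096) (h2 : appInv l i < 4096) :
    lkN (tabN l) i = appInv l i := by
  apply Nat.eq_of_testBit_eq
  intro j
  show ((tabN l >>> (256 * (i % 256) + 16 * (i / 256))) % 2 ^ 12).testBit j = _
  rw [Nat.testBit_mod_two_pow, Nat.testBit_shiftRight]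
  by_cases hj : j < 12
  · have e1 : 256 * (i % 256) + 16 * (i / 256) + j = 2 ^ 8 * (i % 256) + (16 * (i / 256) + j) := by omega
    have e2 : (0 + (16 * (i / 256) + j)) % 16 = j := by omega
    have e3 : 256 * ((0 + (16 * (i / 256) + j)) / 16) + i % 256 = i := by omega
    have a1 : i % 256 < 2 ^ 8 := by omega
    have a2 : 16 * (i / 256) + j < 2 ^ 8 := by omega
    have e4 := testBit_pack (fun r => Nat.shiftRight (forceN (Nat.mod r 16) fun j => BitNetSimple.appMF l (idxMask 12 j))
      (Nat.mul 256 (Nat.div r 16))) (w := 256) 8 0 a2 a1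
    have e5 := (testBit_transp (K := 8) _ a1 a2).trans e4
    rw [e1, decide_eq_true hj, Bool.true_and]
    refine e5.trans ?_
    show ((forceN ((0 + (16 * (i / 256) + j)) % 16) fun j => BitNetSimple.appMF l (idxMask 12 j)) >>>
      (256 * ((0 + (16 * (i / 256) + j)) / 16))).testBit (i % 256) = _
    rw [Nat.testBit_shiftRight, e3, e2, forceN_eq, BitNetSimple.appMF_eq, testBit_appM' h, testBit_idxMask hj,
      decide_eq_true (show appInv l i < 2 ^ 12 from h2), Bool.true_and]
  · rw [decide_eq_false hj, Bool.false_and]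
    exact (Nat.testBit_lt_two_pow (lt_of_lt_of_le (show appInv l i < 2 ^ 12 from h2)
      (Nat.pow_le_pow_right (by norm_num) (not_lt.1 hj)))).symm

private theorem lkN_app {l : List (ℕ × ℕ)} (h : OkNet 4060 l) {i : ℕ} (hi : i < 4060) :
    lkN (tabN l.reverse) i = app l i ∧ app l i < 4060 := by
  have e : appInv l.reverse i = app l i := by rw [← BitNetSimple.app_reverse, List.reverse_reverse]
  have h1 := (h.lt_iff i).2 hi
  exact ⟨by rw [lkN_tabN (BitNetSimple.okNet_reverse h).valid (by omega) (by omega), e], h1⟩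

/-- the tables of the letters -/
private noncomputable def tabL : List ℕ := NL.map fun l => tabN l.reverse

private theorem tabL_eq : tabL = NL.map fun l => tabN l.reverse := rfl

/-- one letter -/
private noncomputable def stT (a i : ℕ) : ℕ :=
  List.rec (motive := fun _ => ℕ → ℕ) (fun _ => i)
    (fun T _ ih a => Nat.rec (motive := fun _ => ℕ) (lkN T i) (fun b _ => ih b) a) tabL a

private theorem stT_eq (a : ℕ) {i : ℕ} (hi : i < 4060) : stT a i = appK (nthL NL a) i ∧ stT a i < 4060 := by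
  have key : ∀ (L : List (List (ℕ × ℕ))), (∀ l ∈ L, OkNet 4060 l) → ∀ a : ℕ,
      List.rec (motive := fun _ => ℕ → ℕ) (fun _ => i)
        (fun T _ ih a => Nat.rec (motive := fun _ => ℕ) (lkN T i) (fun b _ => ih b) a)
        (L.map fun l => tabN l.reverse) a = app (nthL L a) i ∧ app (nthL L a) i < 4060 := by
    intro L
    induction L with
    | nil => exact fun _ _ => ⟨rfl, hi⟩
    | cons l L ih =>
      intro h a
      cases a with
      | zero => exact lkN_app (h l List.mem_cons_self) hi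
      | succ a => exact ih (fun m hm => h m (List.mem_cons_of_mem _ hm)) a
  have hN : ∀ l ∈ NL, OkNet 4060 l :=
    List.forall_mem_cons.2 ⟨okNet_sound okT, List.forall_mem_cons.2 ⟨okNet_sound okS,
    List.forall_mem_cons.2 ⟨okNet_sound okW, List.forall_mem_cons.2 ⟨okNet_sound okF,
    List.forall_mem_cons.2 ⟨okNet_sound okD, List.forall_mem_cons.2 ⟨okNet_sound okY,
    List.forall_mem_cons.2 ⟨BitNetSimple.okNet_reverse (okNet_sound okS),
    List.forall_mem_cons.2 ⟨BitNetSimple.okNet_reverse (okNet_sound okF),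
    List.forall_mem_cons.2 ⟨BitNetSimple.okNet_reverse (okNet_sound okD), List.forall_mem_nil _⟩⟩⟩⟩⟩⟩⟩⟩⟩
  have h := key NL hN a
  rw [← tabL_eq] at h
  rw [appK_eq]
  exact ⟨h.1, lt_of_eq_of_lt h.1 h.2⟩

/-- `evalK` on the tables -/
private noncomputable def evalT (w : List ℕ) (i : ℕ) : ℕ :=
  List.rec (motive := fun _ => ℕ) i (fun a _ ih => forceN ih (stT a)) w

private theorem evalT_eq (w : List ℕ) {i : ℕ} (hi : i < 4060) : evalT w i = evalK w i ∧ evalT w i < 4060 := by
  induction w with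
  | nil => exact ⟨rfl, hi⟩
  | cons a w ih =>
    show forceN (evalT w i) (stT a) = forceN (evalK w i) (appK (nthL NL a)) ∧ forceN (evalT w i) (stT a) < 4060
    rw [forceN_eq, forceN_eq, ← ih.1]
    exact stT_eq a ih.2

/-- equality of two words on the tables -/
private noncomputable def eqT (u v : List ℕ) : Bool :=
  allL (fun b => Nat.beq (evalT u b) (evalT v b)) [0, 29, 580, 577]

private theorem chkEq_of_T {u v : List ℕ} (h : eqT u v = true) :
    allL (fun b => Nat.beq (evalK u b) (evalK v b)) [0, 29, 580, 577] = true := by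
  refine (allL_iff _ _).2 fun b hb => ?_
  have h1 := (allL_iff _ _).1 h b hb
  have h2 : b < 4060 := (by decide : ∀ b ∈ [0, 29, 580, 577], b < 4060) b hb
  rw [(evalT_eq u h2).1, (evalT_eq v h2).1] at h1
  exact h1

end

open Subgroup Cfsg Cfsg.Agent.H301.SY Cfsg.Agent.H387.SyCube Cfsg.Agent.H461.T5 Cfsg.Agent.H461.T5.Ru
open Cfsg.Agent.Lib Cfsg.Agent.SporadicB Cfsg.Agent.SporadicB.RuOrder Cfsg.Agent.RuD.Letters
open Cfsg.Agent.SporRec.TCUpperCert Cfsg.Agent.CpAutRuFive
open Cfsg.Agent.KFacts.Ru Cfsg.Agent.KFacts.Ru.CentEng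

/-- the involutions -/
def wi : ℕ → List ℕ
  | 0 => [3, 1, 7, 0, 5, 4] ++ [0] ++ [8, 5, 0, 3, 6, 7]
  | 1 => [1, 3, 3, 5, 3, 3, 5] ++ [0] ++ [5, 7, 7, 5, 7, 7, 6]
  | 2 => [6, 3, 5, 4, 7, 0, 5] ++ [0] ++ [5, 0, 3, 8, 5, 7, 1]
  | 3 => [3, 5, 3, 6, 5, 3, 5, 4] ++ [0] ++ [8, 5, 7, 5, 1, 7, 5, 7]
  | 4 => [3, 6, 7, 5, 7, 0, 5] ++ [0] ++ [5, 0, 3, 5, 3, 1, 7]
  | 5 => [0, 5, 3, 5, 1, 7, 5] ++ [0] ++ [5, 3, 6, 5, 7, 5, 0]
  | _ => [1, 7, 5, 7, 8, 0, 5] ++ [0] ++ [5, 0, 4, 3, 5, 3, 6]

noncomputable def chkI : Bool :=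
  (List.range 7).all fun i => eqT (wi i ++ wi i) [] &&
    (eqT (wi i ++ wr i ++ (wi i ++ wr i ++ (wi i ++ wr i))) [] &&
      (eqT (wr i ++ (wr i ++ (wr i ++ (wr i ++ wr i)))) [] && !Nat.beq (evalK (wi i) 0) 0))

theorem chk_i : chkI = true := by decide +kernel

theorem not_re_rep {r : RuOrder.H} (hr : Rp 5 (P wa) (P wb) (P wc) r) : ¬ RE r := by
  have : Finite RuOrder.H := finite_H
  obtain ⟨i, hi, rfl⟩ := word_of_rp hr
  have h := List.all_eq_true.1 chk_i i (List.mem_range.2 hi)
  rw [Bool.and_eq_true, Bool.and_eq_true, Bool.and_eq_true] at h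
  obtain ⟨h2, h3, h5, h4⟩ := h
  have e2 := eq_of_chkEq (chkEq_of_T h2)
  have e3 := eq_of_chkEq (chkEq_of_T h3)
  simp only [wprod_append, wprod_nil] at e2 e3
  refine not_re_of_a5 (a := P (wi i)) ?_ ?_ (pow_five (chkEq_of_T h5)) ?_ ?_
  · rw [pow_two]
    exact e2
  · intro h5
    have h6 := evalK_eq (wi i) ⟨0, by norm_num⟩
    have h7 : (wprod ml (wi i) : RuOrder.H) = 1 := h5
    rw [h7] at h6
    simp only [Bool.not_eq_true'] at h4
    exact Nat.ne_of_beq_eq_false h4 h6.symm
  · rw [← e3]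
    simp only [pow_succ, pow_zero, one_mul, mul_assoc]
  · rw [RuOrder.card_H]
    norm_num

theorem noE_five : NoE 5 RuOrder.H := by
  have : Fact (Nat.Prime 5) := ⟨by norm_num⟩
  have : Finite RuOrder.H := finite_H
  have hac := eq_of_chkEq chk_ac
  have hbc := eq_of_chkEq chk_bc
  have hab := eq_of_chkEq chk_ab
  simp only [wprod_append] at hac hbc hab
  refine noE_cube (by rw [RuOrder.card_H]; norm_num) (a := P wa) (b := P wb) (c := P wc) (pow_five chk_a) (pow_five chk_b)
    (pow_five chk_c) ?_ hac hbc hab fun r hr => not_re_rep hr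
  intro h
  have h2 := evalK_eq wc ⟨1, by norm_num⟩
  have h3 : (wprod ml wc : RuOrder.H) = 1 := h
  rw [h3] at h2
  exact Nat.ne_of_beq_eq_false Cfsg.Agent.H461.T5.Ru.chk_ne h2.symm

theorem card_eq {K : Type*} [Group K] (h : Spor.IsoRu K) : Nat.card K = 145926144000 := by
  obtain ⟨e⟩ := h
  rw [Nat.card_congr (e.trans Cfsg.Agent.RuLat.Main.equiv).toEquiv, RuOrder.card_H]

theorem lw_sz {K : Type*} [Group K] [Finite K] (h : Spor.IsoRu K) {p : ℕ} [Fact p.Prime] (hp : p ∣ 29120) : Lw p K := by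
  obtain ⟨C, hsz, hc⟩ := Cfsg.Agent.CTwoTab.Ru.exists_core_sz h
  have hs : IsSimpleGroup ↥C.L := Cfsg.Agent.CTwoTab.Ru.simple_sz hsz
  refine Lw.of_simple (Q := ↥C.L) ?_ (by rwa [hc]) C.L.subtype C.L.subtype_injective ?_
  · intro hsol
    have hcomm : IsMulCommutative ↥C.L := ⟨⟨fun a b => IsSimpleGroup.comm_iff_isSolvable.2 hsol a b⟩⟩
    let _ : CommGroup ↥C.L := { (inferInstance : Group ↥C.L) with mul_comm := hcomm.is_comm.comm }
    have h1 : (Nat.card ↥C.L).Prime := IsSimpleGroup.prime_card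
    rw [hc] at h1
    norm_num at h1
  · intro hsur
    have h1 := Nat.card_le_card_of_surjective _ hsur
    rw [card_eq h, hc] at h1
    norm_num at h1

/-- **the row `Ru` of S3846** -/
theorem noE_ru {K : Type*} [Group K] [Finite K] [IsSimpleGroup K] (h : Cfsg.Spor.IsoRu K) {p : ℕ} [Fact p.Prime]
    (hp : 5 ≤ p) (hb : Cfsg.Agent.H301.SY.Blk p K) (hO : Cfsg.Agent.H301.SY.ThO p K) : Cfsg.Agent.H301.SY.NoE p K := by
  have hpp : p.Prime := Fact.out
  have hcard := card_eq h
  intro x hx hR hY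
  have hpd : p ∣ 2 ^ 14 * 3 ^ 3 * 5 ^ 3 * 7 * 13 * 29 := by
    have : p ∣ Nat.card K := hx ▸ _root_.orderOf_dvd_natCard x
    rw [hcard] at this
    norm_num
    exact this
  have key : p = 5 ∨ p = 7 ∨ p = 13 ∨ p = 29 := by
    have two {q : ℕ} (hq : q.Prime) {k : ℕ} (h : p ∣ q ^ k) : p = q :=
      (Nat.prime_dvd_prime_iff_eq hpp hq).1 (hpp.dvd_of_dvd_pow h)
    have one {q : ℕ} (hq : q.Prime) (h : p ∣ q) : p = q := (Nat.prime_dvd_prime_iff_eq hpp hq).1 h
    rcases hpp.dvd_mul.1 hpd with h5 | h5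
    · rcases hpp.dvd_mul.1 h5 with h5 | h5
      · rcases hpp.dvd_mul.1 h5 with h5 | h5
        · rcases hpp.dvd_mul.1 h5 with h5 | h5
          · rcases hpp.dvd_mul.1 h5 with h5 | h5
            · have := two Nat.prime_two h5; omega
            · have := two Nat.prime_three h5; omega
          · exact Or.inl (two (by norm_num) h5)
        · exact Or.inr (Or.inl (one (by norm_num) h5))
      · exact Or.inr (Or.inr (Or.inl (one (by norm_num) h5)))
    · exact Or.inr (Or.inr (Or.inr (one (by norm_num) h5)))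
  rcases key with rfl | rfl | rfl | rfl
  · obtain ⟨e⟩ := h
    have e' := e.trans Cfsg.Agent.RuLat.Main.equiv
    have : Finite RuOrder.H := finite_H
    exact (noE_five.congr e') x hx hR hY
  · exact NoE.of_lw (cyclic_of_card (by rw [hcard]; norm_num)) (lw_sz h (by norm_num)) x hx hR hY
  · exact NoE.of_lw (cyclic_of_card (by rw [hcard]; norm_num)) (lw_sz h (by norm_num)) x hx hR hY
  · have hcyc : ∀ Q : Sylow 29 K, IsCyclic (Q : Subgroup K) := cyclic_of_card (by rw [hcard]; norm_num)
    have hna : ¬ IsMulCommutative K := by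
      intro hc
      let _ : CommGroup K := { (inferInstance : Group K) with mul_comm := hc.is_comm.comm }
      have h1 : (Nat.card K).Prime := IsSimpleGroup.prime_card
      rw [hcard] at h1
      norm_num at h1
    refine NoE.of_m0 hna hcyc (fun x hx hR hY => m0_num hcyc hb hO hx hR hY ?_) x hx hR hY
    intro t ht ht29 htd
    left
    intro i hi htc
    rw [hcard] at htc
    have h28 : t ∣ 2 ^ 2 * 7 := htd
    rcases ht.dvd_mul.1 h28 with h5 | h5
    · have h6 : t = 2 := (Nat.prime_dvd_prime_iff_eq ht Nat.prime_two).1 (ht.dvd_of_dvd_pow h5)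
      subst h6
      have h7 : i ≤ 14 := by
        by_contra h8
        have h9 : (2 : ℕ) ^ 15 ∣ 145926144000 := (pow_dvd_pow 2 (by omega)).trans htc
        norm_num at h9
      interval_cases i <;> decide
    · have h6 : t = 7 := (Nat.prime_dvd_prime_iff_eq ht (by norm_num)).1 h5
      subst h6
      have h7 : i ≤ 1 := by
        by_contra h8
        have h9 : (7 : ℕ) ^ 2 ∣ 145926144000 := (pow_dvd_pow 7 (by omega)).trans htc
        norm_num at h9
      interval_cases i
      decide

end Cfsg.Agent.H387.SyRu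
end
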