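import Mathlib
import Cfsg.Agent.H478.RadTools_m3
import Cfsg.Agent.H823.NfTwF_m3
import Cfsg.Agent.H454.SpExt
import Cfsg.Agent.H732.SelfCentO
import Cfsg.Agent.S0292
import Cfsg.Agent.S0293
import Cfsg.Agent.H947.Sy.Psu3
import Cfsg.Agent.H301.SY.Spor
import Cfsg.Agent.H509.CycBlock
import Cfsg.Agent.H947.PQ.Own_m3
import Cfsg.Agent.H947.Sy.Psl2A
import Cfsg.Agent.Lib.Zsigmondy
import Cfsg.Agent.Lib.PSL2Inv
import Cfsg.Agent.SignalizersComponents.CoprimeBasic
import Cfsg.Agent.GenExc.Data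
import Cfsg.Agent.H587.AltEnd.Row_m3
import Cfsg.Agent.LieRecognition.ReeTorusTw
import Cfsg.Agent.S1159
import Cfsg.Agent.H880.ClPsuF
import Cfsg.Agent.H129.WData
import Cfsg.Agent.H129.CycRow
import Cfsg.Agent.H129.DataE6
import Cfsg.Agent.ChevalleyStructure.HMatDiagAll
import Cfsg.Agent.ChevalleyStructure.Elts
import Cfsg.Agent.GpExc.Field
import Cfsg.Agent.H129.TriD4
import Cfsg.Agent.S1035
import Cfsg.Agent.S1061
import Cfsg.Agent.S1067
import Mathlib.FieldTheory.Finite.Extension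
import Cfsg.Agent.S1082
import Cfsg.Agent.H129.RootFast
import Cfsg.Agent.H370.LemFMin
import Cfsg.Agent.Lib.PSolvable
import Cfsg.Agent.J4Type.Aut22
import Cfsg.Agent.Leech.HSConfig
import Cfsg.Agent.SporadicA.M24Trans
import Cfsg.Agent.SporadicA.MathieuRecog
import Cfsg.Agent.S2037
import Cfsg.Agent.S0366
import Cfsg.Agent.FooteOdd.SporMEleven
import Cfsg.Agent.MTwelveType.SylowModel
import Cfsg.Agent.H813.RadCo1
import Cfsg.Agent.H587.NR.He
import Cfsg.Agent.H436.HeFive_m3
import Cfsg.Agent.H513.NilpTh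
import Cfsg.Agent.MonsterX.ThOneClass
import Cfsg.Agent.ThType.Main
import Cfsg.Agent.S0205
import Cfsg.Agent.H536.T5.HNRow
import Cfsg.Agent.H517.Conway_m3
import Cfsg.Agent.CpAutHN.Second
import Cfsg.Agent.H561.AAB
import Cfsg.Agent.H547.PP.FarBaby
import Cfsg.Agent.S2470
import Cfsg.Agent.S2904
import Cfsg.Agent.S0243
import Cfsg.Agent.Lib.SolvableMinNormal
import Cfsg.Agent.H412.Tc.Basic
import Cfsg.Agent.H804.TitsFive
import Cfsg.Agent.FastGrp
import Cfsg.Agent.Prune
set_option linter.all false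

section
prune_inst 0x7ff8bcf889b825dedfff7e7fa6d8cffc19901fffa4dff9437fe069ef0bdf030009c5a38d8de010fe0e82421410a87803f9ffdeffe26bdc7ffffd5ff41ffbee0fe5f7b50811948c340f302fff03f0778e7f3fffffffffffffffffffffffffffbeffbfffffffff

-- part: H387/SyPsp_mg
section
prune_inst 0x100000000000000000002200000042000000000000000000001000000820000000000020000000100050000020000000000000000000000000001000000020410000000c00000000000000000000000000000000000000000000000000000000
set_option linter.all false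
open scoped Cfsg.Agent.FastGrp

-- part: H387/SyPsp
section
/-!
# The row `PSp` of S3846 (helper387, for helper301)

`K = PSp_2m(q)`, `x` of prime order `p ≥ 5`, `p ≠ r`, lifted to `A` of order `p`:
* `A u = u` for some `u ≠ 0`: then `x` commutes with a transvection;
* otherwise `p ∣ q ^ 2m - 1 ∣ |SL_2(q ^ m)|` and `Lw p K` holds with the image of `SL_2(q ^ m)`.
-/

set_option autoImplicit false
set_option linter.unusedSectionVars false

namespace Cfsg.Agent.H387.SyPsp

open Subgroup Cfsg Cfsg.Agent.H459.Rad Cfsg.Agent.H459.Iface Cfsg.Agent.H301.SY Cfsg.Agent.H952.Rc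
open Cfsg.Agent.ClassicalGeometry.SympBasic Cfsg.Agent.ClassicalGeometry.SympAutSemi
  Cfsg.Agent.ClassicalGeometry.SympGamma

universe u

/-- the criterion `Lw` from `NoRad` -/
theorem lw_of_noRad {K : Type*} [Group K] [Finite K] {p : ℕ} [hp : Fact p.Prime] {L : Subgroup K} (hL : L ≠ ⊤)
    (hpL : p ∣ Nat.card L) (hn : NoRad p L) : Lw p K := by
  refine ⟨L, hL, hpL, fun h => ?_⟩
  obtain ⟨z, hz⟩ := exists_prime_orderOf_dvd_card' p h
  have h1 : (z : K) ∈ L := radIn_le L z.2
  have h2 : (⟨(z : K), h1⟩ : L) ∈ solvableRadical L := mem_radIn_coe.1 z.2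
  have hzp : (z : K) ^ p = 1 := by
    rw [← hz, ← Subgroup.orderOf_coe, pow_orderOf_eq_one]
  have h3 := hn _ (rad_normal L) (rad_solvable L) ⟨(z : K), h1⟩ h2 (Subtype.ext hzp)
  have h4 : (z : K) = 1 := congrArg Subtype.val h3
  have h5 : z = 1 := Subtype.ext h4
  rw [h5, orderOf_one] at hz
  exact hp.out.one_lt.ne hz

/-- the image of a group with `NoRad` under a homomorphism with kernel of exponent two -/
theorem lw_of_hom {K H : Type*} [Group K] [Finite K] [Group H] [Finite H] {p : ℕ} [hp : Fact p.Prime] (h5 : 5 ≤ p)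
    (f : H →* K) (hk : ∀ a ∈ f.ker, ∀ b ∈ f.ker, a * b = b * a) (h2 : ∀ a ∈ f.ker, a ^ 2 = 1) (hH : NoRad p H)
    (hpH : p ∣ Nat.card H) (hcard : Nat.card H < Nat.card K) : Lw p K := by
  have hodd : Odd p := hp.out.odd_of_ne_two (by omega)
  refine lw_of_noRad (L := f.range) ?_ ?_ ?_
  · intro htop
    have h3 : Nat.card f.range ≤ Nat.card H := Nat.card_le_card_of_surjective f.rangeRestrict f.rangeRestrict_surjective
    rw [htop, Subgroup.card_top] at h3
    omega
  · obtain ⟨z, hz⟩ := exists_prime_orderOf_dvd_card' p hpH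
    have h3 : orderOf (f z) = p := by
      refine orderOf_eq_prime (by rw [← map_pow, ← hz, pow_orderOf_eq_one, map_one]) fun h => ?_
      have h4 := eq_one_of_two hodd (h2 z h) (by rw [← hz, pow_orderOf_eq_one])
      rw [h4, orderOf_one] at hz
      exact hp.out.one_lt.ne hz
    have h4 : orderOf (⟨f z, MonoidHom.mem_range.2 ⟨z, rfl⟩⟩ : f.range) = p := by
      rw [Subgroup.orderOf_mk]; exact h3
    rw [← h4]
    exact _root_.orderOf_dvd_natCard _
  · refine NoRad.of_surjective hodd f.rangeRestrict f.rangeRestrict_surjective ?_ ?_ hH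
    · rw [MonoidHom.ker_rangeRestrict]; exact hk
    · rw [MonoidHom.ker_rangeRestrict]; exact h2

section

variable {F : Type} [Field F] [Fintype F]

theorem card_sp_two (K : Type*) [Field K] [Fintype K] :
    Nat.card (Matrix.symplecticGroup (Fin 1) K) = Fintype.card K * (Fintype.card K ^ 2 - 1) := by
  rw [LieClassical.SympCount.card_symplecticGroup]
  simp only [_root_.one_pow, _root_.pow_one, _root_.Finset.range_one, _root_.Finset.prod_singleton, _root_.zero_add, _root_.mul_one]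

theorem two_lt_pow {q m : ℕ} (hq : 2 ≤ q) (hm : 2 ≤ m) :
    2 * (q ^ m * ((q ^ m) ^ 2 - 1)) < q ^ (m ^ 2) * ∏ i ∈ Finset.range m, (q ^ (2 * (i + 1)) - 1) := by
  obtain ⟨k, rfl⟩ : ∃ k, m = k + 1 := ⟨m - 1, by omega⟩
  rw [Finset.prod_range_succ]
  have h1 : 1 ≤ ∏ i ∈ Finset.range k, (q ^ (2 * (i + 1)) - 1) := by
    apply Nat.one_le_iff_ne_zero.2
    rw [Finset.prod_ne_zero_iff]
    intro i _
    have : 2 ^ (2 * (i + 1)) ≤ q ^ (2 * (i + 1)) := Nat.pow_le_pow_left hq _
    have h2 : 2 ^ 1 ≤ 2 ^ (2 * (i + 1)) := Nat.pow_le_pow_right (by norm_num) (by omega)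
    omega
  have h2 : (q ^ (k + 1)) ^ 2 = q ^ (2 * (k + 1)) := by rw [← pow_mul, mul_comm]
  rw [h2]
  have h3 : q ^ (k + 1) * q ^ 2 ≤ q ^ ((k + 1) ^ 2) := by
    rw [← pow_add]
    apply Nat.pow_le_pow_right (by omega)
    nlinarith only [hm]
  have h4 : 2 ^ 2 ≤ q ^ 2 := Nat.pow_le_pow_left hq _
  have h5 : 0 < q ^ (2 * (k + 1)) - 1 := by
    have : 2 ^ (2 * (k + 1)) ≤ q ^ (2 * (k + 1)) := Nat.pow_le_pow_left hq _
    have h2 : 2 ^ 1 ≤ 2 ^ (2 * (k + 1)) := Nat.pow_le_pow_right (by norm_num) (by omega)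
    omega
  have h6 : 0 < q ^ (k + 1) := Nat.pow_pos (by omega)
  set a := q ^ (2 * (k + 1)) - 1
  set b := q ^ (k + 1)
  set c := ∏ i ∈ Finset.range k, (q ^ (2 * (i + 1)) - 1)
  calc 2 * (b * a) < 4 * (b * a) := by
        have : 0 < b * a := Nat.mul_pos h6 h5
        omega
    _ = (b * 4) * a := by ring
    _ ≤ (b * q ^ 2) * a := Nat.mul_le_mul_right _ (Nat.mul_le_mul_left _ (by simpa using h4))
    _ ≤ q ^ ((k + 1) ^ 2) * a := Nat.mul_le_mul_right _ h3
    _ ≤ q ^ ((k + 1) ^ 2) * (c * a) := by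
        apply Nat.mul_le_mul_left
        exact Nat.le_mul_of_pos_left _ h1

theorem card_psp_ge (m : ℕ) [Finite (PSp m F)] (hm : 1 ≤ m) :
    Nat.card (Matrix.symplecticGroup (Fin m) F) ≤ 2 * Nat.card (PSp m F) := by
  classical
  have h1 : Nat.card (Matrix.symplecticGroup (Fin m) F) =
      Nat.card (PSp m F) * Nat.card (center (Matrix.symplecticGroup (Fin m) F)) :=
    Subgroup.card_eq_card_quotient_mul_card_subgroup _
  have h2 : Nat.card (center (Matrix.symplecticGroup (Fin m) F)) ≤ 2 := by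
    let g : center (Matrix.symplecticGroup (Fin m) F) → F := fun z => z.1.1 (Sum.inl ⟨0, by omega⟩) (Sum.inl ⟨0, by omega⟩)
    have hg : ∀ z, z.1.1 = g z • 1 := by
      intro z
      obtain ⟨a, ha⟩ := (LieClassical.SympCenter.mem_center_iff m z.1).1 z.2
      have : g z = a := by
        change z.1.1 _ _ = a
        rw [ha, Matrix.smul_apply, Matrix.one_apply_eq, smul_eq_mul, mul_one]
      rw [this, ha]
    have hi : Function.Injective g := by
      intro y z h
      apply Subtype.ext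
      apply Subtype.ext
      rw [hg, hg, h]
    have hm1 : ∀ z, g z ∈ ({1, -1} : Finset F) := by
      intro z
      have h3 := sq_center z.2
      have h4 : (z.1 ^ 2).1 = z.1.1 * z.1.1 := by rw [pow_two]; rfl
      have h5 : z.1.1 * z.1.1 = 1 := by rw [← h4, h3]; rfl
      rw [hg z, smul_mul_smul_comm, mul_one] at h5
      have h6 := congrFun (congrFun h5 (Sum.inl ⟨0, by omega⟩)) (Sum.inl ⟨0, by omega⟩)
      rw [Matrix.smul_apply, Matrix.one_apply_eq, smul_eq_mul, mul_one] at h6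
      rw [Finset.mem_insert, Finset.mem_singleton]
      exact mul_self_eq_one_iff.1 h6
    have h3 : Nat.card (center (Matrix.symplecticGroup (Fin m) F)) ≤ Nat.card ({1, -1} : Finset F) :=
      Nat.card_le_card_of_injective (fun z => (⟨g z, hm1 z⟩ : ({1, -1} : Finset F))) fun y z h =>
        hi (congrArg Subtype.val h)
    refine h3.trans ?_
    rw [Nat.card_eq_fintype_card, Fintype.card_coe]
    exact Finset.card_le_two
  rw [h1, mul_comm 2]
  exact Nat.mul_le_mul_left _ h2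

/-- **`Lw` for `PSp_2m(q)`**, by `SL_2(q ^ m)` -/
theorem lw_psp {m p : ℕ} [hp : Fact p.Prime] [Finite (PSp m F)] (h5 : 5 ≤ p) (hm : 2 ≤ m)
    (hpq : p ∣ Fintype.card F ^ (2 * m) - 1) : Lw p (PSp m F) := by
  obtain ⟨ch, hch⟩ := CharP.exists F
  have hchp : Fact ch.Prime := ⟨CharP.char_is_prime F ch⟩
  have : NeZero m := ⟨by omega⟩
  let K := FiniteField.Extension F ch m
  have hKf : Fintype K := Fintype.ofFinite K
  have hK : Fintype.card K = Fintype.card F ^ m := by
    rw [← Nat.card_eq_fintype_card, ← Nat.card_eq_fintype_card]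
    exact FiniteField.natCard_extension F ch m
  obtain ⟨φ, hφ⟩ := Cfsg.Agent.H454.SpExt.exists_hom_card' (K := K) (F := F) (q := Fintype.card F) (k := m)
    (by omega) hK rfl (a := 1) (mul_one m)
  let f : Matrix.symplecticGroup (Fin 1) K →* PSp m F :=
    (QuotientGroup.mk' (center (Matrix.symplecticGroup (Fin m) F))).comp φ
  have hker : ∀ a ∈ f.ker, φ a ∈ center (Matrix.symplecticGroup (Fin m) F) := by
    intro a ha
    exact (QuotientGroup.eq_one_iff _).1 (MonoidHom.mem_ker.1 ha)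
  have hcardK : Nat.card (Matrix.symplecticGroup (Fin 1) K) =
      Fintype.card F ^ m * ((Fintype.card F ^ m) ^ 2 - 1) := by rw [card_sp_two, hK]
  refine lw_of_hom h5 f ?_ ?_ (noRad_symplectic hp.out h5 1) ?_ ?_
  · intro a ha b _
    apply hφ
    rw [map_mul, map_mul]
    exact (mem_center_iff.1 (hker a ha) (φ b)).symm
  · intro a ha
    apply hφ
    rw [map_pow, map_one]
    exact sq_center (hker a ha)
  · rw [hcardK, ← pow_mul, mul_comm m 2]
    exact hpq.mul_left _
  · rw [hcardK]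
    have h1 := card_psp_ge (F := F) m (by omega)
    rw [LieClassical.SympCount.card_symplecticGroup] at h1
    have h2 := two_lt_pow (q := Fintype.card F) (m := m) Fintype.one_lt_card hm
    omega

/-- **the row of `PSp_2m(q)`** -/
theorem crow {m r p : ℕ} [hr : Fact r.Prime] [hp : Fact p.Prime] [CharP F r] [Finite (PSp m F)] (hm : 2 ≤ m)
    (h5 : 5 ≤ p) : CRow r p (PSp m F) := by
  classical
  intro x hx hRC hP
  have hodd : Odd p := hp.out.odd_of_ne_two (by omega)
  obtain ⟨A₀, rfl⟩ := QuotientGroup.mk'_surjective (center (Matrix.symplecticGroup (Fin m) F)) x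
  set π := QuotientGroup.mk' (center (Matrix.symplecticGroup (Fin m) F)) with hπ
  have h0 : A₀ ^ p ∈ center (Matrix.symplecticGroup (Fin m) F) := by
    apply (QuotientGroup.eq_one_iff _).1
    change π (A₀ ^ p) = 1
    rw [map_pow, ← hx, pow_orderOf_eq_one]
  have h1 := sq_center h0
  obtain ⟨A, hA, hπA⟩ : ∃ A : Matrix.symplecticGroup (Fin m) F, A ^ p = 1 ∧ π A = π A₀ := by
    refine ⟨A₀ ^ (p + 1), ?_, ?_⟩
    · obtain ⟨k, hk⟩ := hodd
      have : (p + 1) * p = p * 2 * (k + 1) := by rw [hk]; ring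
      rw [← pow_mul, this, pow_mul, pow_mul, h1, one_pow]
    · rw [map_pow, pow_succ]
      conv_lhs => rw [← hx, pow_orderOf_eq_one, one_mul]
  rw [← hπA] at hx hRC ⊢
  have hnd : ∀ u : Fin m ⊕ Fin m → F, (∀ v, sympBilin m F u v = 0) → u = 0 :=
    fun u hu => eq_zero_of_forall_sympForm_right hu
  have hAlt : (sympBilin m F).IsAlt := sympBilin_isAlt
  by_cases hfix : ∃ u : Fin m ⊕ Fin m → F, u ≠ 0 ∧ rho m F A u = u
  · -- a fixed vector
    left
    obtain ⟨u, hu0, hu⟩ := hfix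
    let Γ : Subgroup ((Fin m ⊕ Fin m → F) ≃ₗ[F] (Fin m ⊕ Fin m → F)) :=
      Cfsg.Agent.BpCl.Iso (fun u v => sympBilin m F u v)
    have hΓ : ∀ h : (Fin m ⊕ Fin m → F) ≃ₗ[F] (Fin m ⊕ Fin m → F),
        h ∈ Γ ↔ ∀ u v, sympBilin m F (h u) (h v) = sympBilin m F u v := fun h => Iff.rfl
    have htv := (hΓ _).1 (tv_mem hAlt hΓ u)
    obtain ⟨T, hT⟩ := exists_rho_eq (tv (sympBilin m F) u (hAlt u)).toEquiv
      (fun a b => map_add (tv (sympBilin m F) u (hAlt u)) a b)
      (fun a b => map_smul (tv (sympBilin m F) u (hAlt u)) a b) (fun a b => htv a b)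
    have hT' : ∀ v, rho m F T v = v + sympBilin m F v u • u := fun v => by rw [hT]; rfl
    have hcomm : A * T = T * A := by
      apply rho_injective
      rw [map_mul, map_mul]
      ext1 v
      change rho m F A (rho m F T v) = rho m F T (rho m F A v)
      have h2 : sympBilin m F (rho m F A v) u = sympBilin m F v u := by
        conv_lhs => rw [← hu]
        exact sympForm_rho A v u
      rw [hT', hT', h2, (isSemi_rho A).1, (isSemi_rho A).2.1, hu]
      rfl
    have hpow : ∀ (n : ℕ) v, rho m F (T ^ n) v = v + (n : F) • (sympBilin m F v u • u) := by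
      intro n
      induction n with
      | zero => intro v; simp only [_root_.pow_zero, _root_.map_one, _root_.Equiv.Perm.coe_one, _root_.id_eq, _root_.Nat.cast_zero, _root_.Cfsg.Agent.ClassicalGeometry.SympBasic.sympBilin_apply, _root_.zero_smul, _root_.add_zero]
      | succ n ih =>
        intro v
        rw [pow_succ, map_mul, Equiv.Perm.mul_apply, hT', ih, map_add, map_smul, LinearMap.add_apply,
          LinearMap.smul_apply, hAlt u, smul_zero, add_zero]
        push_cast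
        module
    have hTr : T ^ r = 1 := by
      apply rho_injective
      ext1 v
      rw [hpow, CharP.cast_eq_zero F r, zero_smul, add_zero, map_one]
      rfl
    have hTc : T ∉ center (Matrix.symplecticGroup (Fin m) F) := by
      intro hc
      obtain ⟨a, ha⟩ := (LieClassical.SympCenter.mem_center_iff m T).1 hc
      have h2 : ∀ v, rho m F T v = a • v := by
        intro v
        rw [rho_apply, ha, Matrix.smul_mulVec, Matrix.one_mulVec]
      obtain ⟨v, hv⟩ := exists_ne_sp hAlt hnd hu0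
      have h3 : v + sympBilin m F v u • u = a • v := by rw [← hT', h2]
      have h4 : sympBilin m F v u = a * sympBilin m F v u := by
        have h5 : sympBilin m F (v + sympBilin m F v u • u) u = sympBilin m F (a • v) u := by rw [h3]
        rwa [map_add, LinearMap.add_apply, map_smul, LinearMap.smul_apply, hAlt u, smul_zero, add_zero, map_smul,
          LinearMap.smul_apply, smul_eq_mul] at h5
      have ha1 : a = 1 := by
        have h5 : (a - 1) * sympBilin m F v u = 0 := by rw [sub_mul, one_mul, ← h4, sub_self]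
        exact sub_eq_zero.1 ((mul_eq_zero.1 h5).resolve_right hv)
      rw [ha1, one_smul, add_eq_left] at h3
      rcases smul_eq_zero.1 h3 with h6 | h6
      · exact hv h6
      · exact hu0 h6
    refine FixR.of_mem (v := π T) (fun h => hTc ((QuotientGroup.eq_one_iff T).1 h)) ?_ ⟨1, ?_⟩
    · rw [MulAut.conj_apply, ← map_mul, hcomm, map_mul, mul_inv_cancel_right]
    · rw [pow_one, ← map_pow, hTr, map_one]
  · -- no fixed vector
    exfalso
    push Not at hfix
    have hpq : p ∣ Fintype.card F ^ (2 * m) - 1 := by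
      have h2 : (rho m F A) ^ p ^ 1 = 1 := by rw [pow_one, ← map_pow, hA, map_one]
      have h3 := Equiv.Perm.card_compl_support_modEq h2
      have h4 : (rho m F A).supportᶜ = {0} := by
        ext v
        rw [Finset.mem_compl, Equiv.Perm.mem_support, not_not, Finset.mem_singleton]
        constructor
        · intro hv
          by_contra h
          exact hfix v h hv
        · rintro rfl
          rw [rho_apply, Matrix.mulVec_zero]
      rw [h4, Finset.card_singleton, Fintype.card_fun, Fintype.card_sum, Fintype.card_fin, ← two_mul] at h3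
      exact (Nat.modEq_iff_dvd' (Nat.one_le_pow _ _ Fintype.card_pos)).1 h3
    exact (lw_psp h5 hm hpq).false hx (RE.of_rc hRC) hP

end

/-- **the row `PSp` of S3846** -/
theorem crow_psp {K : Type*} [Group K] [Finite K] [IsSimpleGroup K] {r p : ℕ} [Fact r.Prime] [Fact p.Prime]
    (h : Cfsg.IsPSpChar r K) (hp : 5 ≤ p) (_hpr : p ≠ r) : Cfsg.Agent.H301.SY.CRow r p K := by
  obtain ⟨F, _, _, _, m, hm, -, ⟨e⟩⟩ := h
  have : Finite (PSp m F) := Finite.of_equiv _ e.toEquiv
  exact (crow hm hp).congr e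

end Cfsg.Agent.H387.SyPsp
end

-- part: H491/SY/MinusZc
section
/-!
# `PΩ⁻_{2m}(q)`: elements whose centralizer has order prime to the characteristic (helper491, for S3846)
-/

set_option autoImplicit false
set_option linter.unusedSectionVars false

namespace Cfsg.Agent.H491.SY

open Module Cfsg Cfsg.Agent.H150
open Cfsg.Agent.LieClassical.OrthCount Cfsg.Agent.LieClassical.OmegaReindex
open Cfsg.Agent.H377

universe u

variable {F : Type u} [Field F]

/-- commuting isometries from an element of order `r w` of `PΩ(Q)` -/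
theorem pomega_pair {ι : Type} [Fintype ι] [DecidableEq ι] [Finite F] (Q : QuadraticForm F (ι → F))
    (hQ : (QuadraticMap.polarBilin Q).Nondegenerate)
    (hn : 3 ≤ Fintype.card ι) (hs : ∃ u : ι → F, u ≠ 0 ∧ Q u = 0) {w r : ℕ} (hw : w.Prime) (hw2 : w ≠ 2)
    (hr : r.Prime) (hr2 : r ≠ 2) (hwr : w ≠ r) {g : POmega F (⇑Q)} (hg : orderOf g = r * w) :
    ∃ X Y : OG Q, X * Y = Y * X ∧ X ^ w = 1 ∧ X ≠ 1 ∧ Y ^ r = 1 ∧ Y ≠ 1 := by
  obtain ⟨T, rfl⟩ := QuotientGroup.mk_surjective g
  have hTj : ∀ j, ((∀ v, ((isometryGroupEquiv Q T.1 ^ j : OG Q) : (ι → F) ≃ₗ[F] (ι → F)) v = v) ∨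
      (∀ v, ((isometryGroupEquiv Q T.1 ^ j : OG Q) : (ι → F) ≃ₗ[F] (ι → F)) v = -v)) ↔ r * w ∣ j := by
    intro j
    rw [← hg, orderOf_dvd_iff_pow_eq_one, ← QuotientGroup.mk_pow, QuotientGroup.eq_one_iff,
      Cfsg.Agent.LieClassical.OrthCenter.mem_center_omega_iff hQ hn hs]
    have e : (((T ^ j : Omega F (⇑Q)) : isometryGroup F (⇑Q)) : Matrix.GeneralLinearGroup ι F) =
        ((T.1 ^ j : isometryGroup F (⇑Q)) : Matrix.GeneralLinearGroup ι F) := by
      rw [SubgroupClass.coe_pow]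
    rw [e]
    constructor
    · rintro (h1 | h1)
      · left
        apply Matrix.mulVec_injective
        funext v
        rw [← coe_pow_matrix, h1, Matrix.one_mulVec]
      · right
        apply Matrix.mulVec_injective
        funext v
        rw [← coe_pow_matrix, h1, Matrix.neg_mulVec, Matrix.one_mulVec]
    · rintro (h1 | h1)
      · left
        intro v
        rw [coe_pow_matrix, h1, Matrix.one_mulVec]
      · right
        intro v
        rw [coe_pow_matrix, h1, Matrix.neg_mulVec, Matrix.one_mulVec]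
  generalize isometryGroupEquiv Q T.1 = S at hTj
  have h1 := (hTj (r * w)).2 dvd_rfl
  have hmul : ∀ (a b : ℕ) (v : ι → F), ((S ^ (a + b) : OG Q) : (ι → F) ≃ₗ[F] (ι → F)) v =
      ((S ^ a : OG Q) : (ι → F) ≃ₗ[F] (ι → F)) (((S ^ b : OG Q) : (ι → F) ≃ₗ[F] (ι → F)) v) := by
    intro a b v
    rw [pow_add]
    rfl
  have h4r : S ^ (2 * (r * w)) = 1 := by
    have e : 2 * (r * w) = r * w + r * w := by ring
    apply Subtype.ext
    apply LinearEquiv.ext
    intro v
    rw [e, hmul]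
    rcases h1 with h1 | h1
    · rw [h1, h1]; rfl
    · rw [h1, h1, neg_neg]; rfl
  refine ⟨S ^ (2 * r), S ^ (2 * w), ?_, ?_, ?_, ?_, ?_⟩
  · rw [← pow_add, ← pow_add, add_comm]
  · rw [← pow_mul, mul_assoc, h4r]
  · intro h2
    have h3 := (hTj (2 * r)).1 (Or.inl fun v => by rw [h2]; rfl)
    have h4 : w ∣ 2 * r := (Dvd.intro_left _ rfl).trans h3
    rcases hw.dvd_mul.1 h4 with h5 | h5
    · exact hw2 ((Nat.prime_dvd_prime_iff_eq hw Nat.prime_two).1 h5)
    · exact hwr ((Nat.prime_dvd_prime_iff_eq hw hr).1 h5)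
  · rw [← pow_mul, mul_assoc, mul_comm w r, h4r]
  · intro h2
    have h3 := (hTj (2 * w)).1 (Or.inl fun v => by rw [h2]; rfl)
    have h4 : r ∣ 2 * w := (Dvd.intro _ rfl).trans h3
    rcases hr.dvd_mul.1 h4 with h5 | h5
    · exact hr2 ((Nat.prime_dvd_prime_iff_eq hr Nat.prime_two).1 h5)
    · exact hwr ((Nat.prime_dvd_prime_iff_eq hr hw).1 h5).symm

/-- a unipotent isometry of a nondegenerate plane in odd characteristic is trivial -/
theorem plane_unip {V : Type*} [AddCommGroup V] [Module F V] [FiniteDimensional F V] (h2 : (2 : F) ≠ 0)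
    (Q : QuadraticForm F V) {C : Submodule F V} (hC : finrank F C ≤ 2)
    (hnd : ∀ u ∈ C, (∀ v ∈ C, QuadraticMap.polar Q u v = 0) → u = 0) {y : V →ₗ[F] V} (hyC : ∀ v ∈ C, y v ∈ C)
    (hyQ : ∀ v, Q (y v) = Q v) (hN : IsNilpotent (y - 1)) : ∀ v ∈ C, y v = v := by
  by_contra hcon
  push Not at hcon
  obtain ⟨v, hv, hyv⟩ := hcon
  set N := y - 1 with hNdef
  have hNC : ∀ u ∈ C, N u ∈ C := fun u hu => C.sub_mem (hyC u hu) hu
  -- a fixed vector
  obtain ⟨c, hc, hc0, hNc⟩ := exists_ker_of_isNilpotent N hN C hNC (by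
    rw [Submodule.ne_bot_iff]
    refine ⟨v, hv, fun h => hyv ?_⟩
    rw [h, map_zero])
  have hyc : y c = c := by
    have h1 : y c - c = 0 := hNc
    exact sub_eq_zero.1 h1
  have hNv : N v ≠ 0 := fun h => hyv (sub_eq_zero.1 h)
  have hli : LinearIndependent F ![(⟨c, hc⟩ : C), ⟨v, hv⟩] := by
    rw [LinearIndependent.pair_iff]
    intro a b hab
    have h1 : a • c + b • v = 0 := congrArg Subtype.val hab
    have h3 : b • N v = 0 := by
      have := congrArg N h1
      rw [map_add, map_smul, map_smul, hNc, smul_zero, zero_add, map_zero] at this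
      exact this
    have hb : b = 0 := (smul_eq_zero.1 h3).resolve_right hNv
    rw [hb, zero_smul, add_zero] at h1
    exact ⟨(smul_eq_zero.1 h1).resolve_right hc0, hb⟩
  have hcard : Fintype.card (Fin 2) = finrank F C := by
    have := hli.fintype_card_le_finrank
    rw [Fintype.card_fin] at this ⊢
    omega
  have hspan := hli.span_eq_top_of_card_eq_finrank' hcard
  have hsp : ∀ u ∈ C, ∃ a b : F, u = a • c + b • v := by
    intro u hu
    have h1 : (⟨u, hu⟩ : C) ∈ Submodule.span F (Set.range ![(⟨c, hc⟩ : C), ⟨v, hv⟩]) := by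
      rw [hspan]; exact Submodule.mem_top
    rw [Matrix.range_cons, Matrix.range_cons, Matrix.range_empty, Set.union_empty, Set.singleton_union,
      Submodule.mem_span_pair] at h1
    obtain ⟨a, b, h1⟩ := h1
    exact ⟨a, b, (congrArg Subtype.val h1).symm⟩
  have hpol := polar_isom Q y hyQ
  -- `N v` is orthogonal to `c`
  have h3 : QuadraticMap.polar Q c (N v) = 0 := by
    have h4 := hpol c v
    rw [hyc] at h4
    have e : y v = N v + v := by rw [hNdef, LinearMap.sub_apply, Module.End.one_apply, sub_add_cancel]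
    rw [e, QuadraticMap.polar_add_right] at h4
    exact add_eq_right.1 h4
  obtain ⟨a, b, hab⟩ := hsp (N v) (hNC v hv)
  -- `N v` is a multiple of `c`
  have hb : b = 0 := by
    by_contra hb
    obtain ⟨n, hn⟩ := hN
    have hk : ∀ k : ℕ, ∃ a' : F, (N ^ k) v = a' • c + b ^ k • v := by
      intro k
      induction k with
      | zero => exact ⟨0, by simp⟩
      | succ k ih =>
        obtain ⟨a', ha'⟩ := ih
        refine ⟨b ^ k * a, ?_⟩
        rw [pow_succ', Module.End.mul_apply, ha', map_add, map_smul, map_smul, hNc, hab, smul_zero, zero_add,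
          smul_add, smul_smul, smul_smul, pow_succ]
    obtain ⟨a', ha'⟩ := hk n
    rw [hn, LinearMap.zero_apply] at ha'
    have h5 := LinearIndependent.pair_iff.1 hli a' (b ^ n) (Subtype.ext ha'.symm)
    exact hb ((pow_eq_zero_iff (n := n + 1) (by omega)).1 (by rw [pow_succ, h5.2, zero_mul]))
  rw [hb, zero_smul, add_zero] at hab
  have ha0 : a ≠ 0 := by
    rintro rfl
    rw [zero_smul] at hab
    exact hNv hab
  have hyv' : y v = v + a • c := by
    have : y v - v = a • c := hab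
    rw [← this]; abel
  -- `c` is orthogonal to itself
  have hcc : QuadraticMap.polar Q c c = 0 := by
    rw [hab, QuadraticMap.polar_smul_right, smul_eq_mul] at h3
    exact (mul_eq_zero.1 h3).resolve_left ha0
  have hQc : Q c = 0 := by
    rw [QuadraticMap.polar_self, two_nsmul, ← two_mul] at hcc
    exact (mul_eq_zero.1 hcc).resolve_left h2
  have hcv : QuadraticMap.polar Q c v = 0 := by
    have h4 := hyQ v
    have h5 : Q (v + a • c) = Q v + Q (a • c) + QuadraticMap.polar Q v (a • c) := by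
      unfold QuadraticMap.polar; ring
    rw [hyv', h5, QuadraticMap.map_smul, hQc, smul_zero, add_zero, QuadraticMap.polar_smul_right, smul_eq_mul] at h4
    have h6 := add_eq_left.1 h4
    rw [QuadraticMap.polar_comm]
    exact (mul_eq_zero.1 h6).resolve_left ha0
  apply hc0
  apply hnd c hc
  intro u hu
  obtain ⟨a', b', rfl⟩ := hsp u hu
  rw [QuadraticMap.polar_add_right, QuadraticMap.polar_smul_right, QuadraticMap.polar_smul_right, hcc, hcv, smul_zero,
    smul_zero, add_zero]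

/-- **no elements of order `r w`**, `r` the odd characteristic, `ord_w (q) = 2 (n - 1)` -/
theorem gen_partial_char {ι : Type} [Fintype ι] [DecidableEq ι] [Finite F] (Q : QuadraticForm F (ι → F))
    (hQ : (QuadraticMap.polarBilin Q).Nondegenerate) {n : ℕ} (hdim : finrank F (ι → F) = 2 * n)
    (hs : ∃ u : ι → F, u ≠ 0 ∧ Q u = 0) {w r : ℕ} (hw : w.Prime) (hw2 : w ≠ 2) (hwF : (w : F) ≠ 0)
    (hr : r.Prime) (hr2 : r ≠ 2) [hcr : CharP F r] (hn : 4 ≤ n)
    (hk : orderOf ((Nat.card F : ℕ) : ZMod w) = 2 * (n - 1)) (g : POmega F (⇑Q)) : orderOf g ≠ r * w := by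
  intro hg
  have hι : Fintype.card ι = 2 * n := by rw [← hdim]; simp only [_root_.Module.finrank_fintype_fun_eq_card]
  have hr0 : (r : F) = 0 := CharP.cast_eq_zero F r
  have hwr : w ≠ r := by
    rintro rfl
    exact hwF hr0
  have h2 : (2 : F) ≠ 0 := by
    intro h
    have h1 : r ∣ 2 := (CharP.cast_eq_zero_iff F r 2).1 (by exact_mod_cast h)
    exact hr2 ((Nat.prime_dvd_prime_iff_eq hr Nat.prime_two).1 h1)
  obtain ⟨X, Y, hXY, hXw, hX1, hYr, hY1⟩ := pomega_pair Q hQ (by omega) hs hw hw2 hr hr2 hwr hg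
  set x : (ι → F) →ₗ[F] (ι → F) := ((X : (ι → F) ≃ₗ[F] (ι → F)) : (ι → F) →ₗ[F] (ι → F)) with hx
  set y : (ι → F) →ₗ[F] (ι → F) := ((Y : (ι → F) ≃ₗ[F] (ι → F)) : (ι → F) →ₗ[F] (ι → F)) with hy
  have hxy : ∀ v, x (y v) = y (x v) := fun v =>
    congrArg (fun Z : OG Q => (Z : (ι → F) ≃ₗ[F] (ι → F)) v) hXY
  have hxw : x ^ w = 1 := (og_pow_eq_one_iff X x (fun _ => rfl) w).1 hXw
  have hyr : y ^ r = 1 := (og_pow_eq_one_iff Y y (fun _ => rfl) r).1 hYr
  have hx1 : x ≠ 1 := by
    intro h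
    apply hX1
    rw [← pow_one X, og_pow_eq_one_iff X x (fun _ => rfl), pow_one, h]
  have hy1 : y ≠ 1 := by
    intro h
    apply hY1
    rw [← pow_one Y, og_pow_eq_one_iff Y y (fun _ => rfl), pow_one, h]
  have hnd : ND Q := fun u hu => hQ.1 u hu
  have hB : ∀ v w, QuadraticMap.polarBilin Q (x v) (x w) = QuadraticMap.polarBilin Q v w :=
    fun v w => polar_isom Q x X.2 v w
  -- `y` is unipotent
  have hnil : IsNilpotent (y - 1) := by
    refine ⟨r, ?_⟩
    have : ExpChar (Module.End F (ι → F)) r := by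
      have : CharP (Module.End F (ι → F)) r := by
        have : Nonempty ι := Fintype.card_pos_iff.1 (by omega)
        have : Nontrivial (ι → F) := inferInstance
        exact charP_of_injective_algebraMap (R := F) (FaithfulSMul.algebraMap_injective F (Module.End F (ι → F))) r
      exact ExpChar.prime hr
    rw [sub_pow_expChar_of_commute r (Commute.one_right y), hyr, one_pow, sub_self]
  have hcompl := isCompl_fix hwF x hxw
  have hsum := Submodule.finrank_add_eq_of_isCompl hcompl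
  have hxM := (range_inv (x := x) (y := x) (fun v => rfl)).1
  have hyM := (range_inv hxy).1
  have hyC := (range_inv hxy).2
  have hfpf := fpf_range hwF x hxw
  have hkd := dvd_finrank_of_fpf_submodule hw x hxw _ hxM hfpf
  rw [hk] at hkd
  have hM0 : LinearMap.range (x - 1) ≠ ⊥ := by
    intro h
    rw [LinearMap.range_eq_bot, sub_eq_zero] at h
    exact hx1 h
  have hMpos : 0 < finrank F (LinearMap.range (x - 1)) := Nat.pos_of_ne_zero fun h =>
    hM0 (Submodule.finrank_eq_zero.1 h)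
  have hMle := Submodule.finrank_le (LinearMap.range (x - 1))
  have hMdim : finrank F (LinearMap.range (x - 1)) = 2 * (n - 1) := by
    obtain ⟨c, hc⟩ := hkd
    have hc1 : c = 1 := by
      have h3 : 0 < c := by
        rcases Nat.eq_zero_or_pos c with h | h
        · rw [h, mul_zero] at hc; omega
        · exact h
      by_contra hne
      have h4 : 2 ≤ c := by omega
      have h5 : 2 * (n - 1) * 2 ≤ 2 * (n - 1) * c := Nat.mul_le_mul_left _ h4
      omega
    rw [hc, hc1, mul_one]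
  -- `y = 1` on `M`
  have hNM : ∀ v ∈ LinearMap.range (x - 1), (y - 1) v ∈ LinearMap.range (x - 1) := fun v hv =>
    Submodule.sub_mem _ (hyM v hv) hv
  have hyM1 : ∀ v ∈ LinearMap.range (x - 1), y v = v := by
    obtain ⟨c, hc, hc0, hNc⟩ := exists_ker_of_isNilpotent (y - 1) hnil _ hNM hM0
    have hKinv : ∀ v ∈ LinearMap.ker (y - 1) ⊓ LinearMap.range (x - 1),
        x v ∈ LinearMap.ker (y - 1) ⊓ LinearMap.range (x - 1) := by
      rintro v ⟨h1, h3⟩
      refine ⟨?_, hxM v h3⟩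
      have h1' : y v - v = 0 := h1
      show y (x v) - x v = 0
      rw [← hxy, ← map_sub, h1', map_zero]
    have h3 := dvd_finrank_of_fpf_submodule hw x hxw _ hKinv (fun v hv => hfpf v hv.2)
    rw [hk] at h3
    have h4 : 0 < finrank F ↥(LinearMap.ker (y - 1) ⊓ LinearMap.range (x - 1)) := by
      rw [Module.finrank_pos_iff]
      refine Submodule.nontrivial_iff_ne_bot.2 ?_
      rw [Submodule.ne_bot_iff]
      exact ⟨c, ⟨hNc, hc⟩, hc0⟩
    have h5 := Nat.le_of_dvd h4 h3
    have h6 : LinearMap.ker (y - 1) ⊓ LinearMap.range (x - 1) = LinearMap.range (x - 1) :=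
      Submodule.eq_of_le_of_finrank_le inf_le_right (by rw [hMdim]; exact h5)
    intro v hv
    rw [← h6] at hv
    exact sub_eq_zero.1 (show y v - v = 0 from hv.1)
  -- `y = 1` on `C`
  have hCnd : ∀ u ∈ LinearMap.ker (x - 1), (∀ v ∈ LinearMap.ker (x - 1), QuadraticMap.polar Q u v = 0) → u = 0 := by
    intro u hu h
    apply hnd
    intro v
    obtain ⟨a, ha, b, hb, rfl⟩ := Submodule.mem_sup.1
      (show v ∈ LinearMap.ker (x - 1) ⊔ LinearMap.range (x - 1) by rw [hcompl.sup_eq_top]; trivial)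
    obtain ⟨b', rfl⟩ := hb
    have hu' : x u = u := sub_eq_zero.1 (show x u - u = 0 from hu)
    have h1 : QuadraticMap.polar Q u (x b') = QuadraticMap.polar Q u b' := by
      conv_lhs => rw [← hu']
      exact polar_isom Q x X.2 u b'
    rw [QuadraticMap.polar_add_right, h a ha, zero_add, LinearMap.sub_apply, Module.End.one_apply,
      QuadraticMap.polar_sub_right, h1, sub_self]
  have hyC1 := plane_unip h2 Q (C := LinearMap.ker (x - 1)) (by omega) hCnd hyC Y.2 hnil
  apply hy1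
  apply LinearMap.ext
  intro v
  obtain ⟨a, ha, b, hb, rfl⟩ := Submodule.mem_sup.1
    (show v ∈ LinearMap.ker (x - 1) ⊔ LinearMap.range (x - 1) by rw [hcompl.sup_eq_top]; trivial)
  rw [map_add, hyC1 a ha, hyM1 b hb]
  rfl

/-- **`Zc` for `PΩ⁻_{2m}(q)` and `p = 2 m + 1`, `q` primitive modulo `p`** -/
theorem zc_minus {F : Type*} [Field F] [Fintype F] {m : ℕ} (hm : 4 ≤ m) {a b : F}
    (hab : ∀ z₁ z₂ : F, z₁ ^ 2 + a * z₁ * z₂ + b * z₂ ^ 2 = 0 → z₁ = 0 ∧ z₂ = 0) {r p : ℕ} [hr : Fact r.Prime]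
    [CharP F r] (hp : p.Prime) (hpm : p = 2 * m + 1) (hord : orderOf ((Nat.card F : ℕ) : ZMod p) = 2 * m) :
    Cfsg.Agent.H301.SY.Zc r p (POmega F (quadFormMinus (m - 1) F a b)) := by
  have hm4 : m ≠ 4 := by
    rintro rfl
    rw [hpm] at hp
    exact absurd hp (by norm_num)
  have hcard := Cfsg.Agent.S0294.result (F := F) rfl m hm a b hab
  have hdim : finrank F ((Fin (m - 1) ⊕ Fin (m - 1)) ⊕ Fin 2 → F) = 2 * m := by simp only [_root_.Module.finrank_fintype_fun_eq_card, _root_.Fintype.card_sum, _root_.Fintype.card_fin]; omega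
  have hnd := quadMinus_nondegenerate (m := m - 1) (F := F) hab
  have hs := quadMinus_sing (F := F) (n := m - 1) (by omega) a b
  obtain ⟨w, hw, hw2, hwF, hk, hwm⟩ := exists_primitive_prime (F := F) (k := 2 * (m - 1)) (by omega) (by omega)
  have hwd : w ∣ Nat.card (POmega F (quadFormMinus (m - 1) F a b)) := by
    refine dvd_of_gcd_mul hw hw2 hcard (dvd_mul_of_dvd_right ?_ _)
    exact dvd_prod_factor hwm (i := m - 1) (by omega) le_rfl dvd_rfl
  have hfin : Finite (POmega F (quadFormMinus (m - 1) F a b)) := by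
    rw [← coe_quadMinus]
    exact Quotient.finite _
  have : Fact w.Prime := ⟨hw⟩
  have hne : ∀ g : POmega F (quadFormMinus (m - 1) F a b), orderOf g ≠ r * w := by
    rw [← coe_quadMinus]
    intro g
    by_cases hr2 : r = 2
    · have h2 : (2 : F) = 0 := by
        have h3 : ((r : ℕ) : F) = 0 := CharP.cast_eq_zero F r
        rw [hr2] at h3
        exact_mod_cast h3
      rw [hr2]
      exact gen_partial_even h2 (quadMinus (m - 1) F a b) hnd hdim hs hw hw2 hwF hm hk
        (Or.inr ⟨even_two_mul _, rfl⟩) g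
    · exact gen_partial_char (quadMinus (m - 1) F a b) hnd hdim hs hw hw2 hwF hr.out hr2 hm hk g
  obtain ⟨z, hz⟩ := exists_prime_orderOf_dvd_card' w hwd
  have hwr : w ≠ r := by
    rintro rfl
    exact hwF (CharP.cast_eq_zero F w)
  -- `w ≥ 2 m - 1`
  have hwge : 2 * (m - 1) ∣ w - 1 := by
    rw [← hk]
    have h1 : ((Nat.card F : ℕ) : ZMod w) ≠ 0 := by
      intro h
      have h2 := (ZMod.natCast_eq_zero_iff _ _).1 h
      have h3 : orderOf (((Nat.card F : ℕ) : ZMod w)) = 0 := by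
        rw [h, orderOf_eq_zero_iff']
        intro n hn h4
        rw [zero_pow (by omega)] at h4
        exact zero_ne_one h4
      omega
    exact orderOf_dvd_of_pow_eq_one (ZMod.pow_card_sub_one_eq_one h1)
  have hw1 := hw.two_le
  have hwge' : 2 * (m - 1) ≤ w - 1 := Nat.le_of_dvd (by omega) hwge
  intro s hsp hsd hsr
  refine ⟨z, ?_, ?_, ?_⟩
  · rintro rfl
    rw [orderOf_one] at hz
    omega
  · intro hd
    obtain ⟨u, hu⟩ := exists_prime_orderOf_dvd_card' r hd
    have hu' : orderOf (u : POmega F (quadFormMinus (m - 1) F a b)) = r := by rw [Subgroup.orderOf_coe]; exact hu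
    have hcom : Commute (u : POmega F (quadFormMinus (m - 1) F a b)) z :=
      Subgroup.mem_centralizer_singleton_iff.1 u.2
    apply hne ((u : POmega F (quadFormMinus (m - 1) F a b)) * z)
    rw [hcom.orderOf_mul_eq_mul_orderOf_of_coprime, hu', hz]
    rw [hu', hz]
    exact (Nat.coprime_primes hr.out hw).2 hwr.symm
  · rw [hz]
    rw [Nat.coprime_mul_iff_right]
    constructor
    · refine (Nat.coprime_primes hw hp).2 ?_
      rintro rfl
      rw [hk] at hord
      (clear * - hw1 hpm hord; omega)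
    · refine (Nat.coprime_primes hw hsp).2 ?_
      rintro rfl
      have h1 : p - 1 = 2 * m := by omega
      rw [h1] at hsd
      obtain ⟨c, hc⟩ := hsd
      have hc1 : c = 1 := by
        have hc0 : c ≠ 0 := by
          rintro rfl
          omega
        by_contra hne
        have h2 : w * 2 ≤ w * c := Nat.mul_le_mul_left _ (by omega)
        (clear * - hw1 hwge' hc h2; omega)
      rw [hc1, mul_one] at hc
      have h3 : 2 ∣ w := ⟨m, by omega⟩
      exact hw2 ((Nat.prime_dvd_prime_iff_eq Nat.prime_two hw).1 h3).symm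

end Cfsg.Agent.H491.SY
end

-- part: H62/SYOrth
section
/-!
# S3846: the rows `Ω_{2m+1}(q)`, `PΩ⁺_{2m}(q)` (and the irreducible case for `PΩ⁻_{2m}(q)`) (helper62)

* `fixR_or_irr` : a radical inner automorphism of order `p ≥ 5` of `PΩ(V)` normalises an `r`-subgroup or is induced by
  an irreducible isometry;
* `le_finrank` : `dim V ≤ i` if `p ∣ q ^ i - 1` and an element of order `p` acts irreducibly;
* `crow_of_card` : the row, if no `q ^ i - 1`, ... ;
* `crow_omega_odd`, `crow_omega_plus`.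
-/

set_option autoImplicit false
set_option linter.unusedSectionVars false

namespace Cfsg.Agent.H62.SYOrth

open Subgroup Cfsg Cfsg.Agent.H459.Rad Cfsg.Agent.H459.Iface QuadraticMap Cfsg.Agent.H952.Rc Cfsg.Agent.H301.SY
open Cfsg.Agent.BpCl (Semi SemiIso)
open Cfsg.Agent.LieClassical.OrthCore Cfsg.Agent.LieClassical.OrthTrans Cfsg.Agent.LieClassical.OrthSimple

universe u v

section Main

variable {F : Type u} {V : Type v} [Field F] [AddCommGroup V] [Module F V] {Q : QuadraticForm F V}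
  {Γ : Subgroup (V ≃ₗ[F] V)}

/-- **Linear isometries** : the irreducible case is left. -/
theorem fixR_or_irr [Finite F] [FiniteDimensional F V] {r p : ℕ} [hr : Fact r.Prime] [hp : Fact p.Prime]
    [CharP F r] (h5 : 5 ≤ p) (hpF : (p : F) ≠ 0) (hQ : Nondeg Q) (hd : 7 ≤ Module.finrank F V) (hΓ : Γ = E Q)
    {x : MulAut (↥Γ ⧸ center ↥Γ)} {g : V ≃ₗ[F] V} (hgO : g ∈ O Q) (hgp : g ^ p = 1) (hg1 : g ≠ 1)
    (hx : Comp x g.toEquiv) (hRC : RC x) :
    FixR r x ∨ ∀ U : Submodule F V, (∀ v ∈ U, g v ∈ U) → U = ⊥ ∨ U = ⊤ := by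
  have hG : Good Q := Cfsg.Agent.LieClassical.OrthFinite.good_of_finite hQ (by omega)
  have hVf : Finite V := Module.finite_of_finite F
  have hf0 : Finite (V ≃ₗ[F] V) := Finite.of_injective (fun h : V ≃ₗ[F] V => (h : V → V)) DFunLike.coe_injective
  have hVn : Nontrivial V := Module.nontrivial_of_finrank_pos (R := F) (by omega)
  have hodd : Odd p := hp.out.odd_of_ne_two (by omega)
  have hrefl := polarBilin_refl Q
  have hform' : ∀ u v, polarBilin Q (g u) (g v) = polarBilin Q u v := fun u v => polar_map hgO u v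
  have hform : ∀ u v, polarBilin Q (g.toEquiv u) (g.toEquiv v) = (RingEquiv.refl F) (polarBilin Q u v) :=
    fun u v => polar_map hgO u v
  -- a totally singular invariant subspace
  have hts : ∀ U : Submodule F V, U ≠ ⊥ → (∀ u ∈ U, g u ∈ U) → (∀ u ∈ U, Q u = 0) → FixR r x := by
    intro U hU0 hU hUQ
    obtain ⟨u, hu, hu0⟩ := Submodule.exists_mem_ne_zero_of_ne_bot hU0
    have hU' : ∀ v, g v ∈ U ↔ v ∈ U := inv_iff (g := g.toEquiv) hU
    have hUU : ∀ u ∈ U, ∀ v ∈ U, polar Q u v = 0 := by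
      intro u hu v hv
      unfold polar
      rw [hUQ _ (U.add_mem hu hv), hUQ u hu, hUQ v hv, sub_zero, sub_zero]
    have hUP : U ≤ LinearMap.BilinForm.orthogonal (polarBilin Q) U := fun v hv w hw => hUU w hw v hv
    obtain ⟨w, hw, hwu⟩ : ∃ w ∈ LinearMap.BilinForm.orthogonal (polarBilin Q) U, w ∉ Submodule.span F {u} := by
      by_contra hcon
      push Not at hcon
      have h1 : LinearMap.BilinForm.orthogonal (polarBilin Q) U ≤ Submodule.span F {u} := hcon
      have h2 := Submodule.finrank_mono h1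
      have h3 := Submodule.finrank_mono hUP
      have h4 := finrank_span_singleton (K := F) hu0
      have h6 := LinearMap.BilinForm.finrank_add_finrank_orthogonal hrefl U
      omega
    have hu' : Q u = 0 := hUQ u hu
    have hw' : polar Q u w = 0 := hw u hu
    have hmem : siegel Q u w hu' hw' ∈ Γ := by rw [hΓ]; exact siegel_mem_E hu' hw'
    refine hx.fixR_unip (fun u v => map_add g u v) (U := U) (P := LinearMap.BilinForm.orthogonal (polarBilin Q) U) hUP
      hU' (orth_iff hform hU') ⟨_, hmem⟩ ?_ ?_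
    · refine ⟨fun v hv => ?_, fun v hv => ?_, fun v => ?_⟩
      · change siegel Q u w hu' hw' v = v
        have h1 : polar Q w v = 0 := by rw [polar_comm]; exact hw v hv
        rw [siegel_apply, hUU u hu v hv, h1, zero_smul, zero_smul, mul_zero, zero_smul, add_zero, sub_zero, sub_zero]
      · change siegel Q u w hu' hw' v - v ∈ U
        have h1 : polar Q u v = 0 := hv u hu
        rw [siegel_apply, h1, zero_smul, mul_zero, zero_smul, add_zero, sub_zero, sub_sub_cancel_left]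
        exact U.neg_mem (U.smul_mem _ hu)
      · change siegel Q u w hu' hw' v - v ∈ LinearMap.BilinForm.orthogonal (polarBilin Q) U
        have e : siegel Q u w hu' hw' v - v = polar Q u v • w - polar Q w v • u - (Q w * polar Q u v) • u := by
          rw [siegel_apply]; abel
        rw [e]
        exact Submodule.sub_mem _ (Submodule.sub_mem _ (Submodule.smul_mem _ _ hw)
          (Submodule.smul_mem _ _ (hUP hu))) (Submodule.smul_mem _ _ (hUP hu))
    · intro hz
      obtain ⟨c, hc⟩ := center_scalar_orth hG hΓ hz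
      have hc' : ∀ v, siegel Q u w hu' hw' v = c • v := hc
      have h1 := hc' u
      have h2 : polar Q u u = 0 := polar_self_of_sing hu'
      have h3 : polar Q w u = 0 := by rw [polar_comm]; exact hw'
      rw [siegel_apply, h2, h3, zero_smul, zero_smul, mul_zero, zero_smul, add_zero, sub_zero, sub_zero] at h1
      have hc1 : c = 1 := by
        have h4 : (c - 1) • u = 0 := by rw [sub_smul, one_smul, ← h1, sub_self]
        rcases smul_eq_zero.1 h4 with h5 | h5
        · exact sub_eq_zero.1 h5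
        · exact absurd h5 hu0
      obtain ⟨u', huu'⟩ := exists_hyp hG.nondeg hu' hu0
      have h4 := hc' u'
      rw [siegel_apply, huu'.pair, hc1, one_smul, one_smul, mul_one] at h4
      apply hwu
      rw [Submodule.mem_span_singleton]
      refine ⟨polar Q w u' + Q w, ?_⟩
      have h6 : u' + w - polar Q w u' • u - Q w • u - u' = 0 := by rw [h4, sub_self]
      rw [add_smul]
      have h7 : w - (polar Q w u' • u + Q w • u) = 0 := by rw [← h6]; abel
      exact (sub_eq_zero.1 h7).symm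
  have hsing : ∀ u : V, u ≠ 0 → g u = u → Q u = 0 → FixR r x := by
    intro u hu0 hu hQu
    refine hts (Submodule.span F {u}) ?_ (fun v hv => ?_) ?_
    · rw [Ne, Submodule.span_singleton_eq_bot]
      exact hu0
    · obtain ⟨a, rfl⟩ := Submodule.mem_span_singleton.1 hv
      rw [map_smul, hu]
      exact hv
    · intro v hv
      obtain ⟨a, rfl⟩ := Submodule.mem_span_singleton.1 hv
      rw [QuadraticMap.map_smul, hQu, smul_zero]
  by_cases hnoF : FixR r x
  · exact Or.inl hnoF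
  right
  -- the fixed space
  have hW0 : Module.finrank F (BpCl.W0 g) ≤ 2 := by
    by_contra hcon
    obtain ⟨w, hw, hw0, hQw⟩ := Cfsg.Agent.LieClassical.OrthFinite.exists_sing_mem (Q := Q) (BpCl.W0 g) (by omega)
    exact hnoF (hsing w hw0 (BpCl.mem_W0.1 hw) hQw)
  have hcW := BpCl.isCompl_W hgp hpF
  by_cases hfix : BpCl.W0 g = ⊥
  · -- no fixed vectors
    have hno0 : ∀ v, g v = v → v = 0 := by
      intro v hv
      have : v ∈ BpCl.W0 g := BpCl.mem_W0.2 hv
      rwa [hfix, Submodule.mem_bot] at this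
    intro A hgA
    by_contra hcon
    push Not at hcon
    obtain ⟨hAb, hAt⟩ := hcon
    have hA' : ∀ v, g v ∈ A ↔ v ∈ A := inv_iff (g := g.toEquiv) hgA
    have hW' : ∀ v, g v ∈ LinearMap.BilinForm.orthogonal (polarBilin Q) A ↔ v ∈ LinearMap.BilinForm.orthogonal (polarBilin Q) A :=
      orth_iff (g := g.toEquiv) (φ := RingEquiv.refl F) hform' hA'
    have hdisj : Disjoint A (LinearMap.BilinForm.orthogonal (polarBilin Q) A) := by
      rw [Submodule.disjoint_def]
      intro v hvA hvW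
      let D : Submodule F V :=
        { carrier := {v | (v ∈ A ∧ v ∈ LinearMap.BilinForm.orthogonal (polarBilin Q) A) ∧ Q v = 0}
          add_mem' := by
            rintro a b ⟨⟨ha1, ha2⟩, ha3⟩ ⟨⟨hb1, hb2⟩, hb3⟩
            refine ⟨⟨A.add_mem ha1 hb1, Submodule.add_mem _ ha2 hb2⟩, ?_⟩
            have h1 : polar Q a b = 0 := hb2 a ha1
            rw [Q_add, ha3, hb3, h1, add_zero, add_zero]
          zero_mem' := ⟨⟨A.zero_mem, Submodule.zero_mem _⟩, QuadraticMap.map_zero Q⟩
          smul_mem' := by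
            rintro c a ⟨⟨ha1, ha2⟩, ha3⟩
            refine ⟨⟨A.smul_mem c ha1, Submodule.smul_mem _ c ha2⟩, ?_⟩
            rw [QuadraticMap.map_smul, ha3, smul_zero] }
      have hD : D = ⊥ := by
        by_contra hD
        apply hnoF
        refine hts D hD ?_ (fun u hu => hu.2)
        rintro u ⟨⟨h1, h2⟩, h3⟩
        exact ⟨⟨(hA' u).2 h1, (hW' u).2 h2⟩, by rw [hgO u, h3]⟩
      have h1 : g v - v ∈ D := by
        refine ⟨⟨A.sub_mem ((hA' v).2 hvA) hvA, Submodule.sub_mem _ ((hW' v).2 hvW) hvW⟩, ?_⟩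
        have h2 : polar Q (g v) v = 0 := hvW _ ((hA' v).2 hvA)
        have h3 : polar Q v v = 0 := hvW v hvA
        rw [polar_self'] at h3
        rw [sub_eq_add_neg, Q_add, polar_neg_right, h2, QuadraticMap.map_neg, hgO v, neg_zero, add_zero, ← two_mul]
        exact h3
      rw [hD, Submodule.mem_bot, sub_eq_zero] at h1
      exact hno0 v h1
    have hc : IsCompl A (LinearMap.BilinForm.orthogonal (polarBilin Q) A) :=
      (LinearMap.BilinForm.isCompl_orthogonal_iff_disjoint hrefl).2 hdisj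
    have hAW : ∀ a ∈ A, ∀ w ∈ LinearMap.BilinForm.orthogonal (polarBilin Q) A, polar Q a w = 0 := fun a ha w hw => hw a ha
    have hW0' : LinearMap.BilinForm.orthogonal (polarBilin Q) A ≠ ⊥ := by
      intro h
      apply hAt
      have := hc.sup_eq_top
      rwa [h, sup_bot_eq] at this
    have hsum := Submodule.finrank_add_eq_of_isCompl hc
    rcases Nat.lt_or_ge (Module.finrank F (LinearMap.BilinForm.orthogonal (polarBilin Q) A)) 4 with h4 | h4
    · have key := orth_split hp.out h5 hG hΓ hx hRC hgO hgp hc.symm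
        (fun a ha w hw => by rw [polar_comm]; exact hAW w hw a ha) hW' hA' hW0' (by omega)
      obtain ⟨w, hw, hw0⟩ := Submodule.exists_mem_ne_zero_of_ne_bot hAb
      exact hw0 (hno0 w (key w hw))
    · have key := orth_split hp.out h5 hG hΓ hx hRC hgO hgp hc hAW hA' hW' hAb h4
      obtain ⟨w, hw, hw0⟩ := Submodule.exists_mem_ne_zero_of_ne_bot hW0'
      exact hw0 (hno0 w (key w hw))
  · -- fixed vectors
    exfalso
    have hsum := Submodule.finrank_add_eq_of_isCompl hcW
    have hAW : ∀ a ∈ BpCl.W0 g, ∀ w ∈ BpCl.W1 p g, polar Q a w = 0 := fun a ha w hw =>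
      (BpCl.bilin_cross (B := polarBilin Q) hform' hpF ha hw).1
    have hA' : ∀ v, g v ∈ BpCl.W0 g ↔ v ∈ BpCl.W0 g :=
      inv_iff (g := g.toEquiv) fun v hv => BpCl.W0_map (fun _ => rfl) hv
    have hW' : ∀ v, g v ∈ BpCl.W1 p g ↔ v ∈ BpCl.W1 p g :=
      inv_iff (g := g.toEquiv) fun v hv => BpCl.W1_map (fun _ => rfl) hv
    have key := orth_split hp.out h5 hG hΓ hx hRC hgO hgp hcW hAW hA' hW' hfix (by omega)
    apply hg1
    apply LinearEquiv.ext
    intro v
    exact ext_of_isCompl hcW (a := g.toLinearMap) (b := LinearMap.id) (fun w hw => BpCl.mem_W0.1 hw)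
      (fun w hw => key w hw) v

end Main

/-! ### the order of `q` modulo `p` -/

section Ord

variable {F : Type u} [Field F] [Fintype F] {V : Type v} [AddCommGroup V] [Module F V] [FiniteDimensional F V]
  {p : ℕ} [hp : Fact p.Prime]

theorem le_finrank [Nontrivial V] (hpF : (p : F) ≠ 0) {g : V ≃ₗ[F] V} (hgp : g ^ p = 1) (hg1 : g ≠ 1)
    (hs : ∀ W : Submodule F V, (∀ w ∈ W, g w ∈ W) → W = ⊥ ∨ W = ⊤) {i : ℕ} (hi : 0 < i)
    (hdvd : p ∣ Fintype.card F ^ i - 1) : Module.finrank F V ≤ i := by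
  classical
  have hpow : ∀ (n : ℕ) (v : V), (g.toLinearMap ^ n) v = (g ^ n) v := by
    intro n v
    induction n with
    | zero => rfl
    | succ n ih => rw [pow_succ', pow_succ', Module.End.mul_apply, ih]; rfl
  have h1 : g.toLinearMap ^ p = 1 := by
    ext v
    rw [hpow, hgp]
    rfl
  have h2 : g.toLinearMap ≠ 1 := by
    intro h
    apply hg1
    apply LinearEquiv.ext
    intro v
    exact LinearMap.congr_fun h v
  -- an element of order `p` of `GL_i`
  have hcard : p ∣ Nat.card (GL (Fin i) F) := by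
    rw [Matrix.card_GL_field]
    refine hdvd.trans ?_
    have h3 := Finset.dvd_prod_of_mem (fun j : Fin i => Fintype.card F ^ i - Fintype.card F ^ (j : ℕ))
      (Finset.mem_univ (⟨0, hi⟩ : Fin i))
    simpa only [_root_.pow_zero] using h3
  obtain ⟨z, hz⟩ := exists_prime_orderOf_dvd_card' p hcard
  obtain ⟨T, hT⟩ : ∃ T : (Fin i → F) →ₗ[F] (Fin i → F), T = Matrix.toLin' (z : Matrix (Fin i) (Fin i) F) := ⟨_, rfl⟩
  have hTp : T ^ p = 1 := by
    rw [hT, ← Matrix.toLin'_pow, ← Units.val_pow_eq_pow_val, ← hz, pow_orderOf_eq_one, Units.val_one, Matrix.toLin'_one]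
    rfl
  have hT1 : T ≠ 1 := by
    intro h
    have h3 : (z : Matrix (Fin i) (Fin i) F) = 1 := by
      apply Matrix.toLin'.injective
      rw [← hT, h, Matrix.toLin'_one]
      rfl
    have h4 : z = 1 := Units.ext h3
    rw [h4, orderOf_one] at hz
    exact hp.out.one_lt.ne hz
  have h3 := finrank_le hpF h1 h2 hs hTp hT1
  rwa [Module.finrank_fintype_fun_eq_card, Fintype.card_fin] at h3

end Ord

/-! ### the row -/

section Row

variable {F : Type u} {V : Type v} [Field F] [AddCommGroup V] [Module F V] {Q : QuadraticForm F V}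

/-- a lift of odd order -/
theorem exists_lift (hG : Good Q) {p : ℕ} (hodd : Odd p) {x : ↥(E Q) ⧸ center ↥(E Q)} (hx : x ^ p = 1) :
    ∃ k : ↥(E Q), QuotientGroup.mk' (center ↥(E Q)) k = x ∧ k ^ p = 1 := by
  obtain ⟨k, rfl⟩ := QuotientGroup.mk'_surjective (center ↥(E Q)) x
  rw [← map_pow] at hx
  have hz : k ^ p ∈ center ↥(E Q) := (QuotientGroup.eq_one_iff _).1 hx
  have hz2 : (k ^ p) ^ 2 = 1 := by
    obtain ⟨c, hc⟩ := center_scalar_orth hG rfl hz
    exact Subtype.ext (sq_eq_one_of_scalar hG (E_le_O (k ^ p).2) hc)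
  obtain ⟨z, hzz⟩ : ∃ z, z = k ^ p := ⟨_, rfl⟩
  rw [← hzz] at hz hz2
  refine ⟨k * z, ?_, ?_⟩
  · rw [map_mul]
    have h1 : QuotientGroup.mk' (center ↥(E Q)) z = 1 := (QuotientGroup.eq_one_iff _).2 hz
    rw [h1, mul_one]
  · have hc : Commute k z := Subgroup.mem_center_iff.1 hz k
    rw [hc.mul_pow, ← hzz]
    obtain ⟨j, rfl⟩ := hodd
    rw [pow_succ, pow_mul, hz2, one_pow, one_mul, ← pow_two, hz2]

theorem row_E [Fintype F] [FiniteDimensional F V] {r p : ℕ} [hr : Fact r.Prime] [hp : Fact p.Prime]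
    [CharP F r] (h5 : 5 ≤ p) (hpF : (p : F) ≠ 0) (hQ : Nondeg Q) (hd : 7 ≤ Module.finrank F V)
    {x : ↥(E Q) ⧸ center ↥(E Q)} (hx : orderOf x = p) (hRC : RC (MulAut.conj x)) :
    FixR r (MulAut.conj x) ∨ ∃ g ∈ E Q, g ^ p = 1 ∧ g ≠ 1 ∧
      ∀ W : Submodule F V, (∀ w ∈ W, g w ∈ W) → W = ⊥ ∨ W = ⊤ := by
  have hG : Good Q := Cfsg.Agent.LieClassical.OrthFinite.good_of_finite hQ (by omega)
  have hodd : Odd p := hp.out.odd_of_ne_two (by omega)
  obtain ⟨k, hk, hkp⟩ := exists_lift hG hodd (x := x) (by rw [← hx, pow_orderOf_eq_one])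
  have hkp' : k.1 ^ p = 1 := congrArg Subtype.val hkp
  have hk1 : k.1 ≠ 1 := by
    intro h
    have h1 : k = 1 := Subtype.ext h
    rw [h1, map_one] at hk
    rw [← hk, orderOf_one] at hx
    exact hp.out.one_lt.ne hx
  have hcomp : Comp (MulAut.conj x) k.1.toEquiv := by
    intro h
    refine ⟨k * h * k⁻¹, fun v => ?_, ?_⟩
    · change k.1 (h.1 (k.1.symm (k.1 v))) = k.1 (h.1 v)
      rw [k.1.symm_apply_apply]
    · rw [MulAut.conj_apply, ← hk, ← map_mul, ← map_inv, ← map_mul]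
  rcases fixR_or_irr (r := r) h5 hpF hQ hd rfl (E_le_O k.2) hkp' hk1 hcomp hRC with h | h
  · exact Or.inl h
  · exact Or.inr ⟨k.1, k.2, hkp', hk1, h⟩

/-- **the row, if `p` divides no `q ^ i - 1` with `i ≥ dim V`** -/
theorem crow_E [Fintype F] [FiniteDimensional F V] {r p : ℕ} [hr : Fact r.Prime] [hp : Fact p.Prime]
    [CharP F r] (h5 : 5 ≤ p) (hpF : (p : F) ≠ 0) (hQ : Nondeg Q) (hd : 7 ≤ Module.finrank F V)
    (hc : p ∣ Nat.card (↥(E Q) ⧸ center ↥(E Q)) → ∃ i, 0 < i ∧ i < Module.finrank F V ∧ p ∣ Fintype.card F ^ i - 1) :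
    CRow r p (↥(E Q) ⧸ center ↥(E Q)) := by
  intro x hx hRC _
  left
  rcases row_E (r := r) h5 hpF hQ hd hx hRC with h | ⟨g, -, hgp, hg1, hs⟩
  · exact h
  · exfalso
    obtain ⟨i, hi, hlt, hdvd⟩ := hc (by rw [← hx]; exact _root_.orderOf_dvd_natCard x)
    have hVn : Nontrivial V := Module.nontrivial_of_finrank_pos (R := F) (by omega)
    have := le_finrank hpF hgp hg1 hs hi hdvd
    omega

end Row

section Rows

open Cfsg.Agent.LieClassical.OrthForms Cfsg.Agent.ClassicalGeometry.OrthSemi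
  Cfsg.Agent.ClassicalGeometry.OrthSemiForms

theorem not_dvd_card {F : Type} [Field F] [Fintype F] {p n : ℕ} [hp : Fact p.Prime] (hpF : (p : F) ≠ 0)
    (h : p ∣ Fintype.card F ^ n) : False := by
  have h1 := hp.out.dvd_of_dvd_pow h
  apply hpF
  have h2 : (Fintype.card F : F) = 0 := FiniteField.cast_card_eq_zero F
  obtain ⟨r, hcr⟩ := CharP.exists F
  have hr : r.Prime := CharP.char_is_prime F r
  obtain ⟨n, -, hn⟩ := FiniteField.card F r
  rw [hn] at h1
  have h3 := (Nat.prime_dvd_prime_iff_eq hp.out hr).1 (hp.out.dvd_of_dvd_pow h1)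
  rw [h3]
  exact CharP.cast_eq_zero F r

theorem exists_of_dvd_prod {p q k : ℕ} [hp : Fact p.Prime] (h : p ∣ ∏ i ∈ Finset.range k, (q ^ (2 * (i + 1)) - 1)) :
    ∃ i, 0 < i ∧ i ≤ 2 * k ∧ p ∣ q ^ i - 1 := by
  obtain ⟨i, hi, h1⟩ := (hp.out.prime.dvd_finsetProd_iff _).1 h
  have h2 := Finset.mem_range.1 hi
  exact ⟨2 * (i + 1), by omega, by omega, h1⟩

theorem crow_omega_odd {K : Type*} [Group K] [Finite K] [IsSimpleGroup K] {r p : ℕ} [Fact r.Prime] [Fact p.Prime]
    (h : Cfsg.IsPOmegaOddChar r K) (hp : 5 ≤ p) (hpr : p ≠ r) : CRow r p K := by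
  obtain ⟨F, _, _, _, m, hm, hodd, ⟨e⟩⟩ := h
  have h2 := two_ne_zero_of_odd_card hodd
  have hfin : Finite (POmega F (quadFormOdd m F)) := Finite.of_equiv _ e.toEquiv
  have hpF := Cfsg.Agent.BpCl.cast_ne_zero_of_char (F := F) (Fact.out : p.Prime) hpr.symm
  have hcard := S0292.result (F := F) rfl hodd m hm
  have key : CRow r p (POmega F (quadFormOdd m F)) := by
    rw [← coe_oddForm] at hfin hcard ⊢
    have hd : Module.finrank F (Unit ⊕ (Fin m ⊕ Fin m) → F) = 2 * m + 1 := by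
      rw [Module.finrank_fintype_fun_eq_card, Fintype.card_sum, Fintype.card_sum, Fintype.card_fin, Fintype.card_unit]
      omega
    have hQ := nondeg_oddForm m F h2
    have hG := Cfsg.Agent.LieClassical.OrthFinite.good_of_finite hQ (by omega)
    have hfin' : Finite ↥(E (oddForm m F)) := Cfsg.Agent.BpCl.finite_subgroup _
    refine (crow_E hp hpF hQ (by omega) ?_).congr (pomegaEquiv hG)
    intro hpc
    rw [← Nat.card_congr (pomegaEquiv hG).toEquiv] at hpc
    have h3 : p ∣ Fintype.card F ^ m ^ 2 * ∏ i ∈ Finset.range m, (Fintype.card F ^ (2 * (i + 1)) - 1) := by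
      rw [← hcard]
      exact hpc.mul_left 2
    rcases (Fact.out : p.Prime).dvd_mul.1 h3 with h4 | h4
    · exact (not_dvd_card hpF h4).elim
    · obtain ⟨i, h5, h6, h7⟩ := exists_of_dvd_prod h4
      exact ⟨i, h5, by omega, h7⟩
  exact key.congr e

theorem crow_omega_plus {K : Type*} [Group K] [Finite K] [IsSimpleGroup K] {r p : ℕ} [Fact r.Prime] [Fact p.Prime]
    (h : Cfsg.IsPOmegaPlusChar r K) (hp : 5 ≤ p) (hpr : p ≠ r) : CRow r p K := by
  obtain ⟨F, _, _, _, m, hm, ⟨e⟩⟩ := h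
  have hfin : Finite (POmega F (quadFormPlus m F)) := Finite.of_equiv _ e.toEquiv
  have hpF := Cfsg.Agent.BpCl.cast_ne_zero_of_char (F := F) (Fact.out : p.Prime) hpr.symm
  have hcard := S0293.result (F := F) rfl m hm
  have key : CRow r p (POmega F (quadFormPlus m F)) := by
    rw [← coe_plusForm] at hfin hcard ⊢
    have hd : Module.finrank F (Fin m ⊕ Fin m → F) = 2 * m := by
      rw [Module.finrank_fintype_fun_eq_card, Fintype.card_sum, Fintype.card_fin]
      omega
    have hQ := nondeg_plusForm m F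
    have hG := Cfsg.Agent.LieClassical.OrthFinite.good_of_finite hQ (by omega)
    have hfin' : Finite ↥(E (plusForm m F)) := Cfsg.Agent.BpCl.finite_subgroup _
    refine (crow_E hp hpF hQ (by omega) ?_).congr (pomegaEquiv hG)
    intro hpc
    rw [← Nat.card_congr (pomegaEquiv hG).toEquiv] at hpc
    have h3 : p ∣ Fintype.card F ^ (m * (m - 1)) * (Fintype.card F ^ m - 1) *
        ∏ i ∈ Finset.range (m - 1), (Fintype.card F ^ (2 * (i + 1)) - 1) := by
      rw [← hcard]
      exact hpc.mul_left _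
    rcases (Fact.out : p.Prime).dvd_mul.1 h3 with h4 | h4
    · rcases (Fact.out : p.Prime).dvd_mul.1 h4 with h4 | h4
      · exact (not_dvd_card hpF h4).elim
      · exact ⟨m, by omega, by omega, h4⟩
    · obtain ⟨i, h5, h6, h7⟩ := exists_of_dvd_prod h4
      exact ⟨i, h5, by omega, h7⟩
  exact key.congr e

end Rows

end Cfsg.Agent.H62.SYOrth
end

-- part: H491/SY/CrowMinus
section
/-!
# S3846: the row `PΩ⁻_{2m}(q)` (helper491)

`crow_minus_of` : the row, from the tool `M0` for `p > 2 m + 1`.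
-/

set_option autoImplicit false
set_option linter.unusedSectionVars false

namespace Cfsg.Agent.H491.SY

open Subgroup Cfsg Cfsg.Agent.H459.Rad Cfsg.Agent.H459.Iface QuadraticMap Cfsg.Agent.H952.Rc Cfsg.Agent.H301.SY
open Cfsg.Agent.LieClassical.OrthCore Cfsg.Agent.LieClassical.OrthTrans Cfsg.Agent.LieClassical.OrthForms
  Cfsg.Agent.ClassicalGeometry.OrthSemi Cfsg.Agent.ClassicalGeometry.OrthSemiForms Cfsg.Agent.H62.SYOrth

universe u v

/-- the order of `q` modulo `p` if an element of order `p` acts irreducibly -/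
theorem ord_of_irr {F : Type u} {V : Type v} [Field F] [Fintype F] [AddCommGroup V] [Module F V]
    [FiniteDimensional F V] [Nontrivial V] {p : ℕ} [hp : Fact p.Prime] (hpF : (p : F) ≠ 0) {g : V ≃ₗ[F] V}
    (hgp : g ^ p = 1) (hg1 : g ≠ 1) (hs : ∀ W : Submodule F V, (∀ w ∈ W, g w ∈ W) → W = ⊥ ∨ W = ⊤) :
    orderOf ((Nat.card F : ℕ) : ZMod p) = Module.finrank F V := by
  have hpow : ∀ (n : ℕ) (v : V), (g.toLinearMap ^ n) v = (g ^ n) v := by
    intro n v
    induction n with
    | zero => rfl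
    | succ n ih => rw [pow_succ', pow_succ', Module.End.mul_apply, ih]; rfl
  have h1 : g.toLinearMap ^ p = 1 := by
    ext v
    rw [hpow, hgp]
    rfl
  have hfix : ∀ v, g.toLinearMap v = v → v = 0 := by
    -- the fixed space is invariant and not everything
    have h2 := hs (LinearMap.ker (g.toLinearMap - 1)) (fun w hw => by
      have hw' : g w = w := sub_eq_zero.1 hw
      show g (g w) - g w = 0
      rw [hw', hw', sub_self])
    rcases h2 with h2 | h2
    · intro v hv
      have h3 : v ∈ LinearMap.ker (g.toLinearMap - 1) := by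
        rw [LinearMap.mem_ker, LinearMap.sub_apply, Module.End.one_apply, hv, sub_self]
      rwa [h2, Submodule.mem_bot] at h3
    · exfalso
      apply hg1
      apply LinearEquiv.ext
      intro v
      have h3 : v ∈ LinearMap.ker (g.toLinearMap - 1) := by rw [h2]; exact Submodule.mem_top
      exact sub_eq_zero.1 h3
  obtain ⟨U, hU, hd⟩ := Cfsg.Agent.H150.exists_invariant hp.out hpF g.toLinearMap h1 hfix
  have hpos := Cfsg.Agent.H150.orderOf_card_pos (F := F) hp.out hpF
  rcases hs U hU with h2 | h2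
  · rw [h2, finrank_bot] at hd
    omega
  · rw [h2, finrank_top] at hd
    exact hd.symm

/-- the tool for large `p`, for the group `E Q / Z` -/
def MTool (F : Type) [Field F] {V : Type} [AddCommGroup V] [Module F V] (Q : QuadraticForm F V) (r p : ℕ) : Prop :=
  ∀ x : ↥(E Q) ⧸ center ↥(E Q), orderOf x = p → (∀ P : Sylow p (↥(E Q) ⧸ center ↥(E Q)), (IsCyclic (P : Subgroup (↥(E Q) ⧸ center ↥(E Q))) :)) →
    ¬ FixR r (MulAut.conj x) → Module.finrank F V + 1 < p → M0 x

theorem crow_minus_of {F : Type} [Field F] [Fintype F] {m : ℕ} (hm : 4 ≤ m) {a b : F}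
    (hab : ∀ z₁ z₂ : F, z₁ ^ 2 + a * z₁ * z₂ + b * z₂ ^ 2 = 0 → z₁ = 0 ∧ z₂ = 0) {r p : ℕ} [hr : Fact r.Prime]
    [hpp : Fact p.Prime] [CharP F r] (hp : 5 ≤ p) (hpr : p ≠ r)
    (hM : MTool F (minusForm (m - 1) F a b) r p) : CRow r p (POmega F (quadFormMinus (m - 1) F a b)) := by
  have hpF := Cfsg.Agent.BpCl.cast_ne_zero_of_char (F := F) (Fact.out : p.Prime) hpr.symm
  have hfin : Finite (POmega F (quadFormMinus (m - 1) F a b)) := by
    rw [← coe_minusForm]
    exact Quotient.finite _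
  have hzc := @zc_minus F _ _ m hm a b hab r p hr _ hpp.out
  rw [← coe_minusForm] at hfin hzc ⊢
  have hd : Module.finrank F ((Fin (m - 1) ⊕ Fin (m - 1)) ⊕ Fin 2 → F) = 2 * m := by
    rw [Module.finrank_fintype_fun_eq_card, Fintype.card_sum, Fintype.card_sum, Fintype.card_fin, Fintype.card_fin]
    omega
  have hQ := nondeg_minusForm (m - 1) F a b hab
  have hG := Cfsg.Agent.LieClassical.OrthFinite.good_of_finite hQ (by omega)
  have hfin' : Finite ↥(E (minusForm (m - 1) F a b)) := Cfsg.Agent.BpCl.finite_subgroup _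
  have hnt : Nontrivial ((Fin (m - 1) ⊕ Fin (m - 1)) ⊕ Fin 2 → F) :=
    Module.nontrivial_of_finrank_pos (R := F) (by omega)
  refine CRow.congr (pomegaEquiv hG) ?_
  intro x hx hRC hP
  by_cases hfr : FixR r (MulAut.conj x)
  · exact Or.inl hfr
  rcases row_E (r := r) hp hpF hQ (by omega) hx hRC with h | ⟨g, -, hgp, hg1, hs⟩
  · exact absurd h hfr
  have hord := ord_of_irr hpF hgp hg1 hs
  rw [hd] at hord
  have hqp : ((Nat.card F : ℕ) : ZMod p) ≠ 0 := by
    intro h
    rw [h, orderOf_eq_zero_iff'.2 (fun n hn h4 => by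
      rw [zero_pow (by omega)] at h4
      exact zero_ne_one h4)] at hord
    omega
  have hdvd : 2 * m ∣ p - 1 := by
    rw [← hord]
    exact orderOf_dvd_of_pow_eq_one (ZMod.pow_card_sub_one_eq_one hqp)
  have hle := Nat.le_of_dvd (by omega) hdvd
  rcases Nat.lt_or_ge (2 * m + 1) p with h1 | h1
  · right; left
    exact hM x hx hP hfr (by rw [hd]; exact h1)
  · right; right
    exact (hzc (by omega) hord).congr (pomegaEquiv hG).symm

end Cfsg.Agent.H491.SY
end

-- part: H491/SY/Minus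
section
/-!
# S3846: the row `PΩ⁻_{2m}(q)` (helper491)

`crow_omega_minus` : the row.
-/

set_option autoImplicit false
set_option linter.unusedSectionVars false

namespace Cfsg.Agent.H491.SY

open Subgroup Cfsg Cfsg.Agent.H459.Rad Cfsg.Agent.H459.Iface QuadraticMap Cfsg.Agent.H952.Rc Cfsg.Agent.H301.SY
open Cfsg.Agent.LieClassical.OrthCore Cfsg.Agent.LieClassical.OrthTrans Cfsg.Agent.LieClassical.OrthForms
  Cfsg.Agent.ClassicalGeometry.OrthSemi Cfsg.Agent.ClassicalGeometry.OrthSemiForms Cfsg.Agent.H62.SYOrth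

/-- the natural representation of `E Q` -/
noncomputable def natRep {F V : Type} [Field F] [AddCommGroup V] [Module F V] (Q : QuadraticForm F V) :
    Representation F ↥(E Q) V :=
  ((LinearEquiv.automorphismGroup.toLinearMapMonoidHom : (V ≃ₗ[F] V) →* (V →ₗ[F] V))).comp (E Q).subtype

theorem natRep_injective {F V : Type} [Field F] [AddCommGroup V] [Module F V] (Q : QuadraticForm F V) :
    Function.Injective (natRep Q) := by
  intro g h hgh
  apply Subtype.ext
  apply LinearEquiv.ext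
  intro v
  exact LinearMap.congr_fun hgh v

theorem mTool (hh : Cfsg.Agent.H301.SY.HH) {F : Type} [Field F] [Fintype F] {V : Type} [AddCommGroup V] [Module F V]
    [FiniteDimensional F V] (Q : QuadraticForm F V) {r p : ℕ} [CharP F r] [Fact r.Prime] [Fact p.Prime] (hpr : p ≠ r) :
    MTool F Q r p := by
  have hfin : Finite V := Module.finite_of_finite F
  have hfin' : Finite ↥(E Q) := Cfsg.Agent.BpCl.finite_subgroup _
  intro x hx hcyc hF hd
  exact m0_of_rep hh (QuotientGroup.mk' (center ↥(E Q))) (QuotientGroup.mk'_surjective _)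
    (by rw [QuotientGroup.ker_mk']) (natRep Q) (natRep_injective Q) hpr hd hcyc hx hF

/-- **the row `PΩ⁻_{2m}(q)`** -/
theorem crow_omega_minus (hh : Cfsg.Agent.H301.SY.HH) {K : Type*} [Group K] [Finite K] [IsSimpleGroup K] {r p : ℕ}
    [Fact r.Prime] [Fact p.Prime] (h : Cfsg.IsPOmegaMinusChar r K) (hp : 5 ≤ p) (hpr : p ≠ r) :
    Cfsg.Agent.H301.SY.CRow r p K := by
  obtain ⟨F, _, _, _, m, a, b, hm, hab, ⟨e⟩⟩ := h
  have hfin : Finite (POmega F (quadFormMinus (m - 1) F a b)) := Finite.of_equiv _ e.toEquiv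
  exact (crow_minus_of hm hab hp hpr (mTool hh _ hpr)).congr e

end Cfsg.Agent.H491.SY
end

-- part: H301/SY/Inputs
section
/-!
# S3846: `Blk` and `Gw` (helper301)
-/

set_option autoImplicit false
set_option linter.unusedSectionVars false

namespace Cfsg.Agent.H301.SY

open Cfsg Subgroup

theorem relIndex_dvd {K : Type*} [Group K] [Finite K] {p : ℕ} [hp : Fact p.Prime] {x : K} (hx : orderOf x = p) :
    (centralizer ({x} : Set K)).relIndex (normalizer ((zpowers x : Subgroup K) : Set K)) ∣ p - 1 := by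
  have e : centralizer ({x} : Set K) = centralizer ((zpowers x : Subgroup K) : Set K) := by
    ext z
    rw [mem_centralizer_iff, mem_centralizer_iff]
    constructor
    · rintro h _ ⟨k, rfl⟩
      have h1 : Commute x z := h x rfl
      exact h1.zpow_left k
    · intro h y hy
      rw [Set.mem_singleton_iff.1 hy]
      exact h x (mem_zpowers x)
  rw [e, relIndex, ← normalizerMonoidHom_ker, index_ker]
  have h1 : Nat.card (MulAut ↥(zpowers x)) = p - 1 := by
    rw [IsCyclic.card_mulAut, Nat.card_zpowers, hx, Nat.totient_prime hp.out]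
  rw [← h1]
  exact Subgroup.card_subgroup_dvd_card _

/-- the block lemma -/
theorem blk {K : Type*} [Group K] [Finite K] [IsSimpleGroup K] (hna : ¬ IsMulCommutative K) {p : ℕ} [Fact p.Prime] :
    Blk p K := by
  intro hcyc x y hx hy h
  obtain ⟨P⟩ : Nonempty (Sylow p K) := inferInstance
  have h1 := Cfsg.Agent.H509.CycBlock.order_dvd_of_solvable_pairs hna P (hcyc P) hx hy h
  obtain ⟨m, hm⟩ := relIndex_dvd (K := K) hx
  rw [hm, pow_mul, h1, one_pow]

/-- Gow's theorem -/
theorem gw {K : Type*} [Group K] [Finite K] {r : ℕ} (hr : r.Prime) (h : IsLieTypeChar r K) : Gw r K :=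
  fun _ _ _ hx hy hz hzr => Cfsg.Agent.H330.Gow.gow hr h hx hy hz hzr

end Cfsg.Agent.H301.SY
end

-- part: H947/Sy/Psl2B
section
/-!
# The row `PSL₂(q)` of S3846 (helper947, task 1556)

* `m0_psl` : in the inner case, `p ∤ q (q - 1)` or `q = p`, the element satisfies `M0`;
* `split_false` : the inner case, `p ∣ q - 1`;
* `field_false` : field automorphisms.
-/

set_option autoImplicit false
set_option linter.unusedSectionVars false

namespace Cfsg.Agent.H947.Sy

open Subgroup Cfsg Matrix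
open Cfsg.Agent.H459.Iface Cfsg.Agent.H459.Rad Cfsg.Agent.H301.SY
open Cfsg.Agent.BpLin Cfsg.Agent.LieClassical.SLTwoUnipotent Cfsg.Agent.ClassicalGeometry.PSL2Solvable
open Cfsg.Agent.ClassicalGeometry.AutPSL.Root Cfsg.Agent.ClassicalGeometry.AutPSL.Auto
  Cfsg.Agent.ClassicalGeometry.AutPSL.Main Cfsg.Agent.H109.EndPsl

section Conj

variable {G : Type*} [Group G]

theorem closure_pair_conj (g x y : G) : (_root_.Subgroup.closure ({x, y} : Set G)).map (MulAut.conj g).toMonoidHom =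
    _root_.Subgroup.closure ({g * x * g⁻¹, g * y * g⁻¹} : Set G) := by
  rw [MonoidHom.map_closure, Set.image_pair]
  rfl

theorem solv_pair_conj {x y : G} (g : G) (h : Group.IsSolvable ↥(_root_.Subgroup.closure ({x, y} : Set G))) :
    Group.IsSolvable ↥(_root_.Subgroup.closure ({g * x * g⁻¹, g * y * g⁻¹} : Set G)) := by
  rw [← closure_pair_conj]
  exact Cfsg.Agent.SignalizersComponents.ComponentExists.isSolvable_map h _

theorem YE.conj {p : ℕ} {x : G} (h : YE p x) (g : G) : YE p (g * x * g⁻¹) := by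
  intro r hr hrp y hy hs a
  have h1 := h r hr hrp (g⁻¹ * y * g) (by
    obtain ⟨k, hk⟩ := hy
    refine ⟨k, ?_⟩
    rw [← hk]
    have : g⁻¹ * y * g = MulAut.conj g⁻¹ y := by rw [MulAut.conj_apply, inv_inv]
    rw [this]
    exact orderOf_injective (MulAut.conj g⁻¹).toMonoidHom (MulAut.conj g⁻¹).injective y) (by
    have := solv_pair_conj g⁻¹ hs
    have e1 : g⁻¹ * (g * x * g⁻¹) * g⁻¹⁻¹ = x := by group
    have e2 : g⁻¹ * y * g⁻¹⁻¹ = g⁻¹ * y * g := by rw [inv_inv]
    rwa [e1, e2] at this) (g⁻¹ * a * g)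
  have h2 := solv_pair_conj g h1
  have e3 : g * (g⁻¹ * a * g * (g⁻¹ * y * g) * (g⁻¹ * a * g)⁻¹) * g⁻¹ = a * y * a⁻¹ := by group
  rwa [e3] at h2

end Conj

section Inner

variable {F : Type*} [Field F] [Fintype F]

local notation "S2" => Matrix.SpecialLinearGroup (Fin 2) F
local notation "P2" => Matrix.ProjectiveSpecialLinearGroup (Fin 2) F

/-- an element of prime order `p ≥ 5`, `p ∤ q (q - 1)`, does not normalise an `l`-subgroup -/
theorem borel_order {l : ℕ} [hl : Fact l.Prime] [CharP F l] {p : ℕ} (hp : p.Prime)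
    (hpq : ¬ p ∣ Fintype.card F) (hp1 : ¬ p ∣ Fintype.card F - 1) {g b : S2} (hb : b ∈ borel F)
    (hx : orderOf (pr (g * b * g⁻¹) : P2) = p) : False := by
  have hbb : (b : Matrix (Fin 2) (Fin 2) F) 0 0 * (b : Matrix (Fin 2) (Fin 2) F) 1 1 = 1 := by
    have h1 : (b : Matrix (Fin 2) (Fin 2) F) 0 0 * (b : Matrix (Fin 2) (Fin 2) F) 1 1 -
      (b : Matrix (Fin 2) (Fin 2) F) 0 1 * (b : Matrix (Fin 2) (Fin 2) F) 1 0 = 1 := by
      rw [← Matrix.det_fin_two, Matrix.SpecialLinearGroup.det_coe]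
    rw [mem_borel_iff.mp hb, mul_zero, sub_zero] at h1
    exact h1
  have hpow : ∀ n : ℕ, b ^ n ∈ borel F ∧
      ((b ^ n : S2) : Matrix (Fin 2) (Fin 2) F) 0 0 = ((b : Matrix (Fin 2) (Fin 2) F) 0 0) ^ n := by
    intro n
    induction n with
    | zero => exact ⟨(borel F).one_mem, by simp⟩
    | succ n ih =>
      refine ⟨(borel F).pow_mem hb _, ?_⟩
      rw [pow_succ, Matrix.SpecialLinearGroup.coe_mul, Matrix.mul_apply, Fin.sum_univ_two, mem_borel_iff.mp hb,
        mul_zero, add_zero, ih.2, pow_succ]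
  have h1 : (pr b : P2) ^ p = 1 := by
    have h2 : (pr (g * b * g⁻¹) : P2) ^ p = 1 := by rw [← hx]; exact pow_orderOf_eq_one _
    rw [map_mul, map_mul, map_inv, conj_pow] at h2
    have h3 : (pr b : P2) ^ p = (pr g)⁻¹ * (pr g * (pr b) ^ p * (pr g)⁻¹) * pr g := by group
    rw [h3, h2]; group
  rw [← map_pow, ← map_one (pr : S2 →* P2)] at h1
  set α := (b : Matrix (Fin 2) (Fin 2) F) 0 0 with hα
  have h2 : α ^ (2 * p) = 1 := by
    rcases pr_eq_iff.1 h1 with h3 | h3
    · have h4 : b ^ p = 1 := h3.symm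
      have h5 := (hpow p).2
      rw [h4] at h5
      rw [mul_comm, pow_mul, ← h5]; simp
    · have h4 : b ^ p = -1 := by rw [h3, neg_neg]
      have h5 := (hpow p).2
      rw [h4] at h5
      rw [mul_comm, pow_mul, ← h5]; simp only [_root_.Fin.isValue, _root_.Matrix.SpecialLinearGroup.coe_neg, _root_.Matrix.SpecialLinearGroup.coe_one, _root_.Matrix.neg_apply, _root_.Matrix.one_apply_eq, _root_.even_two, _root_.Even.neg_pow, _root_.one_pow]
  have hα0 : α ≠ 0 := left_ne_zero_of_mul_eq_one hbb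
  have h3 : α ^ (Fintype.card F - 1) = 1 := FiniteField.pow_card_sub_one_eq_one α hα0
  have h4 : α ^ 2 = 1 := by
    have h5 : α ^ Nat.gcd (2 * p) (Fintype.card F - 1) = 1 := pow_gcd_eq_one.2 ⟨h2, h3⟩
    have h6 : Nat.gcd (2 * p) (Fintype.card F - 1) ∣ 2 := by
      have h7 : Nat.Coprime (Nat.gcd (2 * p) (Fintype.card F - 1)) p :=
        Nat.Coprime.coprime_dvd_left (Nat.gcd_dvd_right _ _) ((Nat.Prime.coprime_iff_not_dvd hp).2 hp1).symm
      exact h7.dvd_of_dvd_mul_right (Nat.gcd_dvd_left _ _)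
    obtain ⟨k, hk⟩ := h6
    rw [hk, pow_mul, h5, one_pow]
  have h5 : (pr b : P2) ^ l = 1 := by
    have h6 : ∀ c : S2, c ∈ borel F → (c : Matrix (Fin 2) (Fin 2) F) 0 0 = 1 → (c : Matrix (Fin 2) (Fin 2) F) 1 1 = 1 →
        c ^ l = 1 := by
      intro c hc hc0 hc1
      rw [eq_u_of_mem_upperUnipSL (mem_upperUnipSL_iff.2 ⟨hc0, mem_borel_iff.1 hc, hc1⟩), u_pow]
    have h7 : (α - 1) * (α + 1) = 0 := by linear_combination h4
    rcases mul_eq_zero.1 h7 with h8 | h8
    · have h9 : α = 1 := sub_eq_zero.1 h8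
      rw [← map_pow, h6 b hb h9 (by rw [h9, one_mul] at hbb; exact hbb), map_one]
    · have h9 : α = -1 := eq_neg_of_add_eq_zero_left h8
      have h10 : (pr b : P2) = pr (-b) := pr_eq_iff.2 (Or.inr rfl)
      rw [h10, ← map_pow, h6 (-b) ?_ ?_ ?_, map_one]
      · rw [mem_borel_iff]
        have := mem_borel_iff.1 hb
        simpa using this
      · have : ((-b : S2) : Matrix (Fin 2) (Fin 2) F) 0 0 = -α := by simp [hα]
        rw [this, h9, neg_neg]
      · have h11 : ((-b : S2) : Matrix (Fin 2) (Fin 2) F) 1 1 = -(b : Matrix (Fin 2) (Fin 2) F) 1 1 := by simp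
        rw [h11]
        rw [h9] at hbb
        linear_combination hbb
  have h6 : orderOf (pr (g * b * g⁻¹) : P2) ∣ l := by
    apply orderOf_dvd_of_pow_eq_one
    rw [map_mul, map_mul, map_inv, conj_pow, h5, mul_one, mul_inv_cancel]
  rw [hx] at h6
  have h7 := (Nat.prime_dvd_prime_iff_eq hp hl.out).1 h6
  obtain ⟨n, hn, hn'⟩ := FiniteField.card F l
  exact hpq (by rw [hn', h7]; exact dvd_pow_self l n.2.ne')

/-- **Case `p ∤ q (q - 1)` or `q = p`.** -/
theorem m0_psl {p : ℕ} (hp : p.Prime) (hp5 : 5 ≤ p)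
    (hc : Fintype.card F = p ∨ (¬ p ∣ Fintype.card F ∧ ¬ p ∣ Fintype.card F - 1)) {x : P2} (hx : orderOf x = p) :
    M0 x := by
  intro H hH hxH h hh
  obtain ⟨l, hlF⟩ := CharP.exists F
  have hl : Fact l.Prime := ⟨CharP.char_is_prime F l⟩
  have hd : p ∣ Nat.card H := by
    rw [← hx, ← Subgroup.orderOf_mk x hxH]
    exact _root_.orderOf_dvd_natCard _
  rcases shape (l := l) H hH hp hp5 hd with ⟨Q, hQ1, hQH, hQl, hQn, hQa⟩ | ⟨A, hAH, hAc, hA1, hA2⟩
  · rcases hc with hc | ⟨hc1, hc2⟩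
    · -- `q = p`
      obtain ⟨n, hn, hn'⟩ := FiniteField.card F l
      have hlp : l = p := by
        have h1 : l ∣ p := by rw [← hc, hn']; exact dvd_pow_self l n.2.ne'
        exact (Nat.prime_dvd_prime_iff_eq hl.out hp).1 h1
      subst hlp
      obtain ⟨P, hP⟩ := hQl.exists_le_sylow
      have hQx : x ∈ Q := hQa x hxH ⟨1, by rw [pow_one, ← hx]; exact pow_orderOf_eq_one x⟩
      have hcard : Nat.card Q = l := by
        obtain ⟨k, hk⟩ := IsPGroup.iff_card.1 hQl
        have h1 : Nat.card Q ∣ l * (l ^ 2 - 1) := by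
          have h2 := Cfsg.Agent.H394.SqPsl2.card_psl (F := F)
          rw [hc] at h2
          rw [← h2]
          exact (Subgroup.card_subgroup_dvd_card Q).mul_left _
        have h2 : l ∣ Nat.card Q := by
          rw [← hx, ← Subgroup.orderOf_mk x hQx]
          exact _root_.orderOf_dvd_natCard _
        rw [hk] at h1 h2 ⊢
        have hk0 : k ≠ 0 := by
          rintro rfl
          rw [pow_zero] at h2
          exact hp.one_lt.ne' (Nat.dvd_one.1 h2)
        by_cases hk2 : 2 ≤ k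
        · exfalso
          have h3 : l ^ 2 ∣ l * (l ^ 2 - 1) := (pow_dvd_pow l hk2).trans h1
          rw [pow_two, Nat.mul_dvd_mul_iff_left hp.pos] at h3
          have h4 : l ∣ l * l - (l * l - 1) := Nat.dvd_sub (dvd_mul_right l l) h3
          have h5 : l * l - (l * l - 1) = 1 := by
            have := Nat.mul_pos hp.pos hp.pos
            omega
          rw [h5] at h4
          exact hp.one_lt.ne' (Nat.dvd_one.1 h4)
        · have : k = 1 := by omega
          rw [this, pow_one]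
      have hQz : Q = zpowers x := by
        symm
        apply Subgroup.eq_of_le_of_card_ge
        · exact (zpowers_le).2 hQx
        · rw [hcard, Nat.card_zpowers, hx]
      have := hQn h hh x hQx
      rwa [hQz] at this
    · exfalso
      obtain ⟨g, -, hg⟩ := exists_borel hQ1 hQl
      obtain ⟨b, hb, hxb⟩ := hg x (hQn x hxH)
      rw [hxb] at hx
      exact borel_order hp hc1 hc2 hb hx
  · have hx2 : x ^ 2 ≠ 1 := by
      intro h1
      have := Nat.le_of_dvd (by norm_num) (orderOf_dvd_of_pow_eq_one h1)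
      omega
    have hxA := hA1 x hxH hx2
    by_cases hhA : h ∈ A
    · rw [hAc h hhA x hxA, mul_inv_cancel_right]
      exact mem_zpowers x
    · rw [hA2 h hh hhA x hxA]
      exact (zpowers x).inv_mem (mem_zpowers x)

/-- the matrix `[[s, 0], [s, s⁻¹]]` -/
def gs (s : F) (hs : s ≠ 0) : S2 := ⟨!![s, 0; s, s⁻¹], by rw [Matrix.det_fin_two_of]; field_simp; ring⟩

theorem coe_gs (s : F) (hs : s ≠ 0) : ((gs s hs * u 1 * (gs s hs)⁻¹ : S2) : Matrix (Fin 2) (Fin 2) F) =
    !![1 - s ^ 2, s ^ 2; -s ^ 2, 1 + s ^ 2] := by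
  rw [Matrix.SpecialLinearGroup.coe_mul, Matrix.SpecialLinearGroup.coe_mul, Matrix.SpecialLinearGroup.coe_inv,
    Matrix.adjugate_fin_two, coe_u]
  ext i j
  (revert i j; simp only [gs, Matrix.mul_apply, Fin.sum_univ_two, _root_.Fin.forall_fin_succ, _root_.Matrix.cons_mul, _root_.Nat.succ_eq_add_one, Nat.reduceAdd, _root_.Matrix.vecMul_cons, _root_.Matrix.head_cons, _root_.Matrix.smul_cons, _root_.smul_eq_mul, _root_.mul_one, _root_.Matrix.smul_empty, _root_.Matrix.tail_cons, _root_.zero_smul, _root_.Matrix.empty_vecMul, _root_.add_zero, _root_.MulZeroClass.mul_zero, _root_.Matrix.add_cons, _root_.Matrix.empty_add_empty, _root_.Matrix.empty_mul, _root_.Equiv.symm_apply_apply, Fin.isValue, _root_.Matrix.of_apply, _root_.Matrix.cons_val', _root_.Matrix.cons_val_one, _root_.Matrix.cons_val_fin_one, _root_.Matrix.cons_val_zero, _root_.neg_zero, _root_.mul_neg, _root_.Matrix.cons_val_succ, _root_.zero_add, _root_.forall_const]) <;> (repeat' with_reducible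 apply And.intro) <;> field_simp <;> ring

/-- `pr (diag (v, v⁻¹))` -/
theorem pr_dge_eq_one {v : Fˣ} (h : v ^ 2 = 1) : (pr (dge v) : P2) ^ 2 = 1 := by
  have h1 : (dge v : S2) ^ 2 = 1 := by
    have h2 : (dge v : S2) = dgh v := rfl
    rw [h2, ← map_pow, h, map_one]
  rw [← map_pow, h1, map_one]

theorem pr_dge_four {v : Fˣ} (h : v ^ 4 = 1) : (pr (dge v) : P2) ^ 4 = 1 := by
  have h1 : (dge v : S2) ^ 4 = 1 := by
    have h2 : (dge v : S2) = dgh v := rfl
    rw [h2, ← map_pow, h, map_one]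
  rw [← map_pow, h1, map_one]

/-- the eigenvectors of a diagonal matrix -/
theorem eig_dge {v : Fˣ} (hv : v ^ 2 ≠ 1) {g b : S2} (hb : b ∈ borel F) (h : (pr (dge v) : P2) = pr (g * b * g⁻¹)) :
    (g : Matrix (Fin 2) (Fin 2) F) 0 0 = 0 ∨ (g : Matrix (Fin 2) (Fin 2) F) 1 0 = 0 := by
  obtain ⟨c, hc⟩ : ∃ c : F, ((dge v * g : S2) : Matrix (Fin 2) (Fin 2) F) = c • ((g * b : S2) : Matrix (Fin 2) (Fin 2) F) := by
    obtain ⟨c, hc⟩ := exists_smul_of_pr_eq (x := g * b) (y := dge v * g) (by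
      rw [map_mul, map_mul, h]
      simp only [map_mul, map_inv]
      group)
    exact ⟨c, hc⟩
  have h0 := congrFun (congrFun hc 0) 0
  have h1 := congrFun (congrFun hc 1) 0
  have hb0 := mem_borel_iff.1 hb
  rw [Matrix.SpecialLinearGroup.coe_mul, Matrix.SpecialLinearGroup.coe_mul, coe_dge] at h0 h1
  simp only [Matrix.smul_apply, Matrix.mul_apply, Fin.sum_univ_two, smul_eq_mul, Matrix.of_apply, Matrix.cons_val',
    Matrix.cons_val_zero, Matrix.cons_val_one, Matrix.cons_val_fin_one] at h0 h1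
  rw [hb0] at h0 h1
  by_contra hcon
  rw [not_or] at hcon
  apply hv
  have h2 : (v : F) = ((v⁻¹ : Fˣ) : F) := by
    have e1 : ((v : F) - c * (b : Matrix (Fin 2) (Fin 2) F) 0 0) * (g : Matrix (Fin 2) (Fin 2) F) 0 0 = 0 := by
      linear_combination h0
    have e2 : (((v⁻¹ : Fˣ) : F) - c * (b : Matrix (Fin 2) (Fin 2) F) 0 0) * (g : Matrix (Fin 2) (Fin 2) F) 1 0 = 0 := by
      linear_combination h1
    have e3 := (mul_eq_zero.1 e1).resolve_right hcon.1
    have e4 := (mul_eq_zero.1 e2).resolve_right hcon.2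
    linear_combination e3 - e4
  have h3 : v = v⁻¹ := Units.ext h2
  rw [sq]
  nth_rewrite 1 [h3]
  exact inv_mul_cancel v

/-- **Case `p ∣ q - 1`.** -/
theorem split_false {p : ℕ} (hp : p.Prime) (hp5 : 5 ≤ p) (hpq : ¬ p ∣ Fintype.card F) {v : Fˣ}
    (hx : orderOf (pr (dge v) : P2) = p) (hY : YE p (pr (dge v) : P2)) : False := by
  obtain ⟨l, hlF⟩ := CharP.exists F
  have hl : Fact l.Prime := ⟨CharP.char_is_prime F l⟩
  have hv2 : v ^ 2 ≠ 1 := by
    intro h
    have := Nat.le_of_dvd (by norm_num) (hx ▸ orderOf_dvd_of_pow_eq_one (pr_dge_eq_one h))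
    omega
  have hv4 : v ^ 4 ≠ 1 := by
    intro h
    have := Nat.le_of_dvd (by norm_num) (hx ▸ orderOf_dvd_of_pow_eq_one (pr_dge_four h))
    omega
  -- the parameter
  obtain ⟨s, hs0, hs2⟩ : ∃ s : F, s ≠ 0 ∧ s ^ 2 ≠ 1 := by
    refine ⟨(v : F), v.ne_zero, fun h => hv2 (Units.ext ?_)⟩
    rw [Units.val_pow_eq_pow_val, h, Units.val_one]
  have hlp : l ≠ p := by
    rintro rfl
    obtain ⟨n, hn, hn'⟩ := FiniteField.card F l
    exact hpq (by rw [hn']; exact dvd_pow_self l n.2.ne')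
  have hy1 : (pr (u 1 : S2) : P2) ^ l = 1 := by rw [← map_pow, u_pow, map_one]
  have hsol : Group.IsSolvable ↥(_root_.Subgroup.closure ({pr (dge v), pr (u 1)} : Set P2)) := by
    have h1 : _root_.Subgroup.closure ({pr (dge v), pr (u 1)} : Set P2) ≤ (borel F).map (pr : S2 →* P2) := by
      rw [closure_le]
      rintro z (rfl | rfl)
      · exact ⟨dge v, mem_borel_iff.2 (by simp [coe_dge]), rfl⟩
      · exact ⟨u 1, mem_borel_iff.2 (by simp [coe_u]), rfl⟩
    have h2 : Group.IsSolvable ↥((borel F).map (pr : S2 →* P2)) :=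
      Cfsg.Agent.SignalizersComponents.ComponentExists.isSolvable_map isSolvable_borel _
    exact Group.isSolvable_of_isSolvable_injective (f := Subgroup.inclusion h1) (Subgroup.inclusion_injective h1)
  have hall := hY l hl.out hlp (pr (u 1)) (by
    rcases (Nat.dvd_prime hl.out).1 (orderOf_dvd_of_pow_eq_one hy1) with h | h
    · exact ⟨0, by rw [h, pow_zero]⟩
    · exact ⟨1, by rw [h, pow_one]⟩) hsol (pr (gs s hs0))
  have he : (pr (gs s hs0) * pr (u 1) * (pr (gs s hs0))⁻¹ : P2) = pr (gs s hs0 * u 1 * (gs s hs0)⁻¹) := by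
    rw [map_mul, map_mul, map_inv]
  rw [he] at hall
  obtain ⟨τ, hτ⟩ : ∃ τ : S2, gs s hs0 * u 1 * (gs s hs0)⁻¹ = τ := ⟨_, rfl⟩
  have hτc : (τ : Matrix (Fin 2) (Fin 2) F) = !![1 - s ^ 2, s ^ 2; -s ^ 2, 1 + s ^ 2] := by
    rw [← hτ]; exact coe_gs s hs0
  rw [hτ] at hall
  have hs20 : s ^ 2 ≠ 0 := pow_ne_zero _ hs0
  set H := _root_.Subgroup.closure ({pr (dge v), pr τ} : Set P2) with hH
  have hxH : (pr (dge v) : P2) ∈ H := _root_.Subgroup.subset_closure (Set.mem_insert _ _)
  have hyH : (pr τ : P2) ∈ H := _root_.Subgroup.subset_closure (Set.mem_insert_of_mem _ rfl)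
  have hd : p ∣ Nat.card H := by
    rw [← hx, ← Subgroup.orderOf_mk _ hxH]
    exact _root_.orderOf_dvd_natCard _
  rcases shape (l := l) H hall hp hp5 hd with ⟨Q, hQ1, hQH, hQl, hQn, hQa⟩ | ⟨A, hAH, hAc, hA1, hA2⟩
  · obtain ⟨g, -, hg⟩ := exists_borel hQ1 hQl
    obtain ⟨b, hb, hxb⟩ := hg _ (hQn _ hxH)
    obtain ⟨b', hb', hyb⟩ := hg _ (hQn _ hyH)
    obtain ⟨c, hc⟩ := exists_smul_of_pr_eq (x := g * b') (y := τ * g) (by
      rw [map_mul, map_mul, hyb]
      simp only [map_mul, map_inv]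
      group)
    have h0 := congrFun (congrFun hc 0) 0
    have h1 := congrFun (congrFun hc 1) 0
    have hb0 := mem_borel_iff.1 hb'
    rw [Matrix.SpecialLinearGroup.coe_mul, Matrix.SpecialLinearGroup.coe_mul, hτc] at h0 h1
    simp only [Matrix.smul_apply, Matrix.mul_apply, Fin.sum_univ_two, smul_eq_mul, Matrix.of_apply, Matrix.cons_val',
      Matrix.cons_val_zero, Matrix.cons_val_one, Matrix.cons_val_fin_one] at h0 h1
    rw [hb0] at h0 h1
    have hdet : (g : Matrix (Fin 2) (Fin 2) F) 0 0 * (g : Matrix (Fin 2) (Fin 2) F) 1 1 -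
      (g : Matrix (Fin 2) (Fin 2) F) 0 1 * (g : Matrix (Fin 2) (Fin 2) F) 1 0 = 1 := by
      rw [← Matrix.det_fin_two, Matrix.SpecialLinearGroup.det_coe]
    rcases eig_dge hv2 hb hxb with h2 | h2
    · rw [h2] at h0 hdet
      have h3 : s ^ 2 * (g : Matrix (Fin 2) (Fin 2) F) 1 0 = 0 := by linear_combination h0
      have h4 := (mul_eq_zero.1 h3).resolve_left hs20
      rw [h4] at hdet
      simp at hdet
    · rw [h2] at h1 hdet
      have h3 : s ^ 2 * (g : Matrix (Fin 2) (Fin 2) F) 0 0 = 0 := by linear_combination -h1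
      have h4 := (mul_eq_zero.1 h3).resolve_left hs20
      rw [h4] at hdet
      simp at hdet
  · have hx2 : (pr (dge v) : P2) ^ 2 ≠ 1 := by
      intro h1
      have := Nat.le_of_dvd (by norm_num) (hx ▸ orderOf_dvd_of_pow_eq_one h1)
      omega
    have hxA := hA1 _ hxH hx2
    have hvi : (v : F) * ((v⁻¹ : Fˣ) : F) = 1 := by rw [← Units.val_mul, mul_inv_cancel, Units.val_one]
    have hvF : (v : F) ^ 2 ≠ 1 := fun h => hv2 (Units.ext (by rw [Units.val_pow_eq_pow_val, h, Units.val_one]))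
    have hvF4 : (v : F) ^ 4 ≠ 1 := fun h => hv4 (Units.ext (by rw [Units.val_pow_eq_pow_val, h, Units.val_one]))
    by_cases hyA : (pr τ : P2) ∈ A
    · rcases comm_or (hAc _ hxA _ hyA) with h1 | h1
      · have h2 := congrArg (fun m : S2 => (m : Matrix (Fin 2) (Fin 2) F) 0 1) h1
        simp only [Matrix.SpecialLinearGroup.coe_mul, coe_dge, hτc, Matrix.mul_apply, Fin.sum_univ_two,
          Matrix.of_apply, Matrix.cons_val', Matrix.cons_val_zero, Matrix.cons_val_one, Matrix.cons_val_fin_one] at h2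
        apply hvF
        have h3 : s ^ 2 * ((v : F) - ((v⁻¹ : Fˣ) : F)) = 0 := by linear_combination h2
        have h4 := (mul_eq_zero.1 h3).resolve_left hs20
        linear_combination (v : F) * h4 + hvi
      · have h2 := congrFun (congrFun h1 0) 1
        simp only [coe_dge, hτc, Matrix.mul_apply, Fin.sum_univ_two, Matrix.neg_apply,
          Matrix.of_apply, Matrix.cons_val', Matrix.cons_val_zero, Matrix.cons_val_one, Matrix.cons_val_fin_one] at h2
        apply hvF4
        have h3 : s ^ 2 * ((v : F) + ((v⁻¹ : Fˣ) : F)) = 0 := by linear_combination h2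
        have h4 := (mul_eq_zero.1 h3).resolve_left hs20
        have h5 : (v : F) ^ 2 = -1 := by linear_combination (v : F) * h4 - hvi
        linear_combination ((v : F) ^ 2 - 1) * h5
    · have h1 := hA2 _ hyH hyA _ hxA
      have h2 : (pr (τ * dge v) : P2) = pr ((dge v)⁻¹ * τ) := by
        rw [map_mul, map_mul, map_inv, ← h1]
        group
      obtain ⟨c, hc⟩ := exists_smul_of_pr_eq h2
      have hi : (((dge v)⁻¹ : S2) : Matrix (Fin 2) (Fin 2) F) = !![((v⁻¹ : Fˣ) : F), 0; 0, (v : F)] := by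
        rw [Matrix.SpecialLinearGroup.coe_inv, Matrix.adjugate_fin_two, coe_dge]
        ext i j
        (revert i j; simp [_root_.Fin.forall_fin_succ])
      have h3 := congrFun (congrFun hc 0) 1
      have h4 := congrFun (congrFun hc 0) 0
      simp only [Matrix.SpecialLinearGroup.coe_mul, coe_dge, hτc, hi, Matrix.mul_apply, Fin.sum_univ_two,
        Matrix.smul_apply, smul_eq_mul,
        Matrix.of_apply, Matrix.cons_val', Matrix.cons_val_zero, Matrix.cons_val_one, Matrix.cons_val_fin_one] at h3 h4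
      have h5 : s ^ 2 * ((v⁻¹ : Fˣ) : F) * (1 - c) = 0 := by linear_combination h3
      have h6 : (1 - c) = 0 := by
        rcases mul_eq_zero.1 h5 with h | h
        · rcases mul_eq_zero.1 h with h | h
          · exact absurd h hs20
          · exact absurd h (Units.ne_zero _)
        · exact h
      have hc1 : c = 1 := by linear_combination -h6
      rw [hc1] at h4
      have h7 : (1 - s ^ 2) * ((v : F) - ((v⁻¹ : Fˣ) : F)) = 0 := by linear_combination -h4
      rcases mul_eq_zero.1 h7 with h8 | h8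
      · exact hs2 (by linear_combination -h8)
      · exact hvF (by linear_combination (v : F) * h8 + hvi)

end Inner

end Cfsg.Agent.H947.Sy
end

-- part: H947/Sy/Psl2C
section
/-!
# Field automorphisms of `PSL₂(q)` and condition `YA` (helper947, task 1556, S3846)
-/

set_option autoImplicit false
set_option linter.unusedSectionVars false

namespace Cfsg.Agent.H947.Sy

open Subgroup Cfsg Matrix
open Cfsg.Agent.H459.Iface Cfsg.Agent.H459.Rad Cfsg.Agent.H301.SY
open Cfsg.Agent.BpLin Cfsg.Agent.LieClassical.SLTwoUnipotent Cfsg.Agent.ClassicalGeometry.PSL2Solvable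
open Cfsg.Agent.ClassicalGeometry.AutPSL.Root Cfsg.Agent.ClassicalGeometry.AutPSL.Auto
  Cfsg.Agent.ClassicalGeometry.AutPSL.Main Cfsg.Agent.H109.EndPsl

section Fld

variable {F : Type*} [Field F] [Fintype F]

local notation "S2" => Matrix.SpecialLinearGroup (Fin 2) F
local notation "P2" => Matrix.ProjectiveSpecialLinearGroup (Fin 2) F

/-- a suitable prime divisor of `q - 1` -/
theorem exists_w {σ : F ≃+* F} {p : ℕ} (hpp : p.Prime) (hp5 : 5 ≤ p) (hσ : σ ^ p = 1) (h1 : σ ≠ 1) :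
    ∃ w : ℕ, w.Prime ∧ 5 < w ∧ w ≠ p ∧ w ∣ Fintype.card F - 1 := by
  obtain ⟨K, c, -, hcard, hc0⟩ := Cfsg.Agent.Lib.PSL2Inv.exists_fixed_field σ hpp (n := 1) (by rw [pow_one]; exact hσ)
  have hc : c ≠ 0 := fun h => h1 (hc0 h)
  obtain ⟨d, rfl⟩ := Nat.exists_eq_succ_of_ne_zero hc
  set a := Nat.card K ^ p ^ d with ha
  have hK : 2 ≤ Nat.card K := Finite.one_lt_card
  have ha2 : 2 ≤ a := by
    calc 2 ≤ Nat.card K := hK
      _ ≤ a := Nat.le_self_pow (pow_ne_zero _ hpp.ne_zero) _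
  have hF : Fintype.card F = a ^ p := by
    rw [← Nat.card_eq_fintype_card, hcard, ha, ← pow_mul, ← pow_succ]
  obtain ⟨w, hw, hw1, hw2, -⟩ := Cfsg.Agent.Lib.Zsigmondy.exists_primitive (a := a) (n := p) ha2 hpp.two_le
    (fun h => by omega) (fun h => by
      have := h.2
      rw [this] at hpp
      exact absurd hpp (by norm_num))
  have hle : p ≤ w - 1 := Nat.le_of_dvd (by have := hw.two_le; omega) hw2
  exact ⟨w, hw, by omega, by omega, by rw [hF]; exact (hw1 p).2 dvd_rfl⟩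

/-- the matrix with columns `(a, 1)` and `(a - 1, 1)` -/
def ga (a : F) : S2 := ⟨!![a, a - 1; 1, 1], by rw [Matrix.det_fin_two_of]; ring⟩

theorem coe_ga (a : F) : ((ga a : S2) : Matrix (Fin 2) (Fin 2) F) = !![a, a - 1; 1, 1] := rfl

theorem fld_dge (σ : F ≃+* F) (v : Fˣ) : fld σ (dge v : S2) = dge (Units.map σ.toMonoidHom v) := by
  apply Subtype.ext
  ext i j
  rw [coe_fld_apply]
  (revert i j; simp only [coe_dge, _root_.Fin.forall_fin_succ, _root_.Units.val_inv_eq_inv_val, _root_.Matrix.of_apply, _root_.Matrix.cons_val', _root_.Matrix.cons_val_fin_one, _root_.RingHom.toMonoidHom_eq_coe, _root_.RingEquiv.toRingHom_eq_coe, _root_.Units.coe_map, _root_.MonoidHom.coe_coe, _root_.RingHom.coe_coe, Fin.isValue, _root_.Matrix.cons_val_zero, _root_.Matrix.cons_val_succ, _root_.forall_const, _root_.map_zero, _root_.and_self, _root_.map_inv₀, _root_.implies_true])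

theorem fld_ga (σ : F ≃+* F) (a : F) : fld σ (ga a : S2) = ga (σ a) := by
  apply Subtype.ext
  ext i j
  rw [coe_fld_apply]
  (revert i j; simp only [coe_ga, _root_.Fin.forall_fin_succ, _root_.Matrix.of_apply, _root_.Matrix.cons_val', _root_.Matrix.cons_val_fin_one, Fin.isValue, _root_.Matrix.cons_val_zero, _root_.Matrix.cons_val_succ, _root_.forall_const, _root_.map_sub, _root_.map_one, _root_.and_self, _root_.implies_true])

theorem fld_u (σ : F ≃+* F) (c : F) : fld σ (u c : S2) = u (σ c) := by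
  apply Subtype.ext
  ext i j
  rw [coe_fld_apply]
  (revert i j; simp only [coe_u, _root_.Fin.forall_fin_succ, _root_.Matrix.of_apply, _root_.Matrix.cons_val', _root_.Matrix.cons_val_fin_one, Fin.isValue, _root_.Matrix.cons_val_zero, _root_.Matrix.cons_val_succ, _root_.forall_const, _root_.map_one, _root_.and_self, _root_.map_zero, _root_.implies_true])

/-- `g⁻¹ σ(g)` -/
theorem coe_hh (a b : F) : (((ga a)⁻¹ * ga b : S2) : Matrix (Fin 2) (Fin 2) F) =
    !![1 + (b - a), b - a; -(b - a), 1 - (b - a)] := by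
  rw [Matrix.SpecialLinearGroup.coe_mul, Matrix.SpecialLinearGroup.coe_inv, Matrix.adjugate_fin_two, coe_ga, coe_ga]
  ext i j
  (revert i j; simp only [Matrix.mul_apply, Fin.sum_univ_two, _root_.Fin.forall_fin_succ, Fin.isValue, _root_.Matrix.of_apply, _root_.Matrix.cons_val', _root_.Matrix.cons_val_one, _root_.Matrix.cons_val_fin_one, _root_.Matrix.cons_val_zero, _root_.neg_sub, _root_.mul_one, _root_.Matrix.cons_val_succ, _root_.forall_const, _root_.one_mul, _root_.sub_add_sub_cancel, _root_.and_true, _root_.neg_mul]) <;> (repeat' with_reducible apply And.intro) <;> ring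

theorem tri {t : S2} {c d : F} (hc : c ≠ 0) (h : (pr (t * u c * t⁻¹) : P2) = pr (u d)) : t 1 0 = 0 := by
  have h8 : ((t * u c * t⁻¹ : S2) : Matrix (Fin 2) (Fin 2) F) 1 0 = -(c * (t 1 0) ^ 2) := by
    rw [Matrix.SpecialLinearGroup.coe_mul, Matrix.SpecialLinearGroup.coe_mul, Matrix.SpecialLinearGroup.coe_inv,
      Matrix.adjugate_fin_two, coe_u]
    simp only [Matrix.mul_apply, Fin.sum_univ_two, _root_.Fin.isValue, _root_.Matrix.of_apply, _root_.Matrix.cons_val', _root_.Matrix.cons_val_fin_one, _root_.Matrix.cons_val_zero, _root_.Matrix.cons_val_one, _root_.mul_one, _root_.MulZeroClass.mul_zero, _root_.add_zero, _root_.mul_neg]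
    ring
  have h7 : ((t * u c * t⁻¹ : S2) : Matrix (Fin 2) (Fin 2) F) 1 0 = 0 := by
    rcases pr_eq_iff.1 h.symm with h6 | h6
    · rw [h6]
      simp [coe_u]
    · rw [h6]
      simp [coe_u]
  rw [h8] at h7
  have h9 : c * (t 1 0) ^ 2 = 0 := by linear_combination -h7
  rcases mul_eq_zero.1 h9 with h10 | h10
  · exact absurd h10 hc
  · exact pow_eq_zero_iff (two_ne_zero) |>.1 h10

/-- **Field automorphisms.** -/
theorem field_false {σ : F ≃+* F} {p : ℕ} (hpp : p.Prime) (hp5 : 5 ≤ p) (hσ : σ ^ p = 1) (h1 : σ ≠ 1)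
    (hY : YA p (lift (fld σ) : MulAut P2)) : False := by
  obtain ⟨l, hlF⟩ := CharP.exists F
  have hl : Fact l.Prime := ⟨CharP.char_is_prime F l⟩
  obtain ⟨w, hw, hw5, hwp, hwq⟩ := exists_w hpp hp5 hσ h1
  have hwF : Fact w.Prime := ⟨hw⟩
  obtain ⟨v, hv⟩ : ∃ v : Fˣ, orderOf v = w :=
    exists_prime_orderOf_dvd_card' w (by rwa [Nat.card_units, Nat.card_eq_fintype_card])
  have hv2 : v ^ 2 ≠ 1 := by
    intro h
    have := Nat.le_of_dvd (by norm_num) (hv ▸ orderOf_dvd_of_pow_eq_one h)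
    omega
  have hv4 : v ^ 4 ≠ 1 := by
    intro h
    have := Nat.le_of_dvd (by norm_num) (hv ▸ orderOf_dvd_of_pow_eq_one h)
    omega
  obtain ⟨a, ha⟩ : ∃ a, σ a ≠ a := by
    by_contra hcon
    push Not at hcon
    exact h1 (RingEquiv.ext hcon)
  -- the element `y`
  have hdw : (pr (dge v) : P2) ^ w = 1 := by
    have h2 : (dge v : S2) = dgh v := rfl
    rw [← map_pow, h2, ← map_pow, ← hv, pow_orderOf_eq_one, map_one, map_one]
  have hd1 : (pr (dge v) : P2) ≠ 1 := by
    intro h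
    rw [← map_one (pr : S2 →* P2)] at h
    rcases pr_eq_iff.1 h with h2 | h2
    · have h3 := congrArg (fun m : S2 => (m : Matrix (Fin 2) (Fin 2) F) 0 0) h2
      simp only [coe_dge, Matrix.SpecialLinearGroup.coe_one, Matrix.one_apply_eq, Matrix.of_apply, Matrix.cons_val',
        Matrix.cons_val_zero, Matrix.cons_val_fin_one] at h3
      apply hv2
      have : v = 1 := Units.ext h3.symm
      rw [this, one_pow]
    · have h3 := congrArg (fun m : S2 => (m : Matrix (Fin 2) (Fin 2) F) 0 0) h2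
      simp only [coe_dge, Matrix.SpecialLinearGroup.coe_neg, Matrix.SpecialLinearGroup.coe_one, Matrix.neg_apply,
        Matrix.one_apply_eq, Matrix.of_apply, Matrix.cons_val',
        Matrix.cons_val_zero, Matrix.cons_val_fin_one] at h3
      apply hv2
      have h4 : (v : F) = -1 := by linear_combination h3
      apply Units.ext
      rw [Units.val_pow_eq_pow_val, h4, Units.val_one]
      ring
  have how : orderOf (pr (dge v) : P2) = w := orderOf_eq_prime hdw hd1
  set x : MulAut P2 := lift (fld σ) with hx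
  have hxpr : ∀ s : S2, x (pr s) = pr (fld σ s) := fun s => lift_pr _ _
  have hsol : Group.IsSolvable ↥(_root_.Subgroup.closure ({x, MulAut.conj (pr (dge v))} : Set (MulAut P2))) := by
    set N : Subgroup (MulAut P2) := ((dgh.range : Subgroup S2).map (pr : S2 →* P2)).map MulAut.conj with hN
    have hNs : Group.IsSolvable N := by
      have h0 : Group.IsSolvable (dgh.range : Subgroup S2) :=
        Group.isSolvable_of_surjective (f := dgh.rangeRestrict) dgh.rangeRestrict_surjective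
      have h2 : Group.IsSolvable ↥((dgh.range : Subgroup S2).map (pr : S2 →* P2)) :=
        Cfsg.Agent.SignalizersComponents.ComponentExists.isSolvable_map h0 _
      exact Cfsg.Agent.SignalizersComponents.ComponentExists.isSolvable_map h2 _
    have hmem : ∀ v : Fˣ, MulAut.conj (pr (dge v)) ∈ N := fun v => ⟨_, ⟨_, ⟨v, rfl⟩, rfl⟩, rfl⟩
    have hinv : ∀ b ∈ zpowers x, ∀ n ∈ N, b * n * b⁻¹ ∈ N := by
      have hgen : ∀ τ : F ≃+* F, ∀ n ∈ N, (lift (fld τ) : MulAut P2) * n * (lift (fld τ) : MulAut P2)⁻¹ ∈ N := by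
        rintro τ _ ⟨_, ⟨_, ⟨v, rfl⟩, rfl⟩, rfl⟩
        have h2 : (lift (fld τ) : MulAut P2) * MulAut.conj (pr (dgh v)) * (lift (fld τ) : MulAut P2)⁻¹ =
            MulAut.conj ((lift (fld τ) : MulAut P2) (pr (dgh v))) := by
          ext z
          simp only [MulAut.mul_apply, MulAut.conj_apply, _root_.QuotientGroup.mk'_apply, _root_.MulAut.inv_apply, _root_.map_mul, _root_.MulEquiv.apply_symm_apply, _root_.map_inv]
        rw [h2, lift_pr]
        have h3 : fld τ (dgh v : S2) = dge (Units.map τ.toMonoidHom v) := fld_dge τ v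
        rw [h3]
        exact hmem _
      intro b hb n hn
      obtain ⟨k, rfl⟩ := mem_zpowers_iff.1 hb
      have : x ^ k = lift (fld (σ ^ k)) := by rw [map_zpow, map_zpow]
      rw [this]
      exact hgen _ n hn
    have h3 : Group.IsSolvable (N ⊔ zpowers x : Subgroup (MulAut P2)) := by
      refine Cfsg.Agent.SignalizersComponents.CoprimeBasic.isSolvable_sup ?_ hNs inferInstance
      intro b hb
      rw [mem_normalizer_iff]
      intro n
      constructor
      · exact hinv b hb n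
      · intro hn
        have := hinv b⁻¹ ((zpowers x).inv_mem hb) _ hn
        have e1 : b⁻¹ * (b * n * b⁻¹) * b⁻¹⁻¹ = n := by group
        rwa [e1] at this
    have h4 : _root_.Subgroup.closure ({x, MulAut.conj (pr (dge v))} : Set (MulAut P2)) ≤ N ⊔ zpowers x := by
      rw [closure_le]
      rintro z (rfl | rfl)
      · exact (le_sup_right : zpowers x ≤ _) (mem_zpowers x)
      · exact (le_sup_left : N ≤ _) (hmem v)
    exact Group.isSolvable_of_isSolvable_injective (f := Subgroup.inclusion h4) (Subgroup.inclusion_injective h4)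
  have hall := hY w hw hwp (pr (dge v)) ⟨1, by rw [how, pow_one]⟩ hsol (pr (ga a))
  obtain ⟨y', hy'⟩ : ∃ y' : P2, pr (ga a) * pr (dge v) * (pr (ga a))⁻¹ = y' := ⟨_, rfl⟩
  rw [hy'] at hall
  have hoy : orderOf y' = w := by
    rw [← hy', ← how]
    exact orderOf_injective (MulAut.conj (pr (ga a) : P2)).toMonoidHom (MulAut.conj _).injective _
  set H := _root_.Subgroup.closure ({x, MulAut.conj y'} : Set (MulAut P2)) with hH
  have hxH : x ∈ H := _root_.Subgroup.subset_closure (Set.mem_insert _ _)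
  set H0 : Subgroup P2 := H.comap (MulAut.conj : P2 →* MulAut P2) with hH0
  have hyH : y' ∈ H0 := by
    show MulAut.conj y' ∈ H
    exact _root_.Subgroup.subset_closure (Set.mem_insert_of_mem _ rfl)
  have hH0s : Group.IsSolvable H0 := by
    have hZ : center P2 = ⊥ := by
      refine Cfsg.Agent.GenExc.center_psl_two ?_
      apply not_isSolvable_psl
      have h5 : w ≤ Fintype.card F - 1 := Nat.le_of_dvd (by
        have : 1 < Fintype.card F := Fintype.one_lt_card
        omega) hwq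
      omega
    let f : H0 →* H := ((MulAut.conj : P2 →* MulAut P2).comp H0.subtype).codRestrict H (fun z => z.2)
    have hf : Function.Injective f := by
      intro z₁ z₂ h
      have h2 : MulAut.conj (z₁ : P2) = MulAut.conj (z₂ : P2) := congrArg Subtype.val h
      exact Subtype.ext (_root_.Cfsg.Agent.H301.SY.conj_injective hZ h2)
    exact Group.isSolvable_of_isSolvable_injective (f := f) hf
  have hinv : ∀ k ∈ H0, x k ∈ H0 := by
    intro k hk
    show MulAut.conj (x k) ∈ H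
    have h2 : MulAut.conj (x k) = x * MulAut.conj k * x⁻¹ := by
      ext z
      simp only [MulAut.mul_apply, MulAut.conj_apply, _root_.MulAut.inv_apply, _root_.map_mul, _root_.MulEquiv.apply_symm_apply, _root_.map_inv]
    rw [h2]
    exact H.mul_mem (H.mul_mem hxH hk) (H.inv_mem hxH)
  have hd : w ∣ Nat.card H0 := by
    rw [← hoy, ← Subgroup.orderOf_mk _ hyH]
    exact _root_.orderOf_dvd_natCard _
  rcases shape (l := l) H0 hH0s hw (by omega) hd with ⟨Q, hQ1, hQH, hQl, hQn, hQa⟩ | ⟨A, hAH, hAc, hA1, hA2⟩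
  · obtain ⟨g, hg1, hg⟩ := exists_borel hQ1 hQl
    obtain ⟨b, hb, hyb⟩ := hg _ (hQn _ hyH)
    -- the fixed line of `y'`
    have h2 : (pr (dge v) : P2) = pr (((ga a)⁻¹ * g) * b * ((ga a)⁻¹ * g)⁻¹) := by
      have h3 : (pr (dge v) : P2) = (pr (ga a))⁻¹ * y' * pr (ga a) := by rw [← hy']; group
      rw [h3, hyb]
      simp only [map_mul, map_inv]
      group
    have h3 := eig_dge hv2 hb h2
    -- the line is `σ`-invariant
    obtain ⟨a1, ha1, ha1'⟩ : ∃ a ∈ Q, a ≠ 1 := by
      by_contra hcon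
      push Not at hcon
      exact hQ1 ((Subgroup.eq_bot_iff_forall _).2 hcon)
    obtain ⟨c, hc⟩ := hg1 a1 ha1
    have hc0 : c ≠ 0 := by
      rintro rfl
      apply ha1'
      rw [hc, u_zero, mul_one, mul_inv_cancel, map_one]
    have hxa : x a1 ∈ Q := by
      apply hQa _ (hinv _ (hQH ha1))
      obtain ⟨k, hk⟩ := hQl ⟨a1, ha1⟩
      refine ⟨k, ?_⟩
      rw [← map_pow]
      have : a1 ^ l ^ k = 1 := congrArg Subtype.val hk
      rw [this, map_one]
    obtain ⟨d, hd'⟩ := hg1 _ hxa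
    have h4 : (g⁻¹ * fld σ g : S2) 1 0 = 0 := by
      refine tri (c := σ c) (d := d) ((map_ne_zero σ).2 hc0) ?_
      have h5 : (pr (g⁻¹ * fld σ g * u (σ c) * (g⁻¹ * fld σ g)⁻¹) : P2) = (pr g)⁻¹ * x a1 * pr g := by
        rw [hc, hxpr]
        simp only [map_mul, map_inv, fld_u]
        group
      rw [h5, hd']
      simp only [map_mul, map_inv]
      group
    -- coordinates
    obtain ⟨g0, hg0⟩ : ∃ m : Matrix (Fin 2) (Fin 2) F, (g : Matrix (Fin 2) (Fin 2) F) = m := ⟨_, rfl⟩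
    have hdet : g0 0 0 * g0 1 1 - g0 0 1 * g0 1 0 = 1 := by
      rw [← hg0, ← Matrix.det_fin_two, Matrix.SpecialLinearGroup.det_coe]
    have h5 : g0 0 0 * σ (g0 1 0) - g0 1 0 * σ (g0 0 0) = 0 := by
      have h6 : ((g⁻¹ * fld σ g : S2) : Matrix (Fin 2) (Fin 2) F) 1 0 = 0 := h4
      rw [Matrix.SpecialLinearGroup.coe_mul, Matrix.SpecialLinearGroup.coe_inv, Matrix.adjugate_fin_two,
        Matrix.mul_apply, Fin.sum_univ_two, coe_fld_apply, coe_fld_apply] at h6
      simp only [Matrix.of_apply, Matrix.cons_val', Matrix.cons_val_zero, Matrix.cons_val_one,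
        Matrix.cons_val_fin_one] at h6
      rw [hg0] at h6
      linear_combination h6
    have h6 : g0 0 0 = a * g0 1 0 ∨ g0 0 0 = (a - 1) * g0 1 0 := by
      rw [Matrix.SpecialLinearGroup.coe_mul, Matrix.SpecialLinearGroup.coe_inv, Matrix.adjugate_fin_two, coe_ga] at h3
      simp only [Matrix.mul_apply, Fin.sum_univ_two, Matrix.of_apply, Matrix.cons_val', Matrix.cons_val_zero,
        Matrix.cons_val_one, Matrix.cons_val_fin_one] at h3
      rw [hg0] at h3
      rcases h3 with h3 | h3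
      · right
        linear_combination h3
      · left
        linear_combination -h3
    have h7 : g0 1 0 ≠ 0 := by
      intro h8
      have h9 : g0 0 0 = 0 := by
        rcases h6 with h6 | h6
        · rw [h6, h8, mul_zero]
        · rw [h6, h8, mul_zero]
      rw [h8, h9] at hdet
      simp at hdet
    have h8 : σ (g0 1 0) ≠ 0 := (map_ne_zero σ).2 h7
    rcases h6 with h6 | h6
    · rw [h6, map_mul] at h5
      have h9 : (g0 1 0 * σ (g0 1 0)) * (a - σ a) = 0 := by linear_combination h5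
      rcases mul_eq_zero.1 h9 with h10 | h10
      · exact (mul_ne_zero h7 h8) h10
      · exact ha (by linear_combination -h10)
    · rw [h6, map_mul, map_sub, map_one] at h5
      have h9 : (g0 1 0 * σ (g0 1 0)) * (a - σ a) = 0 := by linear_combination h5
      rcases mul_eq_zero.1 h9 with h10 | h10
      · exact (mul_ne_zero h7 h8) h10
      · exact ha (by linear_combination -h10)
  · have hy2 : y' ^ 2 ≠ 1 := by
      intro h
      have := Nat.le_of_dvd (by norm_num) (hoy ▸ orderOf_dvd_of_pow_eq_one h)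
      omega
    have hyx2 : (x y') ^ 2 ≠ 1 := by
      intro h
      rw [← map_pow] at h
      exact hy2 (x.injective (by rw [h, map_one]))
    have hcomm := hAc _ (hA1 _ hyH hy2) _ (hA1 _ (hinv _ hyH) hyx2)
    -- the matrices
    obtain ⟨vs, hvs⟩ : ∃ vs : Fˣ, Units.map σ.toMonoidHom v = vs := ⟨_, rfl⟩
    have hvs2 : (vs : F) ^ 2 ≠ 1 := by
      intro h
      rw [← hvs] at h
      have h2 : σ ((v : F) ^ 2) = 1 := by rw [map_pow]; exact h
      have h3 : (v : F) ^ 2 = 1 := σ.injective (by rw [h2, map_one])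
      exact hv2 (Units.ext (by rw [Units.val_pow_eq_pow_val, h3, Units.val_one]))
    obtain ⟨m, hm⟩ : ∃ m : S2, ((ga a)⁻¹ * ga (σ a)) * dge vs * ((ga a)⁻¹ * ga (σ a))⁻¹ = m := ⟨_, rfl⟩
    have hc2 : (pr (dge v) : P2) * pr m = pr m * pr (dge v) := by
      have e1 : (pr (dge v) : P2) = (pr (ga a))⁻¹ * y' * pr (ga a) := by rw [← hy']; group
      have e2 : (pr m : P2) = (pr (ga a))⁻¹ * x y' * pr (ga a) := by
        rw [← hm, ← hy']
        simp only [map_mul, map_inv, hxpr, fld_ga, fld_dge, hvs]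
        group
      rw [e1, e2]
      have e3 : (pr (ga a))⁻¹ * y' * pr (ga a) * ((pr (ga a))⁻¹ * x y' * pr (ga a)) =
          (pr (ga a))⁻¹ * (y' * x y') * pr (ga a) := by group
      have e4 : (pr (ga a))⁻¹ * x y' * pr (ga a) * ((pr (ga a))⁻¹ * y' * pr (ga a)) =
          (pr (ga a))⁻¹ * (x y' * y') * pr (ga a) := by group
      rw [e3, e4, hcomm]
    obtain ⟨δ, hδ⟩ : ∃ δ, σ a - a = δ := ⟨_, rfl⟩
    have hδ0 : δ ≠ 0 := by rw [← hδ]; exact sub_ne_zero.2 ha
    have hvv : (vs : F) * ((vs⁻¹ : Fˣ) : F) = 1 := by rw [← Units.val_mul, mul_inv_cancel, Units.val_one]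
    have hmc : (m : Matrix (Fin 2) (Fin 2) F) 0 1 = (1 + δ) * δ * (((vs⁻¹ : Fˣ) : F) - vs) ∧
        (m : Matrix (Fin 2) (Fin 2) F) 1 0 = -(δ * (1 - δ)) * ((vs : F) - ((vs⁻¹ : Fˣ) : F)) := by
      rw [← hm, Matrix.SpecialLinearGroup.coe_mul, Matrix.SpecialLinearGroup.coe_mul, Matrix.SpecialLinearGroup.coe_inv,
        Matrix.adjugate_fin_two, coe_hh, coe_dge, hδ]
      simp only [Matrix.mul_apply, Fin.sum_univ_two, Matrix.of_apply, Matrix.cons_val', Matrix.cons_val_zero,
        Matrix.cons_val_one, Matrix.cons_val_fin_one]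
      constructor
      · ring
      · ring
    have hvne : (vs : F) - ((vs⁻¹ : Fˣ) : F) ≠ 0 := by
      intro h
      apply hvs2
      linear_combination (vs : F) * h + hvv
    have hvi : (v : F) * ((v⁻¹ : Fˣ) : F) = 1 := by rw [← Units.val_mul, mul_inv_cancel, Units.val_one]
    have hvF : (v : F) - ((v⁻¹ : Fˣ) : F) ≠ 0 := by
      intro h
      apply hv2
      apply Units.ext
      rw [Units.val_pow_eq_pow_val, Units.val_one]
      linear_combination (v : F) * h + hvi
    have hvF4 : (v : F) + ((v⁻¹ : Fˣ) : F) ≠ 0 := by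
      intro h
      apply hv4
      apply Units.ext
      rw [Units.val_pow_eq_pow_val, Units.val_one]
      have h5 : (v : F) ^ 2 = -1 := by linear_combination (v : F) * h - hvi
      linear_combination ((v : F) ^ 2 - 1) * h5
    have hoff : (m : Matrix (Fin 2) (Fin 2) F) 0 1 = 0 ∧ (m : Matrix (Fin 2) (Fin 2) F) 1 0 = 0 := by
      rcases comm_or hc2 with h2 | h2
      · have h3 := congrArg (fun m : S2 => (m : Matrix (Fin 2) (Fin 2) F) 0 1) h2
        have h4 := congrArg (fun m : S2 => (m : Matrix (Fin 2) (Fin 2) F) 1 0) h2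
        simp only [Matrix.SpecialLinearGroup.coe_mul, coe_dge, Matrix.mul_apply, Fin.sum_univ_two,
          Matrix.of_apply, Matrix.cons_val', Matrix.cons_val_zero, Matrix.cons_val_one,
          Matrix.cons_val_fin_one] at h3 h4
        constructor
        · have h5 : ((v : F) - ((v⁻¹ : Fˣ) : F)) * (m : Matrix (Fin 2) (Fin 2) F) 0 1 = 0 := by
            linear_combination h3
          exact (mul_eq_zero.1 h5).resolve_left hvF
        · have h5 : ((v : F) - ((v⁻¹ : Fˣ) : F)) * (m : Matrix (Fin 2) (Fin 2) F) 1 0 = 0 := by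
            linear_combination -h4
          exact (mul_eq_zero.1 h5).resolve_left hvF
      · have h3 := congrFun (congrFun h2 0) 1
        have h4 := congrFun (congrFun h2 1) 0
        simp only [coe_dge, Matrix.mul_apply, Fin.sum_univ_two, Matrix.neg_apply,
          Matrix.of_apply, Matrix.cons_val', Matrix.cons_val_zero, Matrix.cons_val_one,
          Matrix.cons_val_fin_one] at h3 h4
        constructor
        · have h5 : ((v : F) + ((v⁻¹ : Fˣ) : F)) * (m : Matrix (Fin 2) (Fin 2) F) 0 1 = 0 := by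
            linear_combination h3
          exact (mul_eq_zero.1 h5).resolve_left hvF4
        · have h5 : ((v : F) + ((v⁻¹ : Fˣ) : F)) * (m : Matrix (Fin 2) (Fin 2) F) 1 0 = 0 := by
            linear_combination h4
          exact (mul_eq_zero.1 h5).resolve_left hvF4
    rw [hmc.1, hmc.2] at hoff
    have h2 : δ = -1 := by
      have h3 : (1 + δ) = 0 := by
        rcases mul_eq_zero.1 hoff.1 with h | h
        · exact (mul_eq_zero.1 h).resolve_right hδ0
        · exact absurd (by linear_combination -h) hvne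
      linear_combination h3
    have h3 : δ = 1 := by
      have h4 : δ * (1 - δ) * ((vs : F) - ((vs⁻¹ : Fˣ) : F)) = 0 := by linear_combination -hoff.2
      have h5 := (mul_eq_zero.1 h4).resolve_right hvne
      have h6 := (mul_eq_zero.1 h5).resolve_left hδ0
      linear_combination -h6
    have h22 : (2 : F) = 0 := by linear_combination h3.symm.trans h2
    have h4 : σ a = a + 1 := by linear_combination hδ + h3
    have h5 : ∀ n : ℕ, (σ ^ n) a = a + n := by
      intro n
      induction n with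
      | zero => simp
      | succ n ih =>
        rw [pow_succ', RingAut.mul_apply, ih, map_add, map_natCast, h4]
        push_cast
        ring
    have h6 := h5 p
    rw [hσ, RingAut.one_apply] at h6
    have h7 : (p : F) = 0 := by linear_combination -h6
    obtain ⟨k, hk⟩ := hpp.odd_of_ne_two (by omega)
    rw [hk] at h7
    push_cast at h7
    rw [h22] at h7
    simp at h7

end Fld

end Cfsg.Agent.H947.Sy
end

-- part: H947/Sy/Psl2
section
/-!
# The row `PSL₂(q)` of S3846 (helper947, task 1556): `noya_psl2`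
-/

set_option autoImplicit false
set_option linter.unusedSectionVars false

namespace Cfsg.Agent.H947.Sy

open Subgroup Cfsg Matrix
open Cfsg.Agent.H459.Iface Cfsg.Agent.H459.Rad Cfsg.Agent.H301.SY
open Cfsg.Agent.BpLin Cfsg.Agent.LieClassical.SLTwoUnipotent Cfsg.Agent.ClassicalGeometry.PSL2Solvable
open Cfsg.Agent.ClassicalGeometry.AutPSL.Root Cfsg.Agent.ClassicalGeometry.AutPSL.Auto
  Cfsg.Agent.ClassicalGeometry.AutPSL.Main Cfsg.Agent.H109.EndPsl

section Main

variable {F : Type*} [Field F] [Fintype F]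

local notation "S2" => Matrix.SpecialLinearGroup (Fin 2) F
local notation "P2" => Matrix.ProjectiveSpecialLinearGroup (Fin 2) F

theorem not_comm_psl : ¬ IsMulCommutative P2 := by
  intro h
  have h1 : (pr (u 1 * l 1) : P2) = pr (l 1 * u 1) := by
    rw [map_mul, map_mul]
    exact h.is_comm.comm _ _
  obtain ⟨c, hc⟩ := exists_smul_of_pr_eq h1
  have h00 := congrFun (congrFun hc 0) 0
  have h01 := congrFun (congrFun hc 0) 1
  simp only [Matrix.SpecialLinearGroup.coe_mul, coe_u, coe_l, Matrix.mul_apply, Fin.sum_univ_two, _root_.Fin.isValue, _root_.Matrix.of_apply, _root_.Matrix.cons_val', _root_.Matrix.cons_val_fin_one, _root_.Matrix.cons_val_zero, _root_.mul_one, _root_.Matrix.cons_val_one, _root_.MulZeroClass.mul_zero, _root_.add_zero, _root_.Matrix.cons_mul, _root_.Nat.succ_eq_add_one, _root_.Nat.reduceAdd, _root_.Matrix.vecMul_cons, _root_.Matrix.head_cons, _root_.one_smul, _root_.Matrix.tail_cons, _root_.Matrix.empty_vecMul, _root_.Matrix.add_cons,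 _root_.zero_add, _root_.Matrix.empty_add_empty, _root_.zero_smul, _root_.Matrix.empty_mul, _root_.Equiv.symm_apply_apply, _root_.Matrix.smul_apply, _root_.smul_eq_mul] at h00 h01
  rw [← h01] at h00
  have : (1 : F) = 0 := by linear_combination -h00
  exact one_ne_zero this

theorem orderOf_pr_dge {w : ℕ} (hw : w.Prime) (hw2 : 2 < w) {v : Fˣ} (hv : orderOf v = w) :
    orderOf (pr (dge v) : P2) = w := by
  have hwF : Fact w.Prime := ⟨hw⟩
  have hv2 : v ^ 2 ≠ 1 := by
    intro h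
    have := Nat.le_of_dvd (by norm_num) (hv ▸ orderOf_dvd_of_pow_eq_one h)
    omega
  have hdw : (pr (dge v) : P2) ^ w = 1 := by
    have h2 : (dge v : S2) = dgh v := rfl
    rw [← map_pow, h2, ← map_pow, ← hv, pow_orderOf_eq_one, map_one, map_one]
  have hd1 : (pr (dge v) : P2) ≠ 1 := by
    intro h
    rw [← map_one (pr : S2 →* P2)] at h
    rcases pr_eq_iff.1 h with h2 | h2
    · have h3 := congrArg (fun m : S2 => (m : Matrix (Fin 2) (Fin 2) F) 0 0) h2
      simp only [coe_dge, Matrix.SpecialLinearGroup.coe_one, Matrix.one_apply_eq, Matrix.of_apply, Matrix.cons_val',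
        Matrix.cons_val_zero, Matrix.cons_val_fin_one] at h3
      apply hv2
      have : v = 1 := Units.ext h3.symm
      rw [this, one_pow]
    · have h3 := congrArg (fun m : S2 => (m : Matrix (Fin 2) (Fin 2) F) 0 0) h2
      simp only [coe_dge, Matrix.SpecialLinearGroup.coe_neg, Matrix.SpecialLinearGroup.coe_one, Matrix.neg_apply,
        Matrix.one_apply_eq, Matrix.of_apply, Matrix.cons_val',
        Matrix.cons_val_zero, Matrix.cons_val_fin_one] at h3
      apply hv2
      have h4 : (v : F) = -1 := by linear_combination h3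
      apply Units.ext
      rw [Units.val_pow_eq_pow_val, h4, Units.val_one]
      ring
  exact orderOf_eq_prime hdw hd1

theorem noya {p : ℕ} [hpf : Fact p.Prime] [IsSimpleGroup P2] (hp : 5 ≤ p) : NoYA p P2 := by
  intro x hx hR hY
  have hna : ¬ IsMulCommutative P2 := not_comm_psl
  have hZ : center P2 = ⊥ := center_eq_bot hna
  have hxp : x ^ p = 1 := by rw [← hx]; exact pow_orderOf_eq_one x
  obtain ⟨A, σ, rfl⟩ := exists_type le_rfl (hpf.out.odd_of_ne_two (by omega)) hxp
  have hxp' := hxp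
  rw [← map_pow, pow_type] at hxp'
  have h1 : lift (cj (NA A σ p) * fld (σ ^ p)) = lift (fld (ι := Fin 2) (1 : F ≃+* F)) := by
    rw [hxp', map_one fld, map_one]
  obtain ⟨⟨c, hc⟩, hσ⟩ := injective_aux h1
  have hc' : (NA A σ p : Matrix (Fin 2) (Fin 2) F) = c • 1 := by
    rw [← hc, Matrix.scalar_apply, Matrix.smul_one_eq_diagonal]
  by_cases h2 : σ = 1
  · subst h2
    rw [map_one fld, mul_one] at hx hR hxp hY
    obtain ⟨s, hs⟩ := Cfsg.Agent.H999.RowPSL.inner_of_coprime (n := 2) (p := p)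
      ((Nat.coprime_primes Nat.prime_two hpf.out).2 (by omega)) hxp
    rw [hs] at hx hR hY
    have hos : orderOf s = p := by
      rw [← hx]
      exact (orderOf_injective (MulAut.conj : P2 →* MulAut P2) (_root_.Cfsg.Agent.H301.SY.conj_injective hZ) s).symm
    have hYE : YE p s := YE.of_ya hZ hY
    by_cases hpq : p ∣ Nat.card F
    · -- the defining characteristic
      have hch : CharP F p := by
        obtain ⟨r, hr⟩ := CharP.exists F
        have hrp : Fact r.Prime := ⟨CharP.char_is_prime F r⟩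
        obtain ⟨n, -, hn⟩ := FiniteField.card F r
        rw [Nat.card_eq_fintype_card, hn] at hpq
        have := (Nat.prime_dvd_prime_iff_eq hpf.out hrp.out).1 (hpf.out.dvd_of_dvd_pow hpq)
        rwa [this]
      by_cases hpc : Nat.card F = p
      · refine M0.false hna (fun P a ha b hb => ?_) hos hYE
          (m0_psl hpf.out hp (Or.inl (by rw [← Nat.card_eq_fintype_card]; exact hpc)) hos)
        have := (isCyclic_sylow_self hpc P).isMulCommutative
        exact congrArg Subtype.val (this.is_comm.comm (⟨a, ha⟩ : (P : Subgroup P2)) ⟨b, hb⟩)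
      · exact unip_false hp hpc hx hR
    · have hpq' : ¬ p ∣ Fintype.card F := by rwa [← Nat.card_eq_fintype_card]
      have hcyc : ∀ P : Sylow p P2, IsCyclic (P : Subgroup P2) := isCyclic_sylow (by omega) hpq
      by_cases hp1 : p ∣ Fintype.card F - 1
      · obtain ⟨v, hv⟩ : ∃ v : Fˣ, orderOf v = p :=
          exists_prime_orderOf_dvd_card' p (by rwa [Nat.card_units, Nat.card_eq_fintype_card])
        have ho := orderOf_pr_dge hpf.out (by omega) hv
        have hL : p ∣ Nat.card ↥((dgh.range : Subgroup S2).map (pr : S2 →* P2)) := by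
          have hm : (pr (dge v) : P2) ∈ (dgh.range : Subgroup S2).map (pr : S2 →* P2) := ⟨_, ⟨v, rfl⟩, rfl⟩
          rw [← ho, ← Subgroup.orderOf_mk _ hm]
          exact _root_.orderOf_dvd_natCard _
        obtain ⟨g, _, ⟨v', rfl⟩, hv'⟩ := exists_conj_mem hcyc hos hL
        have hY' := YE.conj hYE g
        have hos' : orderOf (g * s * g⁻¹) = p := by
          rw [← hos]
          exact orderOf_injective (MulAut.conj g).toMonoidHom (MulAut.conj g).injective s
        rw [← hv'] at hY' hos'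
        exact split_false hpf.out hp hpq' hos' hY'
      · refine M0.false hna (fun P a ha b hb => ?_) hos hYE (m0_psl hpf.out hp (Or.inr ⟨hpq', hp1⟩) hos)
        have := (hcyc P).isMulCommutative
        exact congrArg Subtype.val (this.is_comm.comm (⟨a, ha⟩ : (P : Subgroup P2)) ⟨b, hb⟩)
  · exfalso
    obtain ⟨B, hB⟩ := exists_std hpf.out h2 hσ hc'
    have hY' := hY.tr (lift (cj B))⁻¹
    have he : Cfsg.Agent.H459.Rad.tr (lift (cj B))⁻¹ (lift (cj A * fld σ)) = lift (fld σ) := by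
      rw [hB, map_mul, map_mul, map_inv]
      ext y
      rw [tr_apply]
      have h3 : ((lift (cj B))⁻¹ : MulAut P2).symm y = lift (cj B) y := rfl
      rw [h3, MulAut.mul_apply, MulAut.mul_apply, MulAut.inv_apply_self, MulAut.inv_apply_self]
    rw [he] at hY'
    exact field_false hpf.out hp hσ h2 hY'

end Main

/-- **Row `PSL_2(q)` of S3846.** -/
theorem noya_psl2 {K : Type*} [Group K] [Finite K] [IsSimpleGroup K] {F : Type*} [Field F] [Fintype F] {p : ℕ}
    [Fact p.Prime] (e : Nonempty (K ≃* Matrix.ProjectiveSpecialLinearGroup (Fin 2) F)) (hp : 5 ≤ p) :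
    Cfsg.Agent.H301.SY.NoYA p K := by
  obtain ⟨e⟩ := e
  have : IsSimpleGroup (Matrix.ProjectiveSpecialLinearGroup (Fin 2) F) := e.symm.isSimpleGroup
  have : Finite (Matrix.ProjectiveSpecialLinearGroup (Fin 2) F) := Quotient.finite _
  exact NoYA.congr e (noya hp)

end Cfsg.Agent.H947.Sy
end

-- part: H541/NoyaSz
section
/-!
# S3846: the Suzuki groups (helper541, task 1557)
-/

set_option autoImplicit false

namespace Cfsg.Agent.H541.NoyaSz

open Subgroup MulAction Cfsg.Agent.H101.SzAbs Cfsg.Agent.H101.SzAbs.Geo Cfsg.Agent.H459.Rad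
  Cfsg.Agent.H459.Iface Cfsg.Agent.H301.SY Cfsg.Agent.LieExceptional Cfsg.Agent.LieExceptional.SuzukiTori

section abs

variable {G Ω : Type*} [Group G] [MulAction G Ω] {P : Ω → Subgroup G}

/-- an element of odd order which preserves a set of two points fixes them -/
theorem fix_of_odd {x : G} {a b : Ω} (hx : Odd (orderOf x)) (ha : x • a = a ∨ x • a = b)
    (hb : x • b = a ∨ x • b = b) : x • a = a ∧ x • b = b := by
  have h2 : (x * x) • a = a ∧ (x * x) • b = b := by
    rw [mul_smul, mul_smul]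
    rcases ha with h1 | h1
    · rw [h1, h1]
      rcases hb with h3 | h3
      · have : a = b := by
          have h4 : x • a = x • b := by rw [h1, h3]
          exact (smul_left_cancel_iff x).1 h4
        rw [← this]
        exact ⟨rfl, by rw [h1, h1]⟩
      · rw [h3, h3]
        exact ⟨rfl, rfl⟩
    · rcases hb with h3 | h3
      · rw [h1, h3, h1]
        exact ⟨rfl, rfl⟩
      · have : a = b := by
          have h4 : x • a = x • b := by rw [h1, h3]
          exact (smul_left_cancel_iff x).1 h4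
        rw [← this] at h1 ⊢
        rw [h1, h1]
        exact ⟨rfl, rfl⟩
  obtain ⟨k, hk⟩ := hx
  have h1 : x = (x * x) ^ (k + 1) := by
    have h3 : (x * x) ^ (k + 1) = x ^ (orderOf x) * x := by
      rw [← pow_two, ← pow_mul, hk, ← pow_succ]
      rfl
    rw [h3, pow_orderOf_eq_one, one_mul]
  have key : ∀ c : Ω, (x * x) • c = c → x • c = c := by
    intro c hc
    have h3 : (x * x) ^ (k + 1) ∈ stabilizer G c := pow_mem (mem_stabilizer_iff.2 hc) _
    rw [← h1] at h3
    exact mem_stabilizer_iff.1 h3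
  exact ⟨key a h2.1, key b h2.2⟩

variable [Finite G] [Finite Ω] {q : ℕ}

/-- elements of even order lie in some `P a` -/
theorem odd_of_notMem (h : Geo G Ω P) {y : G} (hy : ∀ a, y ∉ P a) : Odd (orderOf y) := by
  by_contra hodd
  rw [Nat.not_odd_iff_even] at hodd
  obtain ⟨k, hk⟩ := hodd
  have hpos : 0 < orderOf y := orderOf_pos y
  have hz1 : y ^ k ≠ 1 := by
    intro h1
    have := orderOf_dvd_of_pow_eq_one h1
    have := Nat.le_of_dvd (by omega) this
    omega
  have hzz : y ^ k * y ^ k = 1 := by rw [← pow_add, ← hk, pow_orderOf_eq_one]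
  obtain ⟨a, ha⟩ := h.fix _ hzz hz1
  exact hy a (h.cent a _ ha hz1 y ((Commute.refl y).pow_right k).eq)

/-- **an element of order `p ∣ q - 1`**: `YE` fails -/
theorem split_false (h : Geo G Ω P) (H : Hyp G Ω q) (hP : ∀ a x, x ∈ P a ↔ x = 1 ∨ ∀ b, x • b = b ↔ b = a)
    (h4 : ∃ a, ∃ u ∈ P a, u * u ≠ 1) {p : ℕ} (hp : p.Prime) (hp5 : 5 ≤ p) (hpq : p ∣ q - 1) {x : G}
    (hx : orderOf x = p) (hY : YE p x) : False := by
  classical
  have hfact : Fact p.Prime := ⟨hp⟩
  have h8 := H.eight_le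
  have hx1 : x ≠ 1 := by
    intro h1
    rw [h1, orderOf_one] at hx
    exact hp.one_lt.ne hx
  have hodd : Odd (orderOf x) := by rw [hx]; exact hp.odd_of_ne_two (by omega)
  have hpq2 : ¬ p ∣ q ^ 2 + 1 := fun h1 => (H.prime_dvd_facts hp h1).2 (hpq.mul_left _)
  -- a fixed point
  obtain ⟨a, ha⟩ : ∃ a : Ω, x • a = a := by
    by_contra hcon
    push Not at hcon
    have h1 : x ∈ Hyp.free G Ω := Hyp.mem_free_iff.2 hcon
    exact hpq2 (H.dvd_of_free h1 hp (dvd_of_eq hx.symm))
  -- a point which is not fixed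
  obtain ⟨c, hc⟩ : ∃ c : Ω, x • c ≠ c := by
    by_contra hcon
    push Not at hcon
    have h1 := H.three x hx1
    have h2 : fixedBy Ω x = Set.univ := Set.eq_univ_of_forall fun b => mem_fixedBy.2 (hcon b)
    rw [h2, Nat.card_congr (Equiv.Set.univ Ω), H.card_set] at h1
    nlinarith only [h8, h1]
  -- the element of order four
  have htr : IsPretransitive G Ω := by
    have := H.two
    exact MulAction.isPretransitive_of_is_two_pretransitive
  obtain ⟨a₀, u₀, hu₀, hu₀2⟩ := h4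
  have hu : ∀ b : Ω, ∃ u ∈ P b, u * u ≠ 1 := by
    intro b
    obtain ⟨g, hg⟩ := _root_.MulAction.exists_smul_eq G a₀ b
    refine ⟨g * u₀ * g⁻¹, hg ▸ h.conj g a₀ u₀ hu₀, fun h1 => hu₀2 ?_⟩
    calc u₀ * u₀ = g⁻¹ * (g * u₀ * g⁻¹ * (g * u₀ * g⁻¹)) * g := by group
      _ = 1 := by rw [h1]; group
  obtain ⟨u, hua, hu2⟩ := hu a
  have hu1 : u ≠ 1 := by
    rintro rfl
    exact hu2 (one_mul 1)
  obtain ⟨g, hg⟩ := _root_.MulAction.exists_smul_eq G a c
  set v := g * u * g⁻¹ with hv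
  have hvc : v ∈ P c := hg ▸ h.conj g a u hua
  have hv2 : v * v ≠ 1 := by
    intro h1
    apply hu2
    calc u * u = g⁻¹ * (v * v) * g := by rw [hv]; group
      _ = 1 := by rw [h1]; group
  have hv1 : v ≠ 1 := by
    intro h1
    apply hv2
    rw [h1, one_mul]
  have hvp : ∀ d : Ω, v • d = d → d = c := fun d hd => h.free c d v hvc hd hv1
  have hvvp : ∀ d : Ω, (v * v) • d = d → d = c := fun d hd => h.free c d _ ((P c).mul_mem hvc hvc) hd hv2
  -- solvability
  have hsol : Group.IsSolvable ↥(_root_.Subgroup.closure ({x, u} : Set G)) := by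
    have hPs : Group.IsSolvable (P a) := by
      have : Fact (Nat.Prime 2) := ⟨Nat.prime_two⟩
      have := (h.two a).isNilpotent
      infer_instance
    have h1 : Group.IsSolvable ↥(P a ⊔ zpowers x) := by
      refine Cfsg.Agent.SignalizersComponents.CoprimeBasic.isSolvable_sup ?_ hPs
        (Group.isSolvable_of_comm fun a b => by
          obtain ⟨i, hi⟩ := mem_zpowers_iff.1 a.2
          obtain ⟨j, hj⟩ := mem_zpowers_iff.1 b.2
          apply Subtype.ext
          change (a : G) * b = b * a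
          rw [← hi, ← hj]
          exact (Commute.refl x).zpow_zpow i j)
      rw [zpowers_le, mem_normalizer_iff]
      intro y
      constructor
      · intro hy
        have := h.conj x a y hy
        rwa [ha] at this
      · intro hy
        have h2 := h.conj x⁻¹ a _ hy
        have h3 : x⁻¹ • a = a := by rw [inv_smul_eq_iff, ha]
        rw [h3] at h2
        rwa [show x⁻¹ * (x * y * x⁻¹) * x⁻¹⁻¹ = y by group] at h2
    refine Cfsg.Agent.SignalizersComponents.ComponentExists.isSolvable_of_le ?_ h1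
    rw [closure_le]
    rintro y (rfl | rfl)
    · exact (le_sup_right : zpowers y ≤ _) (mem_zpowers y)
    · exact (le_sup_left : P a ≤ _) hua
  have hu2pow : ∃ k : ℕ, orderOf u = 2 ^ k := by
    obtain ⟨k, hk⟩ := (IsPGroup.iff_orderOf (p := 2)).1 (h.two a) ⟨u, hua⟩
    exact ⟨k, by rw [← hk, orderOf_mk]⟩
  have hD := hY 2 Nat.prime_two (by omega) u hu2pow hsol g
  rw [← hv] at hD
  set D : Subgroup G := _root_.Subgroup.closure ({x, v} : Set G) with hDdef
  have hxD : x ∈ D := _root_.Subgroup.subset_closure (by simp)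
  have hvD : v ∈ D := _root_.Subgroup.subset_closure (by simp)
  have hnt : Nontrivial D := ⟨⟨⟨x, hxD⟩, 1, fun h0 => hx1 (congrArg Subtype.val h0)⟩⟩
  obtain ⟨A, hAn, hA1, hAc⟩ := Cfsg.Agent.H410.EndSz.exists_abelian_normal hD
  have hconj : ∀ d ∈ D, ∀ y : D, y ∈ A → ∃ z : D, z ∈ A ∧ (z : G) = d * y * d⁻¹ := fun d hd y hy =>
    ⟨⟨d, hd⟩ * y * ⟨d, hd⟩⁻¹, hAn.conj_mem y hy ⟨d, hd⟩, rfl⟩
  have hcomm : ∀ y z : D, y ∈ A → z ∈ A → (y : G) * z = z * y := fun y z hy hz => congrArg Subtype.val (hAc y hy z hz)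
  by_cases hcase : ∃ y : D, y ∈ A ∧ y ≠ 1 ∧ ∃ c, (y : G) ∈ P c
  · obtain ⟨y, hy, hy1, d, hyd⟩ := hcase
    have hy1' : (y : G) ≠ 1 := fun h0 => hy1 (Subtype.ext h0)
    have key : ∀ t ∈ D, t • d = d := by
      intro t htD
      obtain ⟨z, hz, hzy⟩ := hconj t htD y hy
      have h4 : (z : G) ∈ P d := h.cent d y hyd hy1' z (hcomm z y hz hy)
      have h5 : (z : G) ∈ P (t • d) := by
        rw [hzy]
        exact h.conj t d y hyd
      have hz1 : (z : G) ≠ 1 := by
        rw [hzy]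
        intro h0
        apply hy1'
        calc (y : G) = t⁻¹ * (t * y * t⁻¹) * t := by group
          _ = 1 := by rw [h0]; group
      exact (h.free _ d z h5 (h.le d z h4) hz1).symm
    have h5 := hvp d (key v hvD)
    rw [h5] at key
    exact hc (key x hxD)
  · push Not at hcase
    obtain ⟨y, hyA, hy1⟩ := A.ne_bot_iff_exists_ne_one.1 hA1 |> fun ⟨y, hy⟩ => (⟨y, y.2, fun h0 => hy (Subtype.ext h0)⟩ :
      ∃ y : D, y ∈ A ∧ y ≠ 1)
    have hyP : ∀ d, (y : G) ∉ P d := hcase y hyA hy1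
    have hy1' : (y : G) ≠ 1 := fun h0 => hy1 (Subtype.ext h0)
    have hyodd : Odd (orderOf (y : G)) := odd_of_notMem h hyP
    by_cases hfix : ∃ d : Ω, (y : G) • d = d
    · -- two fixed points
      obtain ⟨d, hd⟩ := hfix
      obtain ⟨e, he, hed⟩ : ∃ e : Ω, (y : G) • e = e ∧ e ≠ d := by
        by_contra hcon
        push Not at hcon
        apply hyP d
        rw [hP]
        right
        intro b
        exact ⟨hcon b, fun hb => hb ▸ hd⟩
      have hfy : ∀ b : Ω, (y : G) • b = b → b = d ∨ b = e := by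
        intro b hb
        by_contra hcon
        push Not at hcon
        exact hy1' (h.three y d e b hed.symm (Ne.symm hcon.2) (Ne.symm hcon.1) hd he hb)
      have key : ∀ t ∈ D, (t • d = d ∨ t • d = e) ∧ (t • e = d ∨ t • e = e) := by
        intro t ht
        obtain ⟨z, hz, hzy⟩ := hconj t ht y hyA
        have hzc := hcomm y z hyA hz
        -- the fixed points of `z` are `t d`, `t e`
        have hz1 : (z : G) ≠ 1 := by
          rw [hzy]
          intro h0
          apply hy1'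
          calc (y : G) = t⁻¹ * (t * y * t⁻¹) * t := by group
            _ = 1 := by rw [h0]; group
        have hzd : (z : G) • (t • d) = t • d := by
          rw [hzy, ← mul_smul]
          rw [show t * (y : G) * t⁻¹ * t = t * y by group, mul_smul, hd]
        have hze : (z : G) • (t • e) = t • e := by
          rw [hzy, ← mul_smul]
          rw [show t * (y : G) * t⁻¹ * t = t * y by group, mul_smul, he]
        have hne : t • d ≠ t • e := fun h1 => hed ((smul_left_cancel_iff t).1 h1).symm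
        have hfz : ∀ b : Ω, (z : G) • b = b → b = t • d ∨ b = t • e := by
          intro b hb
          by_contra hcon
          push Not at hcon
          exact hz1 (h.three z (t • d) (t • e) b hne (Ne.symm hcon.2) (Ne.symm hcon.1) hzd hze hb)
        have h1 : (z : G) • ((y : G) • (t • d)) = (y : G) • (t • d) := by
          rw [← mul_smul, ← hzc, mul_smul, hzd]
        have h2 : (z : G) • ((y : G) • (t • e)) = (y : G) • (t • e) := by
          rw [← mul_smul, ← hzc, mul_smul, hze]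
        obtain ⟨h5, h6⟩ := fix_of_odd hyodd (hfz _ h1) (hfz _ h2)
        exact ⟨hfy _ h5, hfy _ h6⟩
      have h5 := key v hvD
      have h6 : (v * v) • d = d ∧ (v * v) • e = e := by
        rw [mul_smul v v d, mul_smul v v e]
        rcases h5 with ⟨h1 | h1, h2 | h2⟩
        · exact absurd ((smul_left_cancel_iff v).1 (h2.trans h1.symm)) hed
        · rw [h1, h1, h2, h2]; exact ⟨rfl, rfl⟩
        · rw [h1, h2, h1]; exact ⟨rfl, rfl⟩
        · exact absurd ((smul_left_cancel_iff v).1 (h2.trans h1.symm)) hed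
      exact hed ((hvvp e h6.2).trans (hvvp d h6.1).symm)
    · push Not at hfix
      have hyf : (y : G) ∈ Hyp.free G Ω := Hyp.mem_free_iff.2 hfix
      have hxN : x ∈ normalizer ((centralizer ({(y : G)} : Set G) : Subgroup G) : Set G) := by
        obtain ⟨z, hz, hzy⟩ := hconj x hxD y hyA
        refine H.ti hyf x y (mem_centralizer_singleton_iff.2 rfl) hy1' ?_
        rw [← hzy]
        exact mem_centralizer_singleton_iff.2 (hcomm z y hz hyA)
      obtain ⟨n, hn1, hn4, -, -, hn, -⟩ := H.data hyf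
      have h5 : p ∣ n * Nat.card (centralizer ({(y : G)} : Set G)) := by
        rw [← hn, ← hx]
        exact Subgroup.orderOf_dvd_natCard _ hxN
      rcases (hp.dvd_mul).1 h5 with h6 | h6
      · have := Nat.le_of_dvd (by omega) h6
        omega
      · exact hpq2 (H.dvd_card_centralizer hyf hp h6)

/-- an element of order prime to `q (q - 1)` normalises no nontrivial `2`-subgroup -/
theorem not_fixR (h : Geo G Ω P) (H : Hyp G Ω q) {p : ℕ} (hp : p.Prime) (hpq : p ∣ q ^ 2 + 1) {x : G}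
    (hx : orderOf x = p) : ¬ FixR 2 (MulAut.conj x) := by
  rintro ⟨R, hR1, hR, hRx⟩
  have hfact : Fact (Nat.Prime 2) := ⟨Nat.prime_two⟩
  -- a fixed point of `R`
  have hcard : ¬ 2 ∣ Nat.card Ω := by
    rw [H.card_set]
    obtain ⟨t, ht⟩ := H.even_q
    have : q ^ 2 = 2 * (2 * t * t) := by rw [ht]; ring
    omega
  obtain ⟨c, hc⟩ := hR.nonempty_fixed_point_of_prime_not_dvd_card Ω hcard
  have hc' : ∀ r ∈ R, r • c = c := fun r hr => mem_fixedPoints.1 hc ⟨r, hr⟩
  -- an involution of `R`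
  obtain ⟨t, ht1, htR, htt⟩ : ∃ t : G, t ≠ 1 ∧ t ∈ R ∧ t * t = 1 := by
    have h2 : 2 ∣ Nat.card R := by
      obtain ⟨n, hn⟩ := IsPGroup.iff_card.1 hR
      rw [hn]
      refine dvd_pow_self 2 ?_
      rintro rfl
      rw [pow_zero] at hn
      exact hR1 (Subgroup.card_eq_one.1 hn)
    obtain ⟨t, ht⟩ := exists_prime_orderOf_dvd_card' 2 h2
    refine ⟨t, ?_, t.2, ?_⟩
    · intro h1
      rw [Subtype.ext h1 (a2 := (1 : R)), orderOf_one] at ht
      omega
    · have := pow_orderOf_eq_one t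
      rw [ht, pow_two] at this
      exact congrArg Subtype.val this
  obtain ⟨d, hd⟩ := h.fix t htt ht1
  have hcd : c = d := h.free d c t hd (hc' t htR) ht1
  rw [← hcd] at hd
  have h5 : x * t * x⁻¹ ∈ P (x • c) := h.conj x c t hd
  have h6 : x * t * x⁻¹ ∈ R := hRx t htR
  have h7 : x * t * x⁻¹ ≠ 1 := by
    intro h0
    apply ht1
    calc t = x⁻¹ * (x * t * x⁻¹) * x := by group
      _ = 1 := by rw [h0]; group
  have h8 : x • c = c := (h.free _ c _ h5 (hc' _ h6) h7).symm
  -- the order of the stabiliser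
  have htr : IsPretransitive G Ω := by
    have := H.two
    exact MulAction.isPretransitive_of_is_two_pretransitive
  have h9 : Nat.card G = Nat.card (stabilizer G c) * (q ^ 2 + 1) := by
    rw [← H.card_set, ← MulAction.index_stabilizer_of_transitive G c, Subgroup.card_mul_index]
  rw [H.card_group] at h9
  have h10 : q ^ 2 * (q - 1) = Nat.card (stabilizer G c) := Nat.eq_of_mul_eq_mul_right (by (clear * -; positivity)) h9
  apply (H.prime_dvd_facts hp hpq).2
  rw [h10, ← hx]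
  exact Subgroup.orderOf_dvd_natCard _ (mem_stabilizer_iff.2 h8)

end abs

/-- `YA` is invariant under conjugation by inner automorphisms -/
theorem YA.conj {L : Type*} [Group L] {p : ℕ} {x y : MulAut L} (h : YA p x) {k : L}
    (hk : x = MulAut.conj k * y * (MulAut.conj k)⁻¹) : YA p y := by
  have h1 := h.tr (MulAut.conj k)⁻¹
  have h2 : Cfsg.Agent.H459.Rad.tr (MulAut.conj k)⁻¹ x = y := by
    ext l
    rw [tr_apply]
    change (MulAut.conj k)⁻¹ (x (MulAut.conj k l)) = y l
    rw [hk, MulAut.mul_apply, MulAut.mul_apply, MulAut.inv_apply_self, MulAut.inv_apply_self]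
  rwa [h2] at h1

/-- `YA` makes `⟨t, σ t, σ² t⟩` solvable for the conjugates `t` of an involution fixed by `σ` -/
theorem exists_solvable {G : Type*} [Group G] [Finite G] {σ : MulAut G} {p : ℕ} (h : YA p σ) (hp : p ≠ 2)
    (hinj : Function.Injective (MulAut.conj : G →* MulAut G)) {w : G} (hw : w * w = 1) (hw1 : w ≠ 1)
    (hσ : σ w = w) (g : G) :
    ∃ D : Subgroup G, Group.IsSolvable D ∧ g * w * g⁻¹ ∈ D ∧ σ (g * w * g⁻¹) ∈ D ∧
      σ (σ (g * w * g⁻¹)) ∈ D := by
  have hc : σ * MulAut.conj w = MulAut.conj w * σ := by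
    ext y
    simp only [MulAut.conj_apply, hσ, _root_.MulAut.mul_apply, _root_.map_mul, _root_.map_inv]
  have hs : Group.IsSolvable ↥(_root_.Subgroup.closure ({σ, MulAut.conj w} : Set (MulAut G))) := by
    refine Group.isSolvable_of_comm fun a b => ?_
    have key : ∀ y ∈ _root_.Subgroup.closure ({σ, MulAut.conj w} : Set (MulAut G)),
        y ∈ centralizer ({σ, MulAut.conj w} : Set (MulAut G)) := by
      have h1 : _root_.Subgroup.closure ({σ, MulAut.conj w} : Set (MulAut G)) ≤ centralizer ({σ, MulAut.conj w} : Set (MulAut G)) := by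
        rw [closure_le]
        rintro y (rfl | rfl)
        · rw [SetLike.mem_coe, mem_centralizer_iff]
          rintro z (rfl | rfl)
          · rfl
          · exact hc.symm
        · rw [SetLike.mem_coe, mem_centralizer_iff]
          rintro z (rfl | rfl)
          · exact hc
          · rfl
      exact fun y hy => h1 hy
    have h2 : _root_.Subgroup.closure ({σ, MulAut.conj w} : Set (MulAut G)) ≤ centralizer {(b : MulAut G)} := by
      rw [closure_le]
      intro z hz
      rw [SetLike.mem_coe, mem_centralizer_singleton_iff]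
      exact mem_centralizer_iff.1 (key b b.2) z hz
    exact Subtype.ext (mem_centralizer_singleton_iff.1 (h2 a.2))
  have ho : orderOf w = 2 := orderOf_eq_prime (by rw [pow_two, hw]) hw1
  have h1 := h 2 Nat.prime_two (Ne.symm hp) w ⟨1, by rw [ho, pow_one]⟩ hs g
  set E : Subgroup (MulAut G) := _root_.Subgroup.closure ({σ, MulAut.conj (g * w * g⁻¹)} : Set (MulAut G)) with hE
  have hσE : σ ∈ E := _root_.Subgroup.subset_closure (by simp only [_root_.map_mul, _root_.map_inv, _root_.Set.mem_insert_iff, _root_.Set.mem_singleton_iff, _root_.true_or])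
  have hcE : MulAut.conj (g * w * g⁻¹) ∈ E := _root_.Subgroup.subset_closure (by simp only [_root_.map_mul, _root_.map_inv, _root_.Set.mem_insert_iff, _root_.Set.mem_singleton_iff, _root_.or_true])
  have hconj : ∀ k : G, MulAut.conj k ∈ E → MulAut.conj (σ k) ∈ E := by
    intro k hk
    have h2 : MulAut.conj (σ k) = σ * MulAut.conj k * σ⁻¹ := by
      ext y
      simp only [MulAut.conj_apply, _root_.MulAut.mul_apply, _root_.MulAut.inv_apply, _root_.map_mul, _root_.MulEquiv.apply_symm_apply, _root_.map_inv]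
    rw [h2]
    exact E.mul_mem (E.mul_mem hσE hk) (E.inv_mem hσE)
  refine ⟨E.comap MulAut.conj, ?_, hcE, hconj _ hcE, hconj _ (hconj _ hcE)⟩
  let f : ↥(E.comap (MulAut.conj : G →* MulAut G)) →* E :=
    ((MulAut.conj : G →* MulAut G).comp (E.comap (MulAut.conj : G →* MulAut G)).subtype).codRestrict E fun x => x.2
  exact Group.isSolvable_of_isSolvable_injective (f := f) (fun x y hxy => Subtype.ext (hinj (congrArg Subtype.val hxy)))

section sz

variable {F : Type*} [Field F] [Fintype F] {m : ℕ}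

/-- the automorphisms of order `p` with `YA` are inner -/
theorem inner (hm : 1 ≤ m) (hF : Fintype.card F = 2 ^ (2 * m + 1)) {p : ℕ} [hp : Fact p.Prime] (hp5 : 5 ≤ p)
    {x : MulAut ↥(Cfsg.Lie.Sz F (2 ^ (m + 1)))} (hx : orderOf x = p) (hY : YA p x) : ∃ g, x = MulAut.conj g := by
  have hp2 : p ≠ 2 := by omega
  obtain ⟨g, τ, hg⟩ := Cfsg.Agent.H70.SzAutThm.exists_conj_field hm hF x
  have hcycS := fun P : Sylow p ↥(Cfsg.Lie.Sz F (2 ^ (m + 1))) => Cfsg.Agent.H67.SzOdd.sylow_cyclic hm hF hp2 P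
  by_cases hτ : τ = 1
  · exact ⟨g, by rw [hg, hτ, map_one, mul_one]⟩
  exfalso
  have hxp : x ^ p = 1 := by rw [← hx, pow_orderOf_eq_one]
  have hZ := Cfsg.Agent.H67.SzOdd.center_sz hm hF
  obtain ⟨ho, k, hk⟩ := Cfsg.Agent.H410.EndFld.conj_std hZ
    (Φ := Cfsg.Agent.H70.SzOut.fieldAut (Cfsg.Agent.LieRecognition.SzMatrix.good hF))
    (fun σ τ => map_mul _ σ τ) (map_one _)
    (fun τ g hg => Cfsg.Agent.H70.SzOut.eq_one_of_conj (Cfsg.Agent.LieRecognition.SzMatrix.good hF) hg) hp2 hxp hg hτ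
    hcycS (d := 2) (by norm_num) (Cfsg.Agent.H628.ZRowSz.card_sz hF) (Cfsg.Agent.H628.ZRowSz.card_fixed hF τ) (by
      rw [Nat.card_eq_fintype_card, hF]
      intro h1
      exact hp2 ((Nat.prime_dvd_prime_iff_eq hp.out Nat.prime_two).1 (hp.out.dvd_of_dvd_pow h1)))
  have hinj : Function.Injective (MulAut.conj : ↥(Cfsg.Lie.Sz F (2 ^ (m + 1))) →* _) := _root_.Cfsg.Agent.H301.SY.conj_injective hZ
  set R := Cfsg.Agent.ThreePrime.SzRel.ofGood (Cfsg.Agent.LieRecognition.SzMatrix.good hF) with hRdef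
  set σ := Cfsg.Agent.H70.SzOut.fieldAut (Cfsg.Agent.LieRecognition.SzMatrix.good hF) τ with hσ
  have hσu : ∀ b : F, σ (R.u 0 b) = R.u 0 (τ b) := by
    intro b
    have h1 := Cfsg.Agent.H70.SzOut.fieldAut_u (Cfsg.Agent.LieRecognition.SzMatrix.good hF) τ 0 b
    rw [map_zero] at h1
    exact h1
  have hσw : σ R.w = R.w := Cfsg.Agent.H70.SzOut.fieldAut_w (Cfsg.Agent.LieRecognition.SzMatrix.good hF) τ
  have hYσ : YA p σ := YA.conj hY hk
  obtain ⟨b, hb⟩ : ∃ b : F, τ b ≠ b := by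
    by_contra h1
    push Not at h1
    exact hτ (RingEquiv.ext h1)
  have hb2 : τ (τ b) ≠ b := by
    intro h1
    apply hb
    have h2 : ∀ n : ℕ, (τ ^ (2 * n)) b = b := by
      intro n
      induction n with
      | zero => rfl
      | succ n ih =>
        have h3 : (τ ^ (2 * (n + 1))) b = (τ ^ (2 * n)) (τ (τ b)) := by
          rw [mul_add, pow_add]
          rfl
        rw [h3, h1, ih]
    obtain ⟨n, hn⟩ := hp.out.odd_of_ne_two hp2
    have h3 : (τ ^ p) b = τ b := by
      rw [hn, pow_succ']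
      exact congrArg τ (h2 n)
    rw [← h3, ← ho, pow_orderOf_eq_one]
    rfl
  have hww := R.w_mul_w
  have hwN := R.w_not_mem_normalizer
  have hw1 : R.w ≠ 1 := by
    intro h1
    rw [h1] at hwN
    exact hwN (one_mem _)
  have huu : ∀ c : F, R.u 0 c * R.u 0 c = 1 := fun c => (R.u_sq_iff 0 c).2 rfl
  have hucomm : ∀ c e : F, R.u 0 c * R.u 0 e = R.u 0 e * R.u 0 c := by
    intro c e
    rw [R.comm_iff, zero_mul]
  have hui : (R.u 0 b)⁻¹ = R.u 0 b := (inv_eq_of_mul_eq_one_right ((huu b :)) :)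
  obtain ⟨D, hD, hD1, hD2, hD3⟩ := exists_solvable hYσ hp2 hinj hww hw1 hσw (R.u 0 b)
  rw [hui] at hD1 hD2 hD3
  -- transport to the permutation model
  obtain ⟨e⟩ := Cfsg.Agent.OddCyclic.ClaimC.SzIso.iso hm hF
  have hG := Cfsg.Agent.H101.SzGeo.geo hm hF
  have hfin : Finite ↥(Cfsg.Sz F m) := Finite.of_injective e e.injective
  have h11 : e.symm (R.u 0 1) ≠ 1 := by
    intro h1
    rw [map_eq_one_iff e.symm e.symm.injective] at h1
    exact R.u_ne_one one_ne_zero h1
  obtain ⟨a, ha⟩ := hG.fix (e.symm (R.u 0 1)) (by rw [← map_mul, huu, map_one]) h11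
  have hua : ∀ c : F, e.symm (R.u 0 c) ∈ Cfsg.Agent.H101.SzGeo.P hF a := by
    intro c
    refine hG.cent a _ ha h11 _ ?_
    rw [← map_mul, ← map_mul, hucomm]
  have htr : ∀ y, Cfsg.Agent.H459.Rad.tr e.symm σ (e.symm y) = e.symm (σ y) := by
    intro y
    rw [tr_apply]
    simp
  refine Cfsg.Agent.H410.EndSz.key hG (Cfsg.Agent.H410.EndSz.abC hm hF) (σ := Cfsg.Agent.H459.Rad.tr e.symm σ)
    (w := e.symm R.w) (u := e.symm (R.u 0 b)) (a := a)
    (D := D.map e.symm.toMonoidHom) ?_ ?_ ?_ ?_ (hua b) ?_ ?_ ?_ ?_ ?_ ?_ ?_ ?_ ?_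
  · rw [← map_mul, hww, map_one]
  · intro h1
    exact hw1 ((map_eq_one_iff e.symm e.symm.injective).1 h1)
  · intro h1
    apply hwN
    have h2 := hG.central a _ ha (by rw [← map_mul, huu, map_one]) _ h1
    rw [← map_mul, ← map_mul] at h2
    have h3 := e.symm.injective h2
    refine R.ti (x := R.u 0 1) (R.u_mem 0 1) (R.u_ne_one one_ne_zero) ?_
    rw [← h3, mul_inv_cancel_right]
    exact R.u_mem 0 1
  · rw [htr, hσw]
  · rw [htr, hσu]
    exact hua _
  · rw [htr, htr, hσu, hσu]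
    exact hua _
  · rw [← map_mul, huu, map_one]
  · rw [htr, hσu]
    intro h1
    exact hb (R.u_inj (e.symm.injective h1)).2
  · rw [htr, htr, hσu, hσu]
    intro h1
    exact hb2 (R.u_inj (e.symm.injective h1)).2
  · exact Cfsg.Agent.SignalizersComponents.ComponentExists.isSolvable_map hD _
  · exact ⟨_, hD1, by simp only [_root_.MulEquiv.toMonoidHom_eq_coe, _root_.MonoidHom.coe_coe, _root_.map_mul]⟩
  · rw [← map_mul, ← map_mul, htr]
    exact ⟨_, hD2, rfl⟩
  · rw [← map_mul, ← map_mul, htr, htr]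
    exact ⟨_, hD3, rfl⟩

/-- there is an element of order four in some `P a` -/
theorem exists_order_four (hm : 1 ≤ m) (hF : Fintype.card F = 2 ^ (2 * m + 1)) :
    ∃ a, ∃ u ∈ Cfsg.Agent.H101.SzGeo.P hF a, u * u ≠ 1 := by
  refine ⟨Cfsg.Agent.H101.SzGeo.inf F m, ?_⟩
  rw [Cfsg.Agent.H101.SzGeo.P_inf hm hF]
  refine ⟨(SuzukiSylow.qu hF (1 : F) 0 : Cfsg.Sz F m), (SuzukiSylow.qu hF (1 : F) 0).2, fun h1 => ?_⟩
  have h2 : SuzukiSylow.qu hF (1 : F) 0 ^ 2 = 1 := by
    apply Subtype.ext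
    rw [pow_two]
    exact h1
  rw [SuzukiSylow.qu_sq, ← SuzukiSylow.qu_zero_zero hF, SuzukiSylow.qu_eq_iff, one_pow, one_mul] at h2
  exact one_ne_zero h2.2

/-- `M0` for the elements of order `p ∣ q² + 1`, `p ≥ 7` -/
theorem m0 (hh : HH) {F : Type} [Field F] [Fintype F] {m : ℕ} (hm : 1 ≤ m) (hF : Fintype.card F = 2 ^ (2 * m + 1))
    {p : ℕ} [hp : Fact p.Prime] (hp7 : 5 < p) {x : Cfsg.Sz F m} (hx : orderOf x = p)
    (hcyc : ∀ P : Sylow p (Cfsg.Sz F m), (IsCyclic (P : Subgroup (Cfsg.Sz F m)) :))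
    (hfix : ¬ FixR 2 (MulAut.conj x)) : M0 x := by
  classical
  have hchar : CharP F 2 := by
    obtain ⟨c, hc⟩ := CharP.exists F
    have hcp : c.Prime := (CharP.char_is_prime_or_zero F c).resolve_right (by
      rintro rfl
      have := CharP.charP_to_charZero F
      exact not_injective_infinite_finite (fun n : ℕ => (n : F)) Nat.cast_injective)
    have h1 : c ∣ Fintype.card F := (CharP.cast_eq_zero_iff F c _).1 (Nat.cast_card_eq_zero F)
    rw [hF] at h1
    have h2 : c = 2 := (Nat.prime_dvd_prime_iff_eq hcp Nat.prime_two).1 (hcp.dvd_of_dvd_pow h1)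
    rwa [h2] at hc
  have hne : ∀ t : ℕ, t.Prime → t ≠ 2 → (t : F) ≠ 0 := by
    intro t ht ht2 h1
    exact ht2 ((Nat.prime_dvd_prime_iff_eq Nat.prime_two ht).1 ((CharP.cast_eq_zero_iff F 2 t).1 h1)).symm
  refine M0.of_triv hcyc hx ?_
  intro t ht htp R hR hRx
  by_cases ht2 : t = 2
  · subst ht2
    have hR1 : R = ⊥ := by
      by_contra hne
      exact hfix ⟨R, hne, hR, fun a ha => hRx a ha⟩
    intro a ha
    rw [hR1, mem_bot] at ha
    rw [ha, mul_one, one_mul]
  · refine hh F (Fin 4 → F) (Cfsg.Sz F m) (SuzukiHyp.rep F m) (SuzukiHyp.rep_injective m) p t hp.out ht (Ne.symm htp)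
      (hne p hp.out (by omega)) (hne t ht ht2) ?_ R hR x ⟨1, by rw [pow_one, hx]⟩ hRx
    rw [Module.finrank_fin_fun]
    have : p ≠ 6 := by
      rintro rfl
      exact absurd hp.out (by norm_num)
    omega

end sz

/-- **The row of the Suzuki groups** (task 1557). -/
theorem noya_sz (hh : HH) {K : Type*} [Group K] [Finite K] [IsSimpleGroup K] {p : ℕ} [hp : Fact p.Prime]
    (h : Cfsg.Lie.IsoSuzuki K) (hp5 : 5 ≤ p) (hb : Blk p K) (hg : Gw 2 K) : NoYA p K := by
  obtain ⟨F, iF, iF', m, hm, hF, ⟨f⟩⟩ := h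
  obtain ⟨e⟩ := Cfsg.Agent.OddCyclic.ClaimC.SzIso.iso hm hF
  have hfin : Finite ↥(Cfsg.Sz F m) := Finite.of_injective e e.injective
  have hfinΩ := Cfsg.Agent.H101.SzGeo.finite_ovoid F m
  intro x hx hR hY
  have hp2 : p ≠ 2 := by omega
  have hfact2 : Fact (Nat.Prime 2) := ⟨Nat.prime_two⟩
  -- `x` is inner
  obtain ⟨g, hg1⟩ := inner hm hF hp5 (x := Cfsg.Agent.H459.Rad.tr f x) (by rw [orderOf_tr, hx]) (hY.tr f)
  have hZ' := Cfsg.Agent.H67.SzOdd.center_sz hm hF
  have hZ : center K = ⊥ := by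
    rw [eq_bot_iff]
    intro z hz
    have h1 : f z ∈ center ↥(Cfsg.Lie.Sz F (2 ^ (m + 1))) := by
      rw [mem_center_iff] at hz ⊢
      intro y
      have h2 := congrArg f (hz (f.symm y))
      rwa [map_mul, map_mul, f.apply_symm_apply] at h2
    rw [hZ', mem_bot] at h1
    rw [mem_bot]
    exact f.injective (h1.trans (map_one f).symm)
  have hna : ¬ IsMulCommutative K := by
    intro h1
    have h2 : center K = ⊤ := by
      rw [eq_top_iff]
      intro z _
      rw [mem_center_iff]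
      intro y
      exact h1.is_comm.comm y z
    rw [hZ] at h2
    exact bot_ne_top h2
  obtain ⟨y, hy⟩ : ∃ y : K, x = MulAut.conj y := by
    refine ⟨f.symm g, ?_⟩
    ext a
    have h1 : f (x (f.symm (f a))) = g * f a * g⁻¹ := by
      have h2 := DFunLike.congr_fun hg1 (f a)
      rwa [tr_apply, MulAut.conj_apply] at h2
    rw [f.symm_apply_apply] at h1
    rw [MulAut.conj_apply]
    apply f.injective
    rw [h1, map_mul, map_mul, map_inv, f.apply_symm_apply]
  subst hy
  have hinj := _root_.Cfsg.Agent.H301.SY.conj_injective hZ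
  have hyo : orderOf y = p := by
    rw [← hx]
    exact (orderOf_injective (MulAut.conj : K →* MulAut K) hinj y).symm
  have hYE : YE p y := YE.of_ya hZ hY
  -- the model
  set ε : K ≃* ↥(Cfsg.Sz F m) := f.trans e.symm with hε
  have hzo : orderOf (ε y) = p := by
    rw [← hyo]
    exact orderOf_injective ε.toMonoidHom ε.injective y
  have hZL : center ↥(Cfsg.Sz F m) = ⊥ := by
    rw [eq_bot_iff]
    intro z hz
    have h1 : e z ∈ center ↥(Cfsg.Lie.Sz F (2 ^ (m + 1))) := by
      rw [mem_center_iff] at hz ⊢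
      intro y
      have h2 := congrArg e (hz (e.symm y))
      rwa [map_mul, map_mul, e.apply_symm_apply] at h2
    rw [hZ', mem_bot] at h1
    rw [mem_bot]
    exact e.injective (h1.trans (map_one e).symm)
  have hYL : YE p (ε y) := by
    refine YE.of_ya hZL ?_
    rw [← tr_conj]
    exact hY.tr ε
  have hcycL : ∀ P : Sylow p ↥(Cfsg.Sz F m), (IsCyclic (P : Subgroup ↥(Cfsg.Sz F m)) :) :=
    fun P => Cfsg.Agent.S0331.result hm hF hp2 P
  have hcyc : ∀ P : Sylow p K, IsCyclic (P : Subgroup K) := by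
    intro P
    have hP : IsPGroup p ↥((P : Subgroup K).map ε.toMonoidHom) := P.isPGroup'.map _
    obtain ⟨Q, hQ⟩ := hP.exists_le_sylow
    have := hcycL Q
    have h2 : IsCyclic ↥((P : Subgroup K).map ε.toMonoidHom) :=
      isCyclic_of_injective (Subgroup.inclusion hQ) (Subgroup.inclusion_injective hQ)
    have h3 : IsCyclic ↥(map (↑ε : K →* ↥(Cfsg.Sz F m)) ↑P) := h2
    exact isCyclic_of_surjective (ε.subgroupMap (P : Subgroup K)).symm
      (ε.subgroupMap (P : Subgroup K)).symm.surjective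
  have hG := Cfsg.Agent.H101.SzGeo.geo hm hF
  have H := SuzukiHyp.hyp hm hF
  -- the order
  have hpK : p ∣ (2 ^ (2 * m + 1)) ^ 2 * (2 ^ (2 * m + 1) - 1) * ((2 ^ (2 * m + 1)) ^ 2 + 1) := by
    rw [← H.card_group, ← hzo]
    exact _root_.orderOf_dvd_natCard _
  rcases (hp.out.dvd_mul).1 hpK with h1 | h1
  · rcases (hp.out.dvd_mul).1 h1 with h2 | h2
    · exact hp2 ((Nat.prime_dvd_prime_iff_eq hp.out Nat.prime_two).1
        (hp.out.dvd_of_dvd_pow (hp.out.dvd_of_dvd_pow h2)))
    · exact split_false hG H (fun a z => Cfsg.Agent.H101.SzGeo.mem_P hm hF a z) (exists_order_four hm hF) hp.out hp5 h2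
        hzo hYL
  · have hnf : ¬ FixR 2 (MulAut.conj (ε y)) := not_fixR hG H hp.out h1 hzo
    have hnfK : ¬ FixR 2 (MulAut.conj y) := by
      intro h2
      apply hnf
      refine FixR.of_tr ε.symm ?_
      rwa [tr_conj, ε.symm_apply_apply]
    refine false_of_crow hna hb hg hyo hYE hcyc hnfK ?_
    by_cases hp7 : 5 < p
    · left
      exact (m0 hh hm hF hp7 hzo hcycL hnf).congr ε
    · right
      have hp5' : p = 5 := by omega
      intro s hs hsp hs2
      exfalso
      rw [hp5'] at hsp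
      have h3 : s ∣ 2 ^ 2 := hsp
      exact hs2 ((Nat.prime_dvd_prime_iff_eq hs Nat.prime_two).1 (hs.dvd_of_dvd_pow h3))

end Cfsg.Agent.H541.NoyaSz
end

-- part: H541/NoyaRee
section
/-!
# S3846: the small Ree groups (helper541, task 1558)
-/

set_option autoImplicit false

namespace Cfsg.Agent.H541.NoyaRee

open Subgroup Cfsg.Agent.H459.Rad Cfsg.Agent.H459.Iface Cfsg.Agent.H628.ZRankOne Cfsg.Agent.H301.SY
  Cfsg.Agent.LieRecognition.ReeAbs Cfsg.Agent.LieRecognition.ReeSylowThree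
  Cfsg.Agent.LieRecognition.ReeSplit Cfsg.Agent.LieRecognition Cfsg.Agent.H71

section abs

variable {K : Type*} [Field K] {L : Type*} [Group L] {m : ℕ} {U : K → K → K → L} {h : Kˣ → L} {n : L} [Fintype K]

/-- the centralizer of the involution -/
theorem centralizer_ne_top [Finite L] (hK : Fintype.card K = 3 ^ (2 * m + 1)) (D : Data m U h n) :
    h (-1) ∉ center L ∧ h (-1) ≠ 1 := by
  have h3 : (3 : K) = 0 := ReeOut.three_eq_zero hK
  have h2 : (2 : K) ≠ 0 := by
    intro h2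
    have h1 : (1 : K) = 3 - 2 := by norm_num
    rw [h2, h3, sub_zero] at h1
    exact one_ne_zero h1
  have hneg : (-1 : Kˣ) ≠ 1 := by
    intro h1
    apply h2
    have h4 : (-1 : K) = 1 := by
      have := congrArg Units.val h1
      simpa using this
    calc (2 : K) = 1 + 1 := by norm_num
      _ = 1 + (-1) := by rw [h4]
      _ = 0 := by ring
  have ht1 : h (-1) ≠ 1 := by
    intro h1
    rw [← D.h_one] at h1
    exact hneg (ReeOut.h_injective D h1)
  refine ⟨fun h1 => ht1 ?_, ht1⟩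
  refine ReeOut.conj_eq_one D hK (h (-1)) ⟨_, rfl⟩ ?_
  ext y
  rw [MulAut.conj_apply, MulAut.one_apply, mul_inv_eq_iff_eq_mul]
  exact (mem_center_iff.1 h1 y).symm

/-- radical automorphisms of prime order `p ≥ 5` are inner (helper410's proof) -/
theorem inner_abs [Finite L] [hL : IsSimpleGroup L] {p : ℕ} [hp : Fact p.Prime] (hp5 : 5 ≤ p) (hm : 1 ≤ m)
    (hK : Fintype.card K = 3 ^ (2 * m + 1))
    (D : Data m U h n) {Φ : (K ≃+* K) → MulAut L} (F : ReeOut.Fld D Φ) (hΦ1 : Φ 1 = 1)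
    (hΦmul : ∀ σ τ, Φ (σ * τ) = Φ σ * Φ τ)
    (hcyc : ∀ P : Sylow p L, IsCyclic (P : Subgroup L)) {x : MulAut L} (hx : orderOf x = p) (hR : RC x) :
    ∃ g : L, x = MulAut.conj g := by
  have hp2 : p ≠ 2 := by omega
  -- the form of automorphisms
  obtain ⟨g, τ, hg⟩ : ∃ (g : L) (τ : K ≃+* K), x = MulAut.conj g * Φ τ := by
    obtain ⟨k, hk⟩ := ReeOut.exists_frame hK D x
    obtain ⟨a, τ, h1⟩ := ReeOut.exists_of_frame hm hK F hk
    refine ⟨k⁻¹ * h a, τ, ?_⟩
    rw [map_mul, map_inv, mul_assoc, ← h1, inv_mul_cancel_left]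
  by_cases hτ : τ = 1
  · exact ⟨g, by rw [hg, hτ, hΦ1, mul_one]⟩
  exfalso
  have hxp : x ^ p = 1 := by rw [← hx, pow_orderOf_eq_one]
  obtain ⟨hnc, ht1⟩ := centralizer_ne_top hK D
  have hZ : center L = ⊥ := by
    rcases (inferInstance : (center L).Normal).eq_bot_or_eq_top with h1 | h1
    · exact h1
    · exact absurd (h1 ▸ mem_top _) hnc
  obtain ⟨ho, k, hk⟩ := Cfsg.Agent.H410.EndFld.conj_std hZ hΦmul hΦ1
    (fun τ g hg => Cfsg.Agent.H628.ZRowRee.eq_one_of_conj hK F (g := g) fun s => by rw [hg, MulAut.conj_apply])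
    hp2 hxp hg hτ hcyc (d := 3) (by norm_num)
    (by rw [card_eq D, ← Nat.card_eq_fintype_card, add_comm ((Nat.card K) ^ 3) 1])
    (Cfsg.Agent.H628.ZRowRee.card_fixed F τ) (by
      rw [Nat.card_eq_fintype_card, hK]
      intro h1
      have := (Nat.prime_dvd_prime_iff_eq hp.out Nat.prime_three).1 (hp.out.dvd_of_dvd_pow h1)
      omega)
  have hRC : RC (Φ τ) := Cfsg.Agent.H410.EndRee.RC.conj hR hk
  obtain ⟨e⟩ := D.centralizer_iso hK
  have hcard4 : 3 < Fintype.card K := by
    rw [hK]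
    calc 3 = 3 ^ 1 := by norm_num
      _ < 3 ^ (2 * m + 1) := Nat.pow_lt_pow_right (by norm_num) (by omega)
  have hodd : Odd (Fintype.card K) := by
    rw [hK]
    exact Odd.pow (by decide)
  have hs := Cfsg.Agent.TwoFusion.SLTwoFacts.isSimpleGroup_psl (F := K) hcard4
  have hrad : Cfsg.solvableRadical (Matrix.ProjectiveSpecialLinearGroup (Fin 2) K) = ⊥ :=
    rad_eq_bot_of_simple (Cfsg.Agent.ClassicalGeometry.PSL2Solvable.not_isSolvable_psl K (by omega))
  have hfixt : Φ τ (h (-1)) = h (-1) := by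
    rw [F.onH]
    congr 1
    apply Units.ext
    simp only [_root_.RingEquiv.toMulEquiv_eq_coe, _root_.Units.coe_mapEquiv, _root_.Units.val_neg, _root_.Units.val_one, _root_.RingEquiv.coe_toMulEquiv, _root_.RingEquiv.map_neg_one]
  have hle := Cfsg.Agent.H410.EndRee.card_fixed_ge hRC (M := centralizer {h (-1)}) (by
      intro h1
      apply hnc
      rw [mem_center_iff]
      intro y
      have h4 : y ∈ centralizer {h (-1)} := h1 ▸ mem_top y
      exact mem_centralizer_singleton_iff.1 h4) (by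
      intro y hy
      rw [mem_centralizer_singleton_iff] at hy ⊢
      have h4 := congrArg (Φ τ) hy
      rw [map_mul, map_mul, hfixt] at h4
      exact h4)
    ((by exact (MonoidHom.snd (Multiplicative (ZMod 2)) (Matrix.ProjectiveSpecialLinearGroup (Fin 2) K)).comp e.toMonoidHom)) (by
      intro y
      refine ⟨e.symm (1, y), ?_⟩
      simp only [_root_.MulEquiv.toMonoidHom_eq_coe, _root_.MonoidHom.coe_comp, _root_.MonoidHom.coe_snd, _root_.MonoidHom.coe_coe, _root_.Function.comp_apply, _root_.MulEquiv.apply_symm_apply]) hrad (z := (e.symm (Multiplicative.ofAdd 1, 1) :)) (by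
      intro y hy
      have h4 : (e y).2 = 1 := hy
      have h5 : ∀ i : Multiplicative (ZMod 2), i = 1 ∨ i = Multiplicative.ofAdd 1 := by decide
      rcases h5 (e y).1 with h6 | h6
      · left
        apply e.injective
        rw [map_one]
        exact Prod.ext h6 h4
      · right
        apply e.injective
        rw [e.apply_symm_apply]
        exact Prod.ext h6 h4) (by
      rw [Nat.card_congr e.toEquiv, Nat.card_prod]
      congr 1
      rw [Nat.card_eq_fintype_card]
      rfl)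
  rw [Cfsg.Agent.H628.ZRowRee.card_fixed F τ] at hle
  have hcF := Cfsg.Agent.H202.Descent.card_fixed ho
  have hpc := Cfsg.Agent.CTwoTab.card_psl_two (F := K) hodd
  have hn2 : 2 ≤ Nat.card ↥(RingHom.eqLocusField (τ : K →+* K) (RingHom.id K)) := Finite.one_lt_card
  rw [← Nat.card_eq_fintype_card, hcF] at hpc
  refine Cfsg.Agent.H410.EndRee.num hn2 hp5 ?_
  rw [hpc]
  exact Nat.mul_le_mul_left 2 hle

/-- `p ∣ q² - 1`: the centralizer of an involution -/
theorem lw_abs [Finite L] {p : ℕ} [hp : Fact p.Prime] (hp5 : 5 ≤ p) (hm : 1 ≤ m)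
    (hK : Fintype.card K = 3 ^ (2 * m + 1)) (D : Data m U h n) (hpq : p ∣ (Fintype.card K) ^ 2 - 1) : Lw p L := by
  obtain ⟨hnc, ht1⟩ := centralizer_ne_top hK D
  obtain ⟨e⟩ := D.centralizer_iso hK
  have hcard4 : 3 < Fintype.card K := by
    rw [hK]
    calc 3 = 3 ^ 1 := by norm_num
      _ < 3 ^ (2 * m + 1) := Nat.pow_lt_pow_right (by norm_num) (by omega)
  have hodd : Odd (Fintype.card K) := by
    rw [hK]
    exact Odd.pow (by decide)
  have hs := Cfsg.Agent.TwoFusion.SLTwoFacts.isSimpleGroup_psl (F := K) hcard4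
  have hrad : Cfsg.solvableRadical (Matrix.ProjectiveSpecialLinearGroup (Fin 2) K) = ⊥ :=
    rad_eq_bot_of_simple (Cfsg.Agent.ClassicalGeometry.PSL2Solvable.not_isSolvable_psl K (by omega))
  have hpc := Cfsg.Agent.CTwoTab.card_psl_two (F := K) hodd
  have hpP : p ∣ Nat.card (Matrix.ProjectiveSpecialLinearGroup (Fin 2) K) := by
    have h1 : p ∣ 2 * Nat.card (Matrix.ProjectiveSpecialLinearGroup (Fin 2) K) := by
      rw [← hpc]
      exact hpq.mul_left _
    rcases (hp.out.dvd_mul).1 h1 with h2 | h2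
    · have := Nat.le_of_dvd (by norm_num) h2
      omega
    · exact h2
  have hZ2 : Nat.card (Multiplicative (ZMod 2)) = 2 := by
    rw [Nat.card_eq_fintype_card]
    rfl
  refine Lw.of_hom (L := centralizer {h (-1)}) ?_ ?_
    ((MonoidHom.snd (Multiplicative (ZMod 2)) (Matrix.ProjectiveSpecialLinearGroup (Fin 2) K)).comp e.toMonoidHom)
    ?_ hrad ?_
  · intro h1
    apply hnc
    rw [mem_center_iff]
    intro y
    have h4 : y ∈ centralizer {h (-1)} := h1 ▸ mem_top y
    exact mem_centralizer_singleton_iff.1 h4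
  · rw [Nat.card_congr e.toEquiv, Nat.card_prod]
    exact hpP.mul_left _
  · intro y
    refine ⟨e.symm (1, y), ?_⟩
    simp only [_root_.MulEquiv.toMonoidHom_eq_coe, _root_.MonoidHom.coe_comp, _root_.MonoidHom.coe_snd, _root_.MonoidHom.coe_coe, _root_.Function.comp_apply, _root_.MulEquiv.apply_symm_apply]
  · intro h1
    have h2 : Nat.card ((MonoidHom.snd (Multiplicative (ZMod 2))
        (Matrix.ProjectiveSpecialLinearGroup (Fin 2) K)).comp e.toMonoidHom).ker ≤ 2 := by
      refine (Nat.card_le_card_of_injective (fun y : ((MonoidHom.snd (Multiplicative (ZMod 2))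
        (Matrix.ProjectiveSpecialLinearGroup (Fin 2) K)).comp e.toMonoidHom).ker =>
          (e (y : ↥(centralizer {h (-1)}))).1) ?_).trans hZ2.le
      intro y z hyz
      apply Subtype.ext
      apply e.injective
      refine Prod.ext hyz ?_
      have h3 : (e y).2 = 1 := y.2
      have h4 : (e z).2 = 1 := z.2
      rw [h3, h4]
    have h3 := Nat.le_of_dvd Nat.card_pos h1
    omega

/-- an element of order prime to `q³ (q - 1)` normalises no nontrivial `3`-subgroup -/
theorem not_fixR_abs [Finite L] {p : ℕ} (hK : Fintype.card K = 3 ^ (2 * m + 1)) (D : Data m U h n)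
    (hpq : ¬ p ∣ (Fintype.card K) ^ 3 * (Fintype.card K - 1)) {x : L} (hx : orderOf x = p) :
    ¬ FixR 3 (MulAut.conj x) := by
  rintro ⟨R, hR1, hR, hRx⟩
  have hfact : Fact (Nat.Prime 3) := ⟨Nat.prime_three⟩
  have hcardU : Nat.card (uSub D) = 3 ^ (3 * (2 * m + 1)) := by
    rw [card_uSub, hK, ← pow_mul, mul_comm]
  have hfac : (Nat.card L).factorization 3 = 3 * (2 * m + 1) := by
    rw [card_eq D, hK]
    set q := 3 ^ (2 * m + 1) with hq
    have hq3 : 3 ∣ q := dvd_pow_self 3 (by omega)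
    have hq0 : 0 < q := by positivity
    have h1 : ¬ 3 ∣ (q - 1) * (q ^ 3 + 1) := by
      rw [Nat.prime_three.dvd_mul]
      have h3 : 3 ∣ q ^ 3 := dvd_pow hq3 (by norm_num)
      rintro (h | h) <;> (clear * - hq0 h D h3; omega)
    rw [mul_assoc, Nat.factorization_mul (by positivity) (by intro h0; rw [h0] at h1; exact h1 (dvd_zero 3)),
      Finsupp.add_apply, Nat.factorization_eq_zero_of_not_dvd h1, hq, ← pow_mul,
      Nat.Prime.factorization_pow Nat.prime_three, Finsupp.single_apply, if_pos rfl, add_zero, mul_comm]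
  let S : Sylow 3 L := Sylow.ofCard (uSub D) (by rw [hcardU, hfac])
  have hS : (S : Subgroup L) = uSub D := rfl
  obtain ⟨P, hP⟩ := hR.exists_le_sylow
  obtain ⟨g, hg⟩ := MulAction.exists_smul_eq L S P
  obtain ⟨r, hr, hr1⟩ : ∃ r ∈ R, r ≠ 1 := by
    by_contra hcon
    push Not at hcon
    exact hR1 ((Subgroup.eq_bot_iff_forall R).2 hcon)
  have key : ∀ y ∈ R, g⁻¹ * y * g ∈ uSub D := by
    intro y hy
    have h1 := hP hy
    rw [← hg, Sylow.coe_subgroup_smul, Subgroup.mem_pointwise_smul_iff_inv_smul_mem, hS] at h1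
    have e : (MulAut.conj g)⁻¹ • y = g⁻¹ * y * g := by
      rw [← map_inv]
      simp
    rwa [e] at h1
  have h2 : x * r * x⁻¹ ∈ R := hRx r hr
  have h3 : g⁻¹ * x⁻¹ * g ∈ bSub D := by
    refine mem_bSub_of_inv_conj_mem D (key r hr) ?_ ?_
    · intro h4
      apply hr1
      calc r = g * (g⁻¹ * r * g) * g⁻¹ := by group
        _ = 1 := by rw [h4]; group
    · have h5 := key _ h2
      rwa [show (g⁻¹ * x⁻¹ * g)⁻¹ * (g⁻¹ * r * g) * (g⁻¹ * x⁻¹ * g) = g⁻¹ * (x * r * x⁻¹) * g by group]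
  apply hpq
  have h6 : orderOf (g⁻¹ * x⁻¹ * g) = p := by
    have h7 : g⁻¹ * x⁻¹ * g = MulAut.conj g⁻¹ x⁻¹ := by rw [MulAut.conj_apply, inv_inv]
    rw [h7, ← hx, ← orderOf_inv x]
    exact orderOf_injective (MulAut.conj g⁻¹).toMonoidHom (MulAut.conj g⁻¹).injective x⁻¹
  rw [← card_bSub D, ← h6]
  exact Subgroup.orderOf_dvd_natCard _ h3

end abs

section tw

/-- `M0` for the elements of order `p ∣ q² - q + 1`, `p > 8` -/
theorem m0 (hh : HH) {F : Type} [Field F] [Fintype F] {m : ℕ} (hF : Fintype.card F = 3 ^ (2 * m + 1))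
    [Finite ↥(Cfsg.Lie.twistedG2 F (3 ^ m))]
    {p : ℕ} [hp : Fact p.Prime] (hp8 : 8 < p) {x : ↥(Cfsg.Lie.twistedG2 F (3 ^ m))} (hx : orderOf x = p)
    (hcyc : ∀ P : Sylow p ↥(Cfsg.Lie.twistedG2 F (3 ^ m)), (IsCyclic (P : Subgroup ↥(Cfsg.Lie.twistedG2 F (3 ^ m))) :))
    (hfix : ¬ FixR 3 (MulAut.conj x)) : M0 x := by
  classical
  have hfact3 : Fact (Nat.Prime 3) := ⟨Nat.prime_three⟩
  have hchar : CharP F 3 := charP_of_card_eq_prime_pow hF
  have hne : ∀ t : ℕ, t.Prime → t ≠ 3 → (t : F) ≠ 0 := by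
    intro t ht ht2 h1
    exact ht2 ((Nat.prime_dvd_prime_iff_eq Nat.prime_three ht).1 ((CharP.cast_eq_zero_iff F 3 t).1 h1)).symm
  refine M0.of_triv hcyc hx ?_
  intro t ht htp R hR hRx
  by_cases ht2 : t = 3
  · subst ht2
    have hR1 : R = ⊥ := by
      by_contra hne
      exact hfix ⟨R, hne, hR, fun a ha => hRx a ha⟩
    intro a ha
    rw [hR1, mem_bot] at ha
    rw [ha, mul_one, one_mul]
  · let ρ : Representation F ↥(Cfsg.Lie.twistedG2 F (3 ^ m)) (Fin 7 → F) :=
      ((Matrix.toLinAlgEquiv' : Matrix (Fin 7) (Fin 7) F ≃ₐ[F] _) : Matrix (Fin 7) (Fin 7) F →* _).comp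
        ((Units.coeHom _).comp (ReeSevenGroup.ree F (3 ^ m)))
    have hρ : Function.Injective ρ := by
      refine (Matrix.toLinAlgEquiv' (R := F) (n := Fin 7)).injective.comp
        (Units.val_injective.comp (ReeSevenGroup.ree_injective (3 ^ m)))
    refine hh F (Fin 7 → F) ↥(Cfsg.Lie.twistedG2 F (3 ^ m)) ρ hρ p t hp.out ht (Ne.symm htp)
      (hne p hp.out (by omega)) (hne t ht ht2) ?_ R hR x ⟨1, by rw [pow_one, hx]⟩ hRx
    rw [Module.finrank_fin_fun]
    omega

/-- the arithmetic of the tori -/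
theorem arith (m : ℕ) : (3 ^ (2 * m + 1) + 3 ^ (m + 1) + 1) * (3 ^ (2 * m + 1) - 3 ^ (m + 1) + 1) =
    (3 ^ (2 * m + 1)) ^ 2 - 3 ^ (2 * m + 1) + 1 := by
  have hs : 3 ^ (m + 1) * 3 ^ (m + 1) = 3 * 3 ^ (2 * m + 1) := by rw [← pow_add, ← pow_succ']; congr 1; ring
  have hle : 3 ^ (m + 1) ≤ 3 ^ (2 * m + 1) := Nat.pow_le_pow_right (by norm_num) (by omega)
  have hle2 : 3 ^ (2 * m + 1) ≤ (3 ^ (2 * m + 1)) ^ 2 := Nat.le_self_pow (by norm_num) _
  zify [hle, hle2]
  zify at hs
  linear_combination (-1 : ℤ) * hs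

/-- `7 ∣ q² - q + 1`: there is an element `z` of prime order `ℓ ≥ 5`, `ℓ ≠ 7`, `ℓ ∣ q² - q + 1` with centralizer of
order prime to `3` -/
theorem zc {F : Type*} [Field F] [Fintype F] {m : ℕ} (hm : 1 ≤ m) (hF : Fintype.card F = 3 ^ (2 * m + 1))
    [Finite ↥(Cfsg.Lie.twistedG2 F (3 ^ m))] (h7 : 7 ∣ (3 ^ (2 * m + 1)) ^ 2 - 3 ^ (2 * m + 1) + 1) :
    Zc 3 7 ↥(Cfsg.Lie.twistedG2 F (3 ^ m)) := by
  have hs : 3 ^ (m + 1) * 3 ^ (m + 1) = 3 * 3 ^ (2 * m + 1) := by rw [← pow_add, ← pow_succ']; congr 1; ring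
  have hle : 3 ^ (m + 1) < 3 ^ (2 * m + 1) := Nat.pow_lt_pow_right (by norm_num) (by omega)
  have h27 : 27 ≤ 3 ^ (2 * m + 1) := by
    calc 27 = 3 ^ 3 := by norm_num
      _ ≤ _ := Nat.pow_le_pow_right (by norm_num) (by omega)
  have hodd1 : Odd (3 ^ (2 * m + 1)) := Odd.pow (by decide)
  have hodd2 : Odd (3 ^ (m + 1)) := Odd.pow (by decide)
  have h3q : 3 ∣ 3 ^ (2 * m + 1) := dvd_pow_self 3 (by omega)
  have h3r : 3 ∣ 3 ^ (m + 1) := dvd_pow_self 3 (by omega)
  have har := arith m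
  have hord := Cfsg.Agent.S1159.result hm hF
  set q := 3 ^ (2 * m + 1) with hq
  set r := 3 ^ (m + 1) with hr
  -- the coprimality of the two factors
  have hcop : ∀ l : ℕ, l.Prime → l ∣ q + r + 1 → l ∣ q - r + 1 → False := by
    intro l hl h1 h2
    have h3 : l ∣ 2 * r := by
      have := Nat.dvd_sub h1 h2
      have h4 : q + r + 1 - (q - r + 1) = 2 * r := by (clear * - hle; omega)
      rwa [h4] at this
    rcases (hl.dvd_mul).1 h3 with h4 | h4
    · have h5 : l = 2 := (Nat.prime_dvd_prime_iff_eq hl Nat.prime_two).1 h4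
      rw [h5] at h1
      obtain ⟨a, ha⟩ := hodd1
      obtain ⟨b, hb⟩ := hodd2
      (clear * - h1 ha hb; omega)
    · have h5 : l = 3 := (Nat.prime_dvd_prime_iff_eq hl Nat.prime_three).1 (hl.dvd_of_dvd_pow h4)
      rw [h5] at h1
      (clear * - h1; omega)
  -- the other factor
  obtain ⟨N, hN, hN7, hN1⟩ : ∃ N, (N = q - r + 1 ∨ N = q + r + 1) ∧ ¬ 7 ∣ N ∧ N ≠ 1 := by
    rw [← har] at h7
    rcases ((by norm_num : Nat.Prime 7).dvd_mul).1 h7 with h1 | h1
    · exact ⟨q - r + 1, Or.inl rfl, fun h2 => hcop 7 (by norm_num) h1 h2,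
        (Nat.succ_lt_succ (Nat.sub_pos_of_lt hle)).ne'⟩
    · exact ⟨q + r + 1, Or.inr rfl, fun h2 => hcop 7 (by norm_num) h2 h1,
        (Nat.succ_lt_succ (lt_of_lt_of_le (by norm_num) (h27.trans (Nat.le_add_right q r)))).ne'⟩
  obtain ⟨l, hl, hlN⟩ := Nat.exists_prime_and_dvd hN1
  have hl2 : l ≠ 2 := by
    rintro rfl
    obtain ⟨a, ha⟩ := hodd1
    obtain ⟨b, hb⟩ := hodd2
    rcases hN with h1 | h1 <;> (clear * - hlN ha hb h1; omega)
  have hl3 : l ≠ 3 := by
    rintro rfl
    rcases hN with h1 | h1 <;> (clear * - hlN h1; omega)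
  have hl7 : l ≠ 7 := by
    rintro rfl
    exact hN7 hlN
  have hlq : l ∣ q ^ 2 - q + 1 := by
    rw [← har]
    rcases hN with h1 | h1
    · rw [h1] at hlN
      exact hlN.mul_left _
    · rw [h1] at hlN
      exact hlN.mul_right _
  obtain ⟨z, hz⟩ := (hord l).2 (by
    rcases hN with h1 | h1
    · rw [h1] at hlN
      (clear * - hlN; simp only [hlN, true_or, or_true])
    · rw [h1] at hlN
      (clear * - hlN; simp only [hlN, true_or, or_true]))
  intro s hs hs6 hs3
  refine ⟨z, ?_, ?_, ?_⟩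
  · rintro rfl
    rw [orderOf_one] at hz
    exact hl.one_lt.ne hz
  · intro h3
    have hfact3 : Fact (Nat.Prime 3) := ⟨Nat.prime_three⟩
    obtain ⟨w, hw⟩ := exists_prime_orderOf_dvd_card' 3 h3
    have hw' : orderOf (w : ↥(Cfsg.Lie.twistedG2 F (3 ^ m))) = 3 := by rw [Subgroup.orderOf_coe]; exact hw
    have hcomm : Commute z (w : ↥(Cfsg.Lie.twistedG2 F (3 ^ m))) :=
      (mem_centralizer_singleton_iff.1 w.2).symm
    have hzw : orderOf (z * w) = l * 3 := by
      rw [hcomm.orderOf_mul_eq_mul_orderOf_of_coprime, hz, hw']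
      rw [hz, hw']
      exact (Nat.coprime_primes hl Nat.prime_three).2 hl3
    have h4 := (hord (l * 3)).1 ⟨_, hzw⟩
    -- `l ∤ q² - 1`
    have hlq1 : ∀ {k : ℕ}, l ∣ k → ¬ k ∣ q ^ 2 - 1 := by
      intro k hk hk1
      have h5 := hk.trans hk1
      have hq1 : q ≤ q ^ 2 := Nat.le_self_pow (by norm_num) _
      have h6 : l ∣ (q ^ 2 - 1) - (q ^ 2 - q + 1) := Nat.dvd_sub h5 hlq
      have h7 : (q ^ 2 - 1) - (q ^ 2 - q + 1) = q - 2 := by (clear * - hq1; omega)
      rw [h7] at h6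
      have h8 : (q - 2) * (q + 1) + 3 = q ^ 2 - q + 1 := by
        obtain ⟨c, hc⟩ := Nat.exists_eq_add_of_le (show 2 ≤ q by omega)
        have e1 : (2 + c) ^ 2 - (2 + c) = c * c + 3 * c + 2 := by
          have : (2 + c) ^ 2 = c * c + 3 * c + 2 + (2 + c) := by ring
          (clear * - this; omega)
        rw [hc, e1, Nat.add_sub_cancel_left]
        ring
      have h9 : l ∣ 3 := by
        have h10 := hlq
        rw [← h8] at h10
        exact (Nat.dvd_add_right (h6.mul_right _)).1 h10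
      exact hl3 ((Nat.prime_dvd_prime_iff_eq hl Nat.prime_three).1 h9)
    have hl5 : 5 ≤ l := by
      have := hl.two_le
      have h4 : l ≠ 4 := by rintro rfl; exact absurd hl (by norm_num)
      (clear * - hl2 hl3 this h4; omega)
    rcases h4 with h5 | h5 | h5 | h5 | h5 | h5
    · have := Nat.le_of_dvd (by norm_num) h5
      omega
    · have := Nat.le_of_dvd (by norm_num) h5
      omega
    · refine hlq1 ((dvd_mul_right l 3).trans h5) ⟨q + 1, ?_⟩
      have := Nat.sq_sub_sq q 1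
      rw [one_pow] at this
      rw [this, mul_comm]
    · refine hlq1 ((dvd_mul_right l 3).trans (h5.trans (Nat.div_dvd_of_dvd ?_))) ⟨q - 1, ?_⟩
      · obtain ⟨a, ha⟩ := hodd1
        exact ⟨a + 1, by (clear * - ha; omega)⟩
      · have := Nat.sq_sub_sq q 1
        rw [one_pow] at this
        rw [this]
    · have h6 : 3 ∣ q - r + 1 := (dvd_mul_left 3 l).trans h5
      (clear * - h6; omega)
    · have h6 : 3 ∣ q + r + 1 := (dvd_mul_left 3 l).trans h5
      (clear * - h6; omega)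
  · rw [hz]
    have hs2 : s = 2 := by
      have h1 : s ∣ 2 * 3 := hs6
      rcases (hs.dvd_mul).1 h1 with h2 | h2
      · exact (Nat.prime_dvd_prime_iff_eq hs Nat.prime_two).1 h2
      · exact absurd ((Nat.prime_dvd_prime_iff_eq hs Nat.prime_three).1 h2) hs3
    subst hs2
    exact Nat.Coprime.mul_right ((Nat.coprime_primes hl (by norm_num)).2 hl7)
      ((Nat.coprime_primes hl Nat.prime_two).2 hl2)

end tw

/-- **The row of the small Ree groups** (task 1558). -/
theorem noya_ree (hh : HH) {K : Type*} [Group K] [Finite K] [IsSimpleGroup K] {p : ℕ} [hp : Fact p.Prime]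
    (h : Cfsg.Lie.IsoRee K) (hp5 : 5 ≤ p) (hb : Blk p K) (hg : Gw 3 K) : NoYA p K := by
  obtain ⟨F, iF, iF', m, hm, hK, ⟨f⟩⟩ := h
  obtain ⟨θ, c⟩ := Cfsg.Agent.ChevalleyStructure.Ree.Normal.exists_ctx hK
  have hs := (Cfsg.Agent.S1073.result hm hK).1
  have hfin : Finite ↥(Cfsg.Lie.twistedG2 F (3 ^ m)) := Finite.of_injective f.symm f.symm.injective
  have D := Cfsg.Agent.ChevalleyStructure.Ree.Data.data c
  have hcycL : ∀ P : Sylow p ↥(Cfsg.Lie.twistedG2 F (3 ^ m)),
      (IsCyclic (P : Subgroup ↥(Cfsg.Lie.twistedG2 F (3 ^ m))) :) :=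
    fun P => Cfsg.Agent.S1156.result hm hK (by omega) P
  have hfact3 : Fact (Nat.Prime 3) := ⟨Nat.prime_three⟩
  intro x hx hR hY
  -- `x` is inner
  have h1 := FldAut.fldG_mul (1 : F ≃+* F) 1 (3 ^ m)
  rw [mul_one] at h1
  obtain ⟨g, hg1⟩ := inner_abs hp5 hm hK _ (FldAut.reeFld c) (mul_eq_left.1 h1.symm)
    (fun σ τ => FldAut.fldG_mul σ τ _) hcycL (x := Cfsg.Agent.H459.Rad.tr f x) (by rw [orderOf_tr, hx]) (hR.tr f)
  obtain ⟨hnc, ht1⟩ := centralizer_ne_top hK (Cfsg.Agent.ChevalleyStructure.Ree.Data.data c)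
  have hZ' : center ↥(Cfsg.Lie.twistedG2 F (3 ^ m)) = ⊥ := by
    rcases (inferInstance : (center ↥(Cfsg.Lie.twistedG2 F (3 ^ m))).Normal).eq_bot_or_eq_top with h1 | h1
    · exact h1
    · exact absurd (h1 ▸ mem_top _) hnc
  have hZ : center K = ⊥ := by
    rw [eq_bot_iff]
    intro z hz
    have h1 : f z ∈ center ↥(Cfsg.Lie.twistedG2 F (3 ^ m)) := by
      rw [mem_center_iff] at hz ⊢
      intro y
      have h2 := congrArg f (hz (f.symm y))
      rwa [map_mul, map_mul, f.apply_symm_apply] at h2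
    rw [hZ', mem_bot] at h1
    rw [mem_bot]
    exact f.injective (h1.trans (map_one f).symm)
  have hna : ¬ IsMulCommutative K := by
    intro h1
    have h2 : center K = ⊤ := by
      rw [eq_top_iff]
      intro z _
      rw [mem_center_iff]
      intro y
      exact h1.is_comm.comm y z
    rw [hZ] at h2
    exact bot_ne_top h2
  obtain ⟨y, hy⟩ : ∃ y : K, x = MulAut.conj y := by
    refine ⟨f.symm g, ?_⟩
    ext a
    have h1 : f (x (f.symm (f a))) = g * f a * g⁻¹ := by
      have h2 := DFunLike.congr_fun hg1 (f a)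
      rwa [tr_apply, MulAut.conj_apply] at h2
    rw [f.symm_apply_apply] at h1
    rw [MulAut.conj_apply]
    apply f.injective
    rw [h1, map_mul, map_mul, map_inv, f.apply_symm_apply]
  subst hy
  have hyo : orderOf y = p := by
    rw [← hx]
    exact (orderOf_injective (MulAut.conj : K →* MulAut K) (_root_.Cfsg.Agent.H301.SY.conj_injective hZ) y).symm
  have hYE : YE p y := YE.of_ya hZ hY
  have hzo : orderOf (f y) = p := by
    rw [← hyo]
    exact orderOf_injective f.toMonoidHom f.injective y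
  have hcyc : ∀ P : Sylow p K, IsCyclic (P : Subgroup K) := by
    intro P
    have hP : IsPGroup p ↥((P : Subgroup K).map f.toMonoidHom) := P.isPGroup'.map _
    obtain ⟨Q, hQ⟩ := hP.exists_le_sylow
    have := hcycL Q
    have h2 : IsCyclic ↥((P : Subgroup K).map f.toMonoidHom) :=
      isCyclic_of_injective (Subgroup.inclusion hQ) (Subgroup.inclusion_injective hQ)
    have h3 : IsCyclic ↥(map (↑f : K →* ↥(Cfsg.Lie.twistedG2 F (3 ^ m))) ↑P) := h2
    exact isCyclic_of_surjective (f.subgroupMap (P : Subgroup K)).symm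
      (f.subgroupMap (P : Subgroup K)).symm.surjective
  have hcard := card_eq (Cfsg.Agent.ChevalleyStructure.Ree.Data.data c)
  have hq27 : 27 ≤ Fintype.card F := by
    rw [hK]
    calc 27 = 3 ^ 3 := by norm_num
      _ ≤ _ := Nat.pow_le_pow_right (by norm_num) (by omega)
  by_cases hpq : p ∣ (Fintype.card F) ^ 2 - 1
  · -- the centralizer of an involution
    have hLw := lw_abs hp5 hm hK (Cfsg.Agent.ChevalleyStructure.Ree.Data.data c) hpq
    have hRf : RC (MulAut.conj (f y)) := by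
      rw [← tr_conj]
      exact hR.tr f
    exact hLw.false hzo (RE.of_rc hRf) hcycL
  · have hpK : p ∣ (Fintype.card F) ^ 3 * (Fintype.card F - 1) * ((Fintype.card F) ^ 3 + 1) := by
      rw [← hcard, ← hzo]
      exact _root_.orderOf_dvd_natCard _
    have hp3 : p ≠ 3 := by omega
    have hfac1 : (Fintype.card F) ^ 2 - 1 = (Fintype.card F + 1) * (Fintype.card F - 1) := by
      have := Nat.sq_sub_sq (Fintype.card F) 1
      rwa [one_pow] at this
    have hp1 : ¬ p ∣ (Fintype.card F) ^ 3 * (Fintype.card F - 1) := by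
      intro h2
      rcases (hp.out.dvd_mul).1 h2 with h3 | h3
      · rw [hK] at h3
        exact hp3 ((Nat.prime_dvd_prime_iff_eq hp.out Nat.prime_three).1
          (hp.out.dvd_of_dvd_pow (hp.out.dvd_of_dvd_pow h3)))
      · exact hpq (by rw [hfac1]; exact h3.mul_left _)
    have hq0 : Fintype.card F ≤ (Fintype.card F) ^ 2 := Nat.le_self_pow (by norm_num) _
    have hfac3 : (Fintype.card F) ^ 3 + 1 = (Fintype.card F + 1) * ((Fintype.card F) ^ 2 - Fintype.card F + 1) := by
      zify [hq0]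
      ring
    have hp2 : p ∣ (Fintype.card F) ^ 2 - Fintype.card F + 1 := by
      have h2 := ((hp.out.dvd_mul).1 hpK).resolve_left hp1
      rw [hfac3] at h2
      refine ((hp.out.dvd_mul).1 h2).resolve_left fun h3 => hpq ?_
      rw [hfac1]
      exact h3.mul_right _
    have hnf : ¬ FixR 3 (MulAut.conj (f y)) :=
      not_fixR_abs hK (Cfsg.Agent.ChevalleyStructure.Ree.Data.data c) hp1 hzo
    have hnfK : ¬ FixR 3 (MulAut.conj y) := by
      intro h2
      apply hnf
      refine FixR.of_tr f.symm ?_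
      rwa [tr_conj, f.symm_apply_apply]
    refine false_of_crow hna hb hg hyo hYE hcyc hnfK ?_
    by_cases hp8 : 8 < p
    · left
      exact (m0 hh hK hp8 hzo hcycL hnf).congr f
    · right
      have hp7 : p = 7 := by
        have h5 : p ≠ 6 := by rintro rfl; exact absurd hp.out (by norm_num)
        have h6 : p ≠ 8 := by rintro rfl; exact absurd hp.out (by norm_num)
        have h7 : p ≠ 5 := by
          rintro rfl
          -- `5 ∤ q² - q + 1`
          have h8 : (Fintype.card F) ^ 2 - Fintype.card F + 1 + Fintype.card F = (Fintype.card F) ^ 2 + 1 := by (clear * - hq0; omega)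
          have h9 : (Fintype.card F ^ 2 + 1) % 5 = Fintype.card F % 5 := by
            rw [← h8, Nat.add_mod, Nat.mod_eq_zero_of_dvd hp2, zero_add, Nat.mod_mod]
          have h10 : Fintype.card F % 5 < 5 := Nat.mod_lt _ (by norm_num)
          rw [Nat.add_mod, Nat.pow_mod] at h9
          interval_cases h11 : (Fintype.card F % 5) <;> (clear * - h9; omega)
        (clear * - hp5 hp8 h5 h6 h7; omega)
      subst hp7
      rw [hK] at hp2
      exact (zc hm hK hp2).congr f

end Cfsg.Agent.H541.NoyaRee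
end

private theorem dce_7720a0a844a5 : _root_.True := by
  try have : _root_.True := by simp only [_root_.Cfsg.Agent.H952.Rc.tv.congr_simp]
  try have : _root_.True := by simp only [_root_.Cfsg.Agent.H947.Sy.gs.eq_1]
  try have : _root_.True := by simp only [_root_.Cfsg.Agent.H109.EndPsl.dgh.congr_simp]
  exact _root_.True.intro
end

-- part: H597/SYPsuRow_mg
section
prune_inst 0x741057200d22120000000582110020206c0000800000880080210a400201a0028502000008000005480820000004002002000080420000000a00040000050100008000003000010000000e000000000000000000000000000000000000000004000000000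
set_option linter.all false
open scoped Cfsg.Agent.FastGrp

-- part: H597/SYPsu
section
/-!
# The row `PSU_n(q)`, `n ≥ 3`, of S3846 (task 1515)
-/

set_option autoImplicit false
set_option linter.unusedSectionVars false

namespace Cfsg.Agent.H597.SYPsu

open Matrix Subgroup Module Cfsg Cfsg.Agent.H459.Rad Cfsg.Agent.H459.Iface Cfsg.Agent.H301.SY
open Cfsg.Agent.LieClassical.HermBasic Cfsg.Agent.LieClassical.HermSiegel
open Cfsg.Agent.ClassicalGeometry.PSUAutBasic Cfsg.Agent.ClassicalGeometry.HermOrtho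
open Cfsg.Agent.ClassicalGeometry.PSUAutCount (toAut gm gm_mul gm_one gm_mul_inv gm_inv_mul semiConj guConj act_guConj
  herm_gm gm_inv_mulVec gm_mulVec_inv herm_map gm_inj sc gm_sc_mul toAut_sc_mul eq_of_toAut_eq)
open Cfsg.Agent.H880.Cl

section Deg

variable {F V : Type*} [Field F] [Fintype F] [AddCommGroup V] [Module F V] [FiniteDimensional F V] [Nontrivial V]

/-- the dimension of a faithful irreducible module of a group of prime order -/
theorem finrank_eq_order {r p : ℕ} [hr : Fact r.Prime] [CharP F r] [hp : Fact p.Prime] (hpr : p ≠ r)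
    (T : V →ₗ[F] V) (hTp : T ^ p = 1) (hT1 : T ≠ 1)
    (hs : ∀ W : Submodule F V, (∀ w ∈ W, T w ∈ W) → W = ⊥ ∨ W = ⊤) :
    finrank F V = orderOf ((Fintype.card F : ℕ) : ZMod p) := by
  have hirr := Cfsg.Agent.H469.IrrCyc.minpoly_irreducible T hs
  obtain ⟨f, hr', hf⟩ := FiniteField.card F r
  have hcop : r.Coprime p := (Nat.coprime_primes hr.out hp.out).mpr hpr.symm
  have hdvd : minpoly F T ∣ Polynomial.cyclotomic p F := by
    have h1 : minpoly F T ∣ Polynomial.X ^ p - 1 := by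
      apply minpoly.dvd
      rw [map_sub, map_pow, Polynomial.aeval_X, map_one, hTp, sub_self]
    rw [← Polynomial.cyclotomic_prime_mul_X_sub_one] at h1
    rcases hirr.prime.dvd_or_dvd h1 with h | h
    · exact h
    · exfalso
      apply hT1
      obtain ⟨g, hg⟩ := h
      have h2 : Polynomial.aeval T (Polynomial.X - 1 : Polynomial F) = 0 := by
        rw [hg, map_mul, minpoly.aeval, zero_mul]
      rw [map_sub, Polynomial.aeval_X, map_one, sub_eq_zero] at h2
      exact h2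
  have hdeg := Polynomial.natDegree_of_dvd_cyclotomic_of_irreducible (K := F) (p := r) (f := f) (n := p)
    hf hcop hdvd hirr
  rw [Cfsg.Agent.H469.IrrCyc.finrank_eq T hs, hdeg, Cfsg.Agent.H469.IrrCyc.orderOf_unitOfCoprime, hf]

end Deg

section Main

variable {F : Type} [Field F] [Fintype F] {n q r p : ℕ} [hr : Fact r.Prime] [hp : Fact p.Prime] [CharP F r]

/-- **irreducible elements of prime order of `GU_n(q)`** -/
theorem two_mul_lt (hF : Fintype.card F = q ^ 2) (hn : 2 ≤ n) (hp3 : 3 ≤ p) (hpr : p ≠ r) {A : GU n F q} {d : F}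
    (hd : d * d ^ q = 1) (hA : gm A ^ p = d ^ p • (1 : Matrix (Fin n) (Fin n) F))
    (hs : ∀ W : Submodule F (Fin n → F), (∀ w ∈ W, gm A *ᵥ w ∈ W) → W = ⊥ ∨ W = ⊤) : 2 * n < p := by
  classical
  have hq2 : 2 ≤ q := two_le hF
  have hd0 : d ≠ 0 := by
    rintro rfl
    rw [zero_mul] at hd
    exact zero_ne_one hd
  have hdi : d⁻¹ * (d⁻¹) ^ q = 1 := by rw [inv_pow, ← mul_inv, hd, inv_one]
  obtain ⟨B, hB⟩ : ∃ B : GU n F q, B = sc n ⟨d⁻¹, hdi⟩ * A := ⟨_, rfl⟩
  have hgB : gm B = d⁻¹ • gm A := by rw [hB, gm_sc_mul]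
  have hBp : (gm B) ^ p = 1 := by
    rw [hgB, smul_pow, hA, smul_smul, ← mul_pow, inv_mul_cancel₀ hd0, one_pow, one_smul]
  have hirr : ∀ W : Submodule F (Fin n → F), (∀ w ∈ W, gm B *ᵥ w ∈ W) → W = ⊥ ∨ W = ⊤ := by
    intro W hW
    apply hs W
    intro w hw
    have h1 := W.smul_mem d (hW w hw)
    rwa [hgB, smul_mulVec, smul_smul, mul_inv_cancel₀ hd0, one_smul] at h1
  have : Nonempty (Fin n) := ⟨⟨0, by omega⟩⟩
  set T : Module.End F (Fin n → F) := Matrix.mulVecLin (gm B) with hT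
  have hTs : ∀ W : Submodule F (Fin n → F), (∀ w ∈ W, T w ∈ W) → W = ⊥ ∨ W = ⊤ := hirr
  have hTp : T ^ p = 1 := by
    have h1 : ∀ k : ℕ, T ^ k = Matrix.mulVecLin (gm B ^ k) := by
      intro k
      induction k with
      | zero => rw [pow_zero, pow_zero, Matrix.mulVecLin_one]; rfl
      | succ k ih => rw [pow_succ, pow_succ, Matrix.mulVecLin_mul, ih]; rfl
    rw [h1, hBp, Matrix.mulVecLin_one]
    rfl
  have hT1 : T ≠ 1 := by
    intro h
    have hv : (Pi.single (⟨0, by omega⟩ : Fin n) 1 : Fin n → F) ≠ 0 := single_ne _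
    rcases hTs (Submodule.span F {Pi.single (⟨0, by omega⟩ : Fin n) 1}) (by
      intro w hw
      rw [h]
      exact hw) with h2 | h2
    · rw [Submodule.span_singleton_eq_bot] at h2
      exact hv h2
    · have h3 := finrank_span_singleton (K := F) hv
      rw [h2, finrank_top, finrank_fin_fun] at h3
      omega
  have hord := finrank_eq_order (r := r) hpr T hTp hT1 hTs
  rw [finrank_fin_fun, hF] at hord
  -- `B` has order `p`
  have hBo : orderOf B = p := by
    refine orderOf_eq_prime ?_ ?_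
    · apply gm_inj
      rw [gm_pow, hBp, gm_one]
    · intro h
      apply hT1
      rw [hT, h, gm_one, Matrix.mulVecLin_one]
      rfl
  have hpd : p ∣ Nat.card (GU n F q) := hBo ▸ _root_.orderOf_dvd_natCard B
  have hpq : ¬ p ∣ q := by
    intro h
    obtain ⟨f, hr', hf⟩ := FiniteField.card F r
    have h1 : p ∣ r ^ (f : ℕ) := by
      rw [← hf, hF]
      exact dvd_pow h two_ne_zero
    exact hpr ((Nat.prime_dvd_prime_iff_eq hp.out hr.out).1 (hp.out.dvd_of_dvd_pow h1))
  rw [Cfsg.Agent.S0277.result hF n, hp.out.dvd_mul] at hpd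
  have hpd' := hpd.resolve_left fun h => hpq (hp.out.dvd_of_dvd_pow h)
  obtain ⟨i, hi, h3⟩ := (Prime.dvd_finsetProd_iff hp.out.prime _).1 hpd'
  rw [Finset.mem_range] at hi
  have hq1 : ∀ j, 1 ≤ q ^ j := fun j => Nat.one_le_pow _ _ (by omega)
  -- `n` divides `i + 1`
  have hpow : ((q ^ 2 : ℕ) : ZMod p) ^ (i + 1) = 1 := by
    rw [← Nat.cast_pow, ← pow_mul, mul_comm 2, pow_mul, Nat.cast_pow]
    by_cases he : Even i
    · rw [if_pos he] at h3
      have h4 : ((q ^ (i + 1) + 1 : ℕ) : ZMod p) = 0 := (ZMod.natCast_eq_zero_iff _ _).2 h3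
      have h5 : ((q ^ (i + 1) : ℕ) : ZMod p) = -1 := by
        push_cast at h4 ⊢
        linear_combination h4
      rw [h5]
      ring
    · rw [if_neg he] at h3
      have h4 : ((q ^ (i + 1) - 1 : ℕ) : ZMod p) = 0 := (ZMod.natCast_eq_zero_iff _ _).2 h3
      have h5 : ((q ^ (i + 1) : ℕ) : ZMod p) = 1 := by
        rw [Nat.cast_sub (hq1 _)] at h4
        push_cast at h4 ⊢
        linear_combination h4
      rw [h5]
      ring
  have hdvd : n ∣ i + 1 := by
    rw [hord]
    exact orderOf_dvd_of_pow_eq_one hpow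
  have hin : i + 1 = n := by
    have := Nat.le_of_dvd (by omega) hdvd
    omega
  -- `n` is odd
  have hodd : Odd n := by
    rw [← Nat.not_even_iff_odd]
    intro he
    obtain ⟨k, hk⟩ := he
    have hio : ¬ Even i := by
      rw [Nat.not_even_iff_odd]
      exact ⟨k - 1, by omega⟩
    rw [if_neg hio, hin] at h3
    have h4 : ((q ^ n - 1 : ℕ) : ZMod p) = 0 := (ZMod.natCast_eq_zero_iff _ _).2 h3
    have h5 : ((q ^ 2 : ℕ) : ZMod p) ^ k = 1 := by
      rw [← Nat.cast_pow, ← pow_mul, two_mul, ← hk]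
      rw [Nat.cast_sub (hq1 _)] at h4
      push_cast at h4 ⊢
      linear_combination h4
    have h6 : n ∣ k := by
      rw [hord]
      exact orderOf_dvd_of_pow_eq_one h5
    have h7 := Nat.le_of_dvd (by omega) h6
    omega
  have hn0 : ((q ^ 2 : ℕ) : ZMod p) ≠ 0 := by
    intro h
    exact hpq (hp.out.dvd_of_dvd_pow ((ZMod.natCast_eq_zero_iff _ _).1 h))
  have hdp : n ∣ p - 1 := by
    rw [hord]
    exact ZMod.orderOf_dvd_card_sub_one hn0
  obtain ⟨k, hk⟩ := hdp
  have hpo : Odd p := hp.out.odd_of_ne_two (by omega)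
  obtain ⟨m, hm⟩ := hpo
  have hek : Even k := by
    by_contra hko
    rw [Nat.not_even_iff_odd] at hko
    have h8 : Odd (p - 1) := hk ▸ hodd.mul hko
    obtain ⟨l, hl⟩ := h8
    omega
  obtain ⟨l, hl⟩ := hek
  have hl0 : l ≠ 0 := by
    rintro rfl
    rw [hl] at hk
    omega
  have hl1 : 1 ≤ l := by omega
  have h9 : p - 1 = 2 * (n * l) := by rw [hk, hl]; ring
  have h10 : n * 1 ≤ n * l := Nat.mul_le_mul_left _ hl1
  omega

/-- `FixR` or `2 n < p` -/
theorem fix_or (hF : Fintype.card F = q ^ 2) (hn : 4 ≤ n) (hp5 : 5 ≤ p) (hpr : p ≠ r)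
    {x : MulAut (PSU n F q)} (hx : x ^ p = 1) (hRC : RC x) : FixR r x ∨ 2 * n < p := by
  have hq2 := two_le hF
  obtain ⟨A, ρ, rfl⟩ := Cfsg.Agent.ClassicalGeometry.PSUAutMain.exists_toAut hF (by omega : 3 ≤ n) (by omega) x
  by_cases hρ : ρ = 1
  · subst hρ
    obtain ⟨-, c, hc1, hc⟩ := Cfsg.Agent.CpAutU.Desc.exists_scalar hF (by omega : 3 ≤ n) hx
    have hgm : gm A ^ p = c • (1 : Matrix (Fin n) (Fin n) F) := by
      rw [← gm_pow]
      have h1 : ∀ k : ℕ, ∀ v, (Cfsg.Agent.CpAut.Psl.perm (A : GL (Fin n) F) 1 ^ k) v = gm (A ^ k) *ᵥ v := by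
        intro k
        induction k with
        | zero => intro v; rw [pow_zero, pow_zero, gm_one, one_mulVec]; rfl
        | succ k ih =>
          intro v
          rw [pow_succ, Equiv.Perm.mul_apply, ih, pow_succ, gm_mul, ← mulVec_mulVec]
          rfl
      apply Matrix.ext_of_mulVec_single
      intro i
      rw [← h1, hc, Matrix.smul_mulVec, one_mulVec]
    rcases exists_root_or hF hp.out hc1 with ⟨d, hd, hdc⟩ | hpq
    · have hgm' : gm A ^ p = d ^ p • (1 : Matrix (Fin n) (Fin n) F) := by rw [hdc, hgm]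
      rcases irr_or_fix hF hn (r := r) hp.out hp5 hRC (Or.inr ⟨d, hd, hgm'⟩) with h | h
      · exact Or.inl h
      · exact Or.inr (two_mul_lt (r := r) hF (by omega) (by omega) hpr hd hgm' h)
    · have hq4 : 4 ≤ q := by
        have h1 := Nat.le_of_dvd (by omega) hpq
        omega
      rcases irr_or_fix hF hn (r := r) hp.out hp5 hRC (Or.inl hq4) with h | h
      · exact Or.inl h
      · exact (not_irr hF hn hp5 hpq hgm hRC h).elim
  · exact Or.inl (fixR_field hF (by omega) hp.out (by omega) hρ hx)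

/-- the row, up to `m0_of_rep` -/
theorem crow_of_m0 (hF : Fintype.card F = q ^ 2) (hn : 3 ≤ n) (hp5 : 5 ≤ p) (hpr : p ≠ r)
    (hM : ∀ x : PSU n F q, orderOf x = p → (∀ P : Sylow p (PSU n F q), IsCyclic (P : Subgroup (PSU n F q))) →
      ¬ FixR r (MulAut.conj x) → n + 1 < p → M0 x) : CRow r p (PSU n F q) := by
  intro x hx hRC hcyc
  by_cases hfix : FixR r (MulAut.conj x)
  · exact Or.inl hfix
  refine Or.inr (Or.inl (hM x hx hcyc hfix ?_))
  rcases Nat.lt_or_ge n 4 with h4 | h4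
  · omega
  · rcases fix_or (r := r) hF h4 hp5 hpr (x := MulAut.conj x) (by rw [← map_pow, ← hx, pow_orderOf_eq_one, map_one])
      hRC with h | h
    · exact absurd h hfix
    · omega

end Main

end Cfsg.Agent.H597.SYPsu
end

-- part: H597/SYPsuRow
section
/-!
# The row `PSU_n(q)`, `n ≥ 3`, of S3846 (task 1515)
-/

set_option autoImplicit false
set_option linter.unusedSectionVars false

namespace Cfsg.Agent.H597.SYPsu

open Matrix Subgroup Module Cfsg Cfsg.Agent.H459.Rad Cfsg.Agent.H459.Iface Cfsg.Agent.H301.SY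
open Cfsg.Agent.LieClassical.HermBasic Cfsg.Agent.LieClassical.HermSiegel
open Cfsg.Agent.ClassicalGeometry.PSUAutBasic Cfsg.Agent.ClassicalGeometry.HermOrtho
open Cfsg.Agent.H880.Cl

/-- **Row `PSU_n(q)`, `n ≥ 3`, of S3846.** -/
theorem crow_psu (hh : Cfsg.Agent.H301.SY.HH) {K : Type*} [Group K] [Finite K] [IsSimpleGroup K] {F : Type} [Field F]
    [Fintype F] {n q r p : ℕ} [Fact r.Prime] [Fact p.Prime] [CharP F r] (hF : Fintype.card F = q ^ 2) (hn : 3 ≤ n)
    (e : Nonempty (K ≃* Cfsg.PSU n F q)) (hp : 5 ≤ p) (hpr : p ≠ r) : Cfsg.Agent.H301.SY.CRow r p K := by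
  obtain ⟨e⟩ := e
  refine CRow.congr e (crow_of_m0 hF hn hp hpr fun x hx hcyc hfix hnp => ?_)
  refine m0_of_rep hh (pr n F q) pr_surjective ?_ (toEnd n F q : Representation F (SU n F q) (Fin n → F))
    toEnd_injective hpr (by rw [Module.finrank_fin_fun]; exact hnp) hcyc hx hfix
  intro z hz
  exact (QuotientGroup.eq_one_iff _).1 (MonoidHom.mem_ker.1 hz)

end Cfsg.Agent.H597.SYPsu
end

-- part: H941/SY/DataE6e
section
/-!
# Data of the torus of order (q^4 + 1)(q^2 - 1) of E6(q) (helper941, after helper129)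
-/

set_option autoImplicit false

namespace Cfsg.Agent.H941.SY.DataE6e

open Cfsg.Agent.H129.TorusTw Cfsg.Agent.H129.WData Cfsg.Agent.ChevalleyStructure.CoxeterGeomTypes
open Cfsg.Lie Cfsg.Lie.ChevalleyDatum

/-- the Cartan matrix -/
def Am : Mat 6 := ![![2, 0, -1, 0, 0, 0],
    ![0, 2, 0, -1, 0, 0],
    ![-1, 0, 2, -1, 0, 0],
    ![0, -1, -1, 2, -1, 0],
    ![0, 0, 0, -1, 2, -1],
    ![0, 0, 0, 0, -1, 2]]

/-- the partial products -/
def chain : List (Fin 6 × Mat 6) := [
    (1, ![![1, 0, 1, 0, 0, 0],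
      ![0, 0, 1, 1, 0, 0],
      ![0, 1, 0, 1, 0, 0],
      ![0, 0, 0, 0, 1, 0],
      ![0, 0, 0, 0, 0, 1],
      ![0, -1, -1, -1, -1, -1]]),
    (2, ![![1, 0, 1, 0, 0, 0],
      ![0, 1, 1, 1, 0, 0],
      ![0, 0, 0, 1, 0, 0],
      ![0, 0, 0, 0, 1, 0],
      ![0, 0, 0, 0, 0, 1],
      ![0, 0, -1, -1, -1, -1]]),
    (3, ![![1, 0, 0, 0, 0, 0],
      ![0, 1, 0, 1, 0, 0],
      ![0, 0, 1, 1, 0, 0],
      ![0, 0, 0, 0, 1, 0],
      ![0, 0, 0, 0, 0, 1],
      ![0, 0, 0, -1, -1, -1]]),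
    (4, ![![1, 0, 0, 0, 0, 0],
      ![0, 1, 0, 0, 0, 0],
      ![0, 0, 1, 0, 0, 0],
      ![0, 0, 0, 1, 1, 0],
      ![0, 0, 0, 0, 0, 1],
      ![0, 0, 0, 0, -1, -1]]),
    (5, ![![1, 0, 0, 0, 0, 0],
      ![0, 1, 0, 0, 0, 0],
      ![0, 0, 1, 0, 0, 0],
      ![0, 0, 0, 1, 0, 0],
      ![0, 0, 0, 0, 1, 1],
      ![0, 0, 0, 0, 0, -1]])]

/-- the matrix of `θ` -/
def Th : Mat 6 := ![![1, 0, 1, 0, 0, 0],
    ![0, 0, 1, 1, 0, 0],
    ![0, 1, 0, 1, 0, 0],
    ![0, 0, 0, 0, 1, 0],
    ![0, 0, 0, 0, 0, 1],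
    ![0, -1, -1, -1, -1, -1]]

/-- the basis -/
def V : Mat 6 := ![![-1, 0, -1, -1, -1, 0],
    ![-1, -1, -1, -1, -1, -1],
    ![-1, 0, -1, -1, 0, 0],
    ![-1, -1, -1, -1, -1, 0],
    ![-1, -1, -2, -2, -1, -1],
    ![-1, -1, -1, -2, -1, 0]]

/-- the coordinates -/
def B : Mat 6 := ![![0, -1, -1, 0, 1, 0],
    ![1, 0, 0, -1, 0, 0],
    ![0, 1, 0, -1, -1, 1],
    ![0, 0, 0, 1, 0, -1],
    ![-1, 0, 1, 0, 0, 0],
    ![0, -1, 0, 1, 0, 0]]

/-- the polynomial -/
def c : Fin 6 → ℤ := ![-1, 0, 1, 0, -1, 0]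

/-- the representatives of the orbits of `θ` on the roots -/
def R : Fin 9 → Fin 6 → ℤ := ![![-1, 0, -1, -1, -1, -1],
    ![-1, 0, -1, -1, -1, 0],
    ![0, 1, 1, 1, 0, 0],
    ![0, 0, 0, 0, -1, -1],
    ![0, 0, 0, 0, -1, 0],
    ![0, 1, 0, 0, 0, 0],
    ![0, -1, 0, 0, 0, 0],
    ![1, 1, 1, 1, 0, 0],
    ![1, 0, 1, 1, 1, 0]]

/-- the values of the functional on the representatives -/
def G : Fin 9 → Fin 6 → ℤ := ![![1, 1, 0, -1, 0, 0],
    ![1, 0, 0, 0, 0, 0],
    ![1, 1, 0, -1, -1, 0],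
    ![1, 1, -1, -1, 0, 0],
    ![1, 0, -1, 0, 0, 0],
    ![1, 0, 0, -1, 0, 0],
    ![-1, 0, 0, 1, 0, 0],
    ![1, 0, -1, -1, 0, 0],
    ![-1, 0, 0, 0, 0, 0]]

/-- predecessor -/
def prv (r : ℕ) : ℕ := Nat.mod (Nat.shiftRight 0x4347403e3d4645443b3a0042003f383c3533322321002c2b2a00302f2e1a3736342827252200001311102d191817001d1c1b2926241514120b0f0800000e0d0c0302010a09070004 (8 * r)) 256

/-- depth -/
def dep (r : ℕ) : ℕ := Nat.mod (Nat.shiftRight 0x20306040104070501030005000207060202010201000702050003060104030303040405010000070707040106030005020704050605060601020200000303010507070404060605 (8 * r)) 256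

theorem hA : ∀ i j, Am i j = cartanOf chevE6 6 i j :=
  H129.RootF.cE6

theorem chainOK : ChainOK Am chain :=
  H129.ChainF.ok H129.ChainF.i6 H129.ChainF.m6 (H129.ChainF.c6 <| H129.ChainF.c6 <| H129.ChainF.c6 <| H129.ChainF.c6 <| H129.ChainF.c6 <| H129.ChainF.nil) (by decide +kernel)

theorem cycOK : CycOK 6 Th V B c :=
  H129.RootF.cyc H129.ChainF.i6 H129.RootF.t6 H129.ChainF.m6 H129.RootF.t6 H129.ChainF.m6 H129.RootF.t6 H129.RootF.r6 (by decide +kernel)

theorem rootOK : RootOK chevE6 6 Th R prv dep :=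
  H129.RootF.ok H129.RootF.t6 (H129.RootF.mc H129.RootF.r6 <| H129.RootF.mc H129.RootF.r6 <| H129.RootF.mc H129.RootF.r6 <| H129.RootF.mc H129.RootF.r6 <| H129.RootF.mc H129.RootF.r6 <| H129.RootF.mc H129.RootF.r6 <| H129.RootF.mc H129.RootF.r6 <| H129.RootF.mc H129.RootF.r6 <| H129.RootF.mc H129.RootF.r6 <| H129.RootF.m0) (by decide +kernel)

theorem coefOK : ∀ s i, ∑ j, R s j * B j i = G s i := by decide +kernel

theorem fN_eq (x : ℤ) : fN c x = -1 + x ^ 2 - x ^ 4 + x ^ 6 := by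
  unfold fN c
  simp only [Fin.sum_univ_succ, _root_.Int.reduceNeg, _root_.Fin.isValue, _root_.Matrix.cons_val_zero, _root_.Fin.coe_ofNat_eq_mod, _root_.Nat.zero_mod, _root_.pow_zero, _root_.mul_one, _root_.Matrix.cons_val_succ, _root_.Fin.val_succ, _root_.zero_add, _root_.pow_one, _root_.MulZeroClass.zero_mul, _root_.Nat.reduceAdd, _root_.one_mul, _root_.neg_mul, _root_.Finset.univ_unique, _root_.Fin.default_eq_zero, _root_.Matrix.cons_val_fin_one, _root_.Fin.val_eq_zero, _root_.Finset.sum_const_zero, _root_.add_zero]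
  ring

theorem G_0 (x : ℤ) : Gq B x (R 0) = 1 + x - x ^ 3 := by
  rw [Gq_coef B x (R 0) (G 0) (coefOK 0)]
  unfold G
  simp only [Fin.sum_univ_succ, _root_.Int.reduceNeg, _root_.Fin.isValue, _root_.Matrix.cons_val', _root_.Matrix.cons_val_fin_one, _root_.Matrix.cons_val_zero, _root_.Fin.coe_ofNat_eq_mod, _root_.Nat.zero_mod, _root_.pow_zero, _root_.mul_one, _root_.Matrix.cons_val_succ, _root_.Fin.val_succ, _root_.zero_add, _root_.pow_one, _root_.one_mul, _root_.Nat.reduceAdd, _root_.MulZeroClass.zero_mul, _root_.neg_mul, _root_.Finset.univ_unique, _root_.Fin.default_eq_zero, _root_.Fin.val_eq_zero, _root_.Finset.sum_const_zero, _root_.add_zero]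
  try ring

theorem bez_0 (x : ℤ) : (2 - x ^ 2) * (1 + x ^ 4) + (-1 + x - x ^ 3) * (1 + x - x ^ 3) = 1 := by
  ring

theorem G_1 (x : ℤ) : Gq B x (R 1) = 1 := by
  rw [Gq_coef B x (R 1) (G 1) (coefOK 1)]
  unfold G
  simp only [Fin.sum_univ_succ, _root_.Int.reduceNeg, _root_.Fin.isValue, _root_.Matrix.cons_val', _root_.Matrix.cons_val_fin_one, _root_.Matrix.cons_val_one, _root_.Matrix.cons_val_zero, _root_.Fin.coe_ofNat_eq_mod, _root_.Nat.zero_mod, _root_.pow_zero, _root_.mul_one, _root_.Matrix.cons_val_succ, _root_.Fin.val_succ, _root_.zero_add, _root_.pow_one, _root_.MulZeroClass.zero_mul, _root_.Nat.reduceAdd, _root_.Finset.univ_unique, _root_.Fin.default_eq_zero, _root_.Fin.val_eq_zero, _root_.Finset.sum_const_zero, _root_.add_zero]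
  try ring

theorem bez_1 (x : ℤ) : (0) * (1 + x ^ 4) + (1) * (1) = 1 := by
  ring

theorem G_2 (x : ℤ) : Gq B x (R 2) = 1 + x - x ^ 3 - x ^ 4 := by
  rw [Gq_coef B x (R 2) (G 2) (coefOK 2)]
  unfold G
  simp only [Fin.sum_univ_succ, _root_.Int.reduceNeg, _root_.Fin.isValue, _root_.Matrix.cons_val', _root_.Matrix.cons_val_fin_one, _root_.Matrix.cons_val, _root_.Matrix.cons_val_one, _root_.Matrix.cons_val_zero, _root_.Fin.coe_ofNat_eq_mod, _root_.Nat.zero_mod, _root_.pow_zero, _root_.mul_one, _root_.Matrix.cons_val_succ, _root_.Fin.val_succ, _root_.zero_add, _root_.pow_one, _root_.one_mul, _root_.Nat.reduceAdd, _root_.MulZeroClass.zero_mul, _root_.neg_mul, _root_.Finset.univ_unique, _root_.Fin.default_eq_zero, _root_.Fin.val_eq_zero, _root_.Finset.sum_const_zero, _root_.add_zero]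
  try ring

theorem bez_2 (x : ℤ) : (-x + x ^ 2 + x ^ 3) * (1 + x ^ 4) + (2 - x + x ^ 3) * (1 + x - x ^ 3 - x ^ 4) = 2 := by
  ring

theorem G_3 (x : ℤ) : Gq B x (R 3) = 1 + x - x ^ 2 - x ^ 3 := by
  rw [Gq_coef B x (R 3) (G 3) (coefOK 3)]
  unfold G
  simp only [Fin.sum_univ_succ, _root_.Int.reduceNeg, _root_.Fin.isValue, _root_.Matrix.cons_val', _root_.Matrix.cons_val_fin_one, _root_.Matrix.cons_val, _root_.Matrix.cons_val_one, _root_.Matrix.cons_val_zero, _root_.Fin.coe_ofNat_eq_mod, _root_.Nat.zero_mod, _root_.pow_zero, _root_.mul_one, _root_.Matrix.cons_val_succ, _root_.Fin.val_succ, _root_.zero_add, _root_.pow_one, _root_.one_mul, _root_.Nat.reduceAdd, _root_.neg_mul, _root_.MulZeroClass.zero_mul, _root_.Finset.univ_unique, _root_.Fin.default_eq_zero, _root_.Fin.val_eq_zero, _root_.Finset.sum_const_zero, _root_.add_zero]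
  try ring

theorem bez_3 (x : ℤ) : (2 - x ^ 2) * (1 + x ^ 4) + (x ^ 2 - x ^ 3) * (1 + x - x ^ 2 - x ^ 3) = 2 := by
  ring

theorem G_4 (x : ℤ) : Gq B x (R 4) = 1 - x ^ 2 := by
  rw [Gq_coef B x (R 4) (G 4) (coefOK 4)]
  unfold G
  simp only [Fin.sum_univ_succ, _root_.Int.reduceNeg, _root_.Fin.isValue, _root_.Matrix.cons_val', _root_.Matrix.cons_val_fin_one, _root_.Matrix.cons_val, _root_.Matrix.cons_val_one, _root_.Matrix.cons_val_zero, _root_.Fin.coe_ofNat_eq_mod, _root_.Nat.zero_mod, _root_.pow_zero, _root_.mul_one, _root_.Matrix.cons_val_succ, _root_.Fin.val_succ, _root_.zero_add, _root_.pow_one, _root_.MulZeroClass.zero_mul, _root_.Nat.reduceAdd, _root_.neg_mul, _root_.one_mul, _root_.Finset.univ_unique, _root_.Fin.default_eq_zero, _root_.Fin.val_eq_zero, _root_.Finset.sum_const_zero, _root_.add_zero]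
  try ring

theorem bez_4 (x : ℤ) : (1) * (1 + x ^ 4) + (1 + x ^ 2) * (1 - x ^ 2) = 2 := by
  ring

theorem G_5 (x : ℤ) : Gq B x (R 5) = 1 - x ^ 3 := by
  rw [Gq_coef B x (R 5) (G 5) (coefOK 5)]
  unfold G
  simp only [Fin.sum_univ_succ, _root_.Int.reduceNeg, _root_.Fin.isValue, _root_.Matrix.cons_val', _root_.Matrix.cons_val_fin_one, _root_.Matrix.cons_val, _root_.Matrix.cons_val_one, _root_.Matrix.cons_val_zero, _root_.Fin.coe_ofNat_eq_mod, _root_.Nat.zero_mod, _root_.pow_zero, _root_.mul_one, _root_.Matrix.cons_val_succ, _root_.Fin.val_succ, _root_.zero_add, _root_.pow_one, _root_.MulZeroClass.zero_mul, _root_.Nat.reduceAdd, _root_.neg_mul, _root_.one_mul, _root_.Finset.univ_unique, _root_.Fin.default_eq_zero, _root_.Fin.val_eq_zero, _root_.Finset.sum_const_zero, _root_.add_zero]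
  try ring

theorem bez_5 (x : ℤ) : (1 - x + x ^ 2) * (1 + x ^ 4) + (1 + x - x ^ 2 + x ^ 3) * (1 - x ^ 3) = 2 := by
  ring

theorem G_6 (x : ℤ) : Gq B x (R 6) = -1 + x ^ 3 := by
  rw [Gq_coef B x (R 6) (G 6) (coefOK 6)]
  unfold G
  simp only [Fin.sum_univ_succ, _root_.Int.reduceNeg, _root_.Fin.isValue, _root_.Matrix.cons_val', _root_.Matrix.cons_val_fin_one, _root_.Matrix.cons_val, _root_.Matrix.cons_val_one, _root_.Matrix.cons_val_zero, _root_.Fin.coe_ofNat_eq_mod, _root_.Nat.zero_mod, _root_.pow_zero, _root_.mul_one, _root_.Matrix.cons_val_succ, _root_.Fin.val_succ, _root_.zero_add, _root_.pow_one, _root_.MulZeroClass.zero_mul, _root_.Nat.reduceAdd, _root_.one_mul, _root_.Finset.univ_unique, _root_.Fin.default_eq_zero, _root_.Fin.val_eq_zero, _root_.Finset.sum_const_zero, _root_.add_zero]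
  try ring

theorem bez_6 (x : ℤ) : (1 - x + x ^ 2) * (1 + x ^ 4) + (-1 - x + x ^ 2 - x ^ 3) * (-1 + x ^ 3) = 2 := by
  ring

theorem G_7 (x : ℤ) : Gq B x (R 7) = 1 - x ^ 2 - x ^ 3 := by
  rw [Gq_coef B x (R 7) (G 7) (coefOK 7)]
  unfold G
  simp only [Fin.sum_univ_succ, _root_.Int.reduceNeg, _root_.Fin.isValue, _root_.Matrix.cons_val', _root_.Matrix.cons_val_fin_one, _root_.Matrix.cons_val, _root_.Matrix.cons_val_one, _root_.Matrix.cons_val_zero, _root_.Fin.coe_ofNat_eq_mod, _root_.Nat.zero_mod, _root_.pow_zero, _root_.mul_one, _root_.Matrix.cons_val_succ, _root_.Fin.val_succ, _root_.zero_add, _root_.pow_one, _root_.MulZeroClass.zero_mul, _root_.Nat.reduceAdd, _root_.neg_mul, _root_.one_mul, _root_.Finset.univ_unique, _root_.Fin.default_eq_zero, _root_.Fin.val_eq_zero, _root_.Finset.sum_const_zero, _root_.add_zero]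
  try ring

theorem bez_7 (x : ℤ) : (x) * (1 + x ^ 4) + (1 - x + x ^ 2) * (1 - x ^ 2 - x ^ 3) = 1 := by
  ring

theorem G_8 (x : ℤ) : Gq B x (R 8) = -1 := by
  rw [Gq_coef B x (R 8) (G 8) (coefOK 8)]
  unfold G
  simp only [Fin.sum_univ_succ, _root_.Int.reduceNeg, _root_.Fin.isValue, _root_.Matrix.cons_val', _root_.Matrix.cons_val_fin_one, _root_.Matrix.cons_val, _root_.Matrix.cons_val_one, _root_.Matrix.cons_val_zero, _root_.Fin.coe_ofNat_eq_mod, _root_.Nat.zero_mod, _root_.pow_zero, _root_.mul_one, _root_.Matrix.cons_val_succ, _root_.Fin.val_succ, _root_.zero_add, _root_.pow_one, _root_.MulZeroClass.zero_mul, _root_.Nat.reduceAdd, _root_.Finset.univ_unique, _root_.Fin.default_eq_zero, _root_.Fin.val_eq_zero, _root_.Finset.sum_const_zero, _root_.add_zero]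
  try ring

theorem bez_8 (x : ℤ) : (0) * (1 + x ^ 4) + (-1) * (-1) = 1 := by
  ring

/-- Common divisors of `f(x)` and the value of `Gq` on a representative. -/
theorem dvd_of_G {x r : ℤ} (h : r ∣ 1 + x ^ 4) (s : Fin 9) (hs : r ∣ Gq B x (R s)) :
    r ∣ 1 ∨ r ∣ 2 := by
  have key : ∀ {a b g y : ℤ}, a * (1 + x ^ 4) + b * g = y → r ∣ g → r ∣ y := fun e hg => by
    rw [← e]
    exact dvd_add (h.mul_left _) (hg.mul_left _)
  fin_cases s
  · exact Or.inl (key (bez_0 x) (by rw [← G_0]; exact hs))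
  · exact Or.inl (key (bez_1 x) (by rw [← G_1]; exact hs))
  · exact Or.inr (key (bez_2 x) (by rw [← G_2]; exact hs))
  · exact Or.inr (key (bez_3 x) (by rw [← G_3]; exact hs))
  · exact Or.inr (key (bez_4 x) (by rw [← G_4]; exact hs))
  · exact Or.inr (key (bez_5 x) (by rw [← G_5]; exact hs))
  · exact Or.inr (key (bez_6 x) (by rw [← G_6]; exact hs))
  · exact Or.inl (key (bez_7 x) (by rw [← G_7]; exact hs))
  · exact Or.inl (key (bez_8 x) (by rw [← G_8]; exact hs))

end Cfsg.Agent.H941.SY.DataE6e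
end

-- part: H941/SY/Zc
section
/-!
# S3846: elements with centralizer of order prime to the characteristic, exceptional groups (helper941)
-/

set_option autoImplicit false
set_option linter.unusedSectionVars false

namespace Cfsg.Agent.H941.SY

open CoxeterSystem Cfsg Cfsg.Lie Cfsg.Lie.ChevalleyDatum
open Cfsg.Agent.ChevalleyStructure Cfsg.Agent.ChevalleyStructure.Elts Cfsg.Agent.ChevalleyStructure.CoxeterGeom
  Cfsg.Agent.ChevalleyStructure.CoxeterGeomTypes Cfsg.Agent.ChevalleyStructure.NPerm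
open Cfsg.Agent.Tits.Roots Cfsg.Agent.Tits.Core Cfsg.Agent.Nodes Cfsg.Agent.Nodes.Reps Cfsg.Agent.Nodes.BNOf
  Cfsg.Agent.Nodes.RGDChev Cfsg.Agent.Nodes.Bruhat Cfsg.Agent.Nodes.SubComb Cfsg.Agent.Nodes.Coroot
open Cfsg.Agent.H129 Cfsg.Agent.H129.TorusChar Cfsg.Agent.H129.TorusTw Cfsg.Agent.H129.WData Cfsg.Agent.H129.TorAct
  Cfsg.Agent.H129.RealT Cfsg.Agent.H129.CycT
open Cfsg.Agent.H301.SY

/-- an element of order `w` whose centralizer has order prime to `r` -/
def ZE (G : Type*) [Group G] (r w : ℕ) : Prop :=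
  ∃ z : G, orderOf z = w ∧ ¬ r ∣ Nat.card (Subgroup.centralizer ({z} : Set G))

section Abs

variable {G : Type*} [Group G]

theorem ZE.of [Finite G] {T : Subgroup G} {N w r q d : ℕ} (hT : Nat.card T ∣ N) (hN : N ∣ d * Nat.card T)
    (hw : w.Prime) (hwN : w ∣ N) (hwd : ¬ w ∣ d) (hr : r.Prime) (hrq : r ∣ q) (hqN : q.Coprime N)
    (hc : ∀ y ∈ T, orderOf y = w → Subgroup.centralizer {y} ≤ T) : ZE G r w := by
  have hwT : w ∣ Nat.card T := by
    rcases (hw.dvd_mul).1 (hwN.trans hN) with h | h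
    · exact absurd h hwd
    · exact h
  have := Fact.mk hw
  obtain ⟨y, hy⟩ := exists_prime_orderOf_dvd_card' w hwT
  have hy' : orderOf (y : G) = w := by rw [Subgroup.orderOf_coe]; exact hy
  refine ⟨y, hy', fun h => ?_⟩
  have h1 : r ∣ N := (h.trans (Subgroup.card_dvd_of_le (hc y y.2 hy'))).trans hT
  exact hr.one_lt.ne' (Nat.dvd_one.1 (hqN ▸ Nat.dvd_gcd hrq h1))

theorem Zc.of {r p : ℕ} (hp : p.Prime) (h : ∀ s : ℕ, s.Prime → s ∣ p - 1 → s ≠ r →
    ∃ w : ℕ, w.Prime ∧ w ≠ p ∧ w ≠ s ∧ ZE G r w) : Zc r p G := by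
  intro s hs hsp hsr
  obtain ⟨w, hw, h1, h2, z, hz, h3⟩ := h s hs hsp hsr
  refine ⟨z, ?_, h3, ?_⟩
  · rintro rfl
    rw [orderOf_one] at hz
    exact hw.one_lt.ne hz
  · rw [hz]
    exact Nat.Coprime.mul_right ((Nat.coprime_primes hw hp).2 h1) ((Nat.coprime_primes hw hs).2 h2)

theorem Zc.of_three {r p : ℕ} (hp : p.Prime) {w₁ w₂ w₃ : ℕ} (hw₁ : w₁.Prime) (hw₂ : w₂.Prime) (hw₃ : w₃.Prime)
    (h12 : w₁ ≠ w₂) (h13 : w₁ ≠ w₃) (h23 : w₂ ≠ w₃) (h1 : ZE G r w₁) (h2 : ZE G r w₂) (h3 : ZE G r w₃) :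
    Zc r p G := by
  refine Zc.of hp fun s hs hsp hsr => ?_
  by_cases ha : w₁ ≠ p ∧ w₁ ≠ s
  · exact ⟨w₁, hw₁, ha.1, ha.2, h1⟩
  by_cases hb : w₂ ≠ p ∧ w₂ ≠ s
  · exact ⟨w₂, hw₂, hb.1, hb.2, h2⟩
  refine ⟨w₃, hw₃, ?_, ?_, h3⟩
  · rintro rfl
    have e1 : w₁ = s := by by_contra h; exact ha ⟨h13, h⟩
    have e2 : w₂ = s := by by_contra h; exact hb ⟨h23, h⟩
    exact h12 (e1.trans e2.symm)
  · rintro rfl
    have e1 : w₁ = p := by by_contra h; exact ha ⟨h, h13⟩
    have e2 : w₂ = p := by by_contra h; exact hb ⟨h, h23⟩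
    exact h12 (e1.trans e2.symm)

theorem Zc.of_two {r p : ℕ} (hp : p.Prime) {w₁ w₂ : ℕ} (hw₁ : w₁.Prime) (hw₂ : w₂.Prime)
    (h : ∀ s : ℕ, s.Prime → s ∣ p - 1 → (w₁ ≠ p ∧ w₁ ≠ s) ∨ (w₂ ≠ p ∧ w₂ ≠ s)) (h1 : ZE G r w₁) (h2 : ZE G r w₂) :
    Zc r p G := by
  refine Zc.of hp fun s hs hsp _ => ?_
  rcases h s hs hsp with ha | ha
  · exact ⟨w₁, hw₁, ha.1, ha.2, h1⟩
  · exact ⟨w₂, hw₂, ha.1, ha.2, h2⟩

end Abs

/-! ### arithmetic -/

section Arith

variable {F : Type*} [Field F] [Fintype F] {r : ℕ} [CharP F r]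

theorem dvd_card (F : Type*) [Field F] [Fintype F] (r : ℕ) [CharP F r] : r ∣ Fintype.card F := by
  rw [← CharP.cast_eq_zero_iff F r]
  exact Nat.cast_card_eq_zero F

/-- a common prime divisor of two numbers with a Bézout relation -/
theorem ne_of_bez {w w' a b : ℕ} {u v : ℤ} (ha : w ∣ a) (hb : w' ∣ b) {c : ℕ}
    (h : u * a + v * b = c) (hc : ¬ w ∣ c) : w ≠ w' := by
  rintro rfl
  apply hc
  have h1 : (w : ℤ) ∣ c := by
    rw [← h]
    exact dvd_add (Dvd.dvd.mul_left (Int.natCast_dvd_natCast.2 ha) u) (Dvd.dvd.mul_left (Int.natCast_dvd_natCast.2 hb) v)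
  exact Int.natCast_dvd_natCast.1 h1

end Arith

/-! ### the general rows -/

universe u

section Gen

variable {D : ChevalleyDatum} {l : ℕ} {M : CoxeterMatrix (Fin l)} (hp : IsType D l M)
  {W : Type*} [Group W] (cs : CoxeterSystem M W)

include hp cs in
theorem ze_untw [Finite W] (hl : 0 < l) {F : Type u} [Field F] [Fintype F] {r : ℕ} [hr : Fact r.Prime] [CharP F r]
    {q : ℕ} (hq : Fintype.card F = q)
    {d' : ℕ} {B' : Fin l → Fin l → ℤ} (hB : InvC D l d' B') (hd' : d' ≠ 0)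
    {A : Mat l} (hA : ∀ i j, A i j = cartanOf D l i j) {L : List (Fin l × Mat l)} (hL : ChainOK A L)
    {V B : Mat l} {c : Fin l → ℤ} (hcyc : CycOK l (hd L) V B c) {m : ℕ} {R : Fin m → Fin l → ℤ} {prv dep : ℕ → ℕ}
    (hR : RootOK D l (hd L) R prv dep) {N : ℕ} (hfN : fN c (q : ℤ) = N) (hqN : q.Coprime N) {w : ℕ} (hw : w.Prime)
    (hwN : w ∣ N) (hwd : ¬ w ∣ d') (hwW : ¬ w ∣ Nat.card W) (hG : ∀ s, ¬ (w : ℤ) ∣ Gq B (q : ℤ) (R s)) :
    ZE ↥(D.group F) r w := by
  obtain ⟨T, -, h2, h3, h4, -⟩ := UntwT.untw_T hp cs hl hq hB hd' hA hL hcyc hR hfN hqN (d := d') (Or.inl rfl)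
  exact ZE.of h2 h3 hw hwN hwd hr.out (hq ▸ dvd_card F r) hqN (h4 w hw hwW hG)

end Gen

variable {F : Type u} [Field F] [Fintype F] {q r : ℕ} [hr : Fact r.Prime] [CharP F r]

/-! ### `G₂` -/

theorem ze_G2_3 (hq : Fintype.card F = q) {N : ℕ} (hN : (N : ℤ) = 1 + (q : ℤ) + (q : ℤ) ^ 2) {w : ℕ} (hw : w.Prime)
    (hwN : w ∣ N) (hw3 : w ≠ 3) : ZE ↥(chevG2.group F) r w := by
  have : Finite CoxeterMatrix.G₂.Group := Nat.finite_of_card_ne_zero (by rw [cardW_G2]; norm_num)
  exact ze_untw typeG2 CoxeterMatrix.G₂.toCoxeterSystem (by norm_num) hq TorusChar.invC_G2 one_ne_zero DataG2.hA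
    DataG2.chainOK DataG2.cycOK DataG2.rootOK (by rw [DataG2.fN_eq, hN])
    (UntwData.coprime_of_eq (a := 1 + (q : ℤ)) (by rw [hN]; ring)) hw hwN
    (fun h => hw.one_lt.ne' (Nat.dvd_one.1 h)) (good_G2_3 hN hw hwN hw3).1 (good_G2_3 hN hw hwN hw3).2

theorem ze_G2_6 (hq : Fintype.card F = q) {N : ℕ} (hN : (N : ℤ) = 1 - (q : ℤ) + (q : ℤ) ^ 2) {w : ℕ} (hw : w.Prime)
    (hwN : w ∣ N) (hw3 : w ≠ 3) : ZE ↥(chevG2.group F) r w := by
  have : Finite CoxeterMatrix.G₂.Group := Nat.finite_of_card_ne_zero (by rw [cardW_G2]; norm_num)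
  exact ze_untw typeG2 CoxeterMatrix.G₂.toCoxeterSystem (by norm_num) hq TorusChar.invC_G2 one_ne_zero DataG2h.hA
    DataG2h.chainOK DataG2h.cycOK DataG2h.rootOK (by rw [DataG2h.fN_eq, hN])
    (UntwData.coprime_of_eq (a := -1 + (q : ℤ)) (by rw [hN]; ring)) hw hwN
    (fun h => hw.one_lt.ne' (Nat.dvd_one.1 h)) (good_G2_6 hN hw hwN hw3).1 (good_G2_6 hN hw hwN hw3).2

/-! ### `F₄` -/

theorem ze_F4_12 (hq : Fintype.card F = q) {N : ℕ} (hN : (N : ℤ) = 1 - (q : ℤ) ^ 2 + (q : ℤ) ^ 4) {w : ℕ}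
    (hw : w.Prime) (hwN : w ∣ N) : ZE ↥(chevF4.group F) r w := by
  have : Finite CoxeterMatrix.F₄.Group := Nat.finite_of_card_ne_zero (by rw [cardW_F4]; norm_num)
  exact ze_untw typeF4 CoxeterMatrix.F₄.toCoxeterSystem (by norm_num) hq TorusChar.invC_F4 one_ne_zero DataF4h.hA
    DataF4h.chainOK DataF4h.cycOK DataF4h.rootOK (by rw [DataF4h.fN_eq, hN])
    (UntwData.coprime_of_eq (a := -(q : ℤ) + (q : ℤ) ^ 3) (by rw [hN]; ring)) hw hwN
    (fun h => hw.one_lt.ne' (Nat.dvd_one.1 h)) (good_F4_12 hN hw hwN).1 (good_F4_12 hN hw hwN).2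

theorem ze_F4_8 (hq : Fintype.card F = q) {N : ℕ} (hN : (N : ℤ) = 1 + (q : ℤ) ^ 4) {w : ℕ}
    (hw : w.Prime) (hwN : w ∣ N) (hw2 : w ≠ 2) : ZE ↥(chevF4.group F) r w := by
  have : Finite CoxeterMatrix.F₄.Group := Nat.finite_of_card_ne_zero (by rw [cardW_F4]; norm_num)
  exact ze_untw typeF4 CoxeterMatrix.F₄.toCoxeterSystem (by norm_num) hq TorusChar.invC_F4 one_ne_zero DataF4.hA
    DataF4.chainOK DataF4.cycOK DataF4.rootOK (by rw [DataF4.fN_eq, hN])
    (UntwData.coprime_of_eq (a := (q : ℤ) ^ 3) (by rw [hN]; ring)) hw hwN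
    (fun h => hw.one_lt.ne' (Nat.dvd_one.1 h)) (good_F4_8 hN hw hwN hw2).1 (good_F4_8 hN hw hwN hw2).2

/-! ### `E₆` -/

theorem ze_E6_9 (hq : Fintype.card F = q) {N : ℕ} (hN : (N : ℤ) = 1 + (q : ℤ) ^ 3 + (q : ℤ) ^ 6) {w : ℕ}
    (hw : w.Prime) (hwN : w ∣ N) (hw3 : w ≠ 3) : ZE ↥(chevE6.group F) r w := by
  have := TwT.finite_W6
  exact ze_untw typeE6 CoxeterMatrix.E₆.toCoxeterSystem (by norm_num) hq TorusChar.invC_E6 (by norm_num) DataE6n.hA
    DataE6n.chainOK DataE6n.cycOK DataE6n.rootOK (by rw [DataE6n.fN_eq, hN])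
    (UntwData.coprime_of_eq (a := (q : ℤ) ^ 2 + (q : ℤ) ^ 5) (by rw [hN]; ring)) hw hwN
    (fun h => hw3 ((Nat.prime_dvd_prime_iff_eq hw Nat.prime_three).1 h)) (good_E6_9 hN hw hwN hw3).1
    (good_E6_9 hN hw hwN hw3).2

theorem primes_12' {N : ℕ} (hN : (N : ℤ) = 1 - (q : ℤ) ^ 2 + (q : ℤ) ^ 4) {w : ℕ} (hwN : w ∣ N) :
    w ≠ 2 ∧ w ≠ 3 ∧ w ≠ 5 := by
  have hz : (1 - (q : ZMod w) ^ 2 + (q : ZMod w) ^ 4 = 0) := by
    have := zmod_of_dvd hN hwN
    push_cast at this
    exact this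
  refine ⟨?_, ?_, ?_⟩
  · rintro rfl
    generalize (q : ZMod 2) = x at hz; revert hz; revert x; decide
  · rintro rfl
    generalize (q : ZMod 3) = x at hz; revert hz; revert x; decide
  · rintro rfl
    generalize (q : ZMod 5) = x at hz; revert hz; revert x; decide

theorem primes_8 {N : ℕ} (hN : (N : ℤ) = 1 + (q : ℤ) ^ 4) {w : ℕ} (hwN : w ∣ N) : w ≠ 3 ∧ w ≠ 5 := by
  have hz : (1 + (q : ZMod w) ^ 4 = 0) := by
    have := zmod_of_dvd hN hwN
    push_cast at this
    exact this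
  refine ⟨?_, ?_⟩
  · rintro rfl
    generalize (q : ZMod 3) = x at hz; revert hz; revert x; decide
  · rintro rfl
    generalize (q : ZMod 5) = x at hz; revert hz; revert x; decide

/-- the torus `Φ₁₂ Φ₃` -/
theorem ze_E6_12 (hq : Fintype.card F = q) {N : ℕ} (hN : (N : ℤ) = 1 - (q : ℤ) ^ 2 + (q : ℤ) ^ 4) {w : ℕ}
    (hw : w.Prime) (hwN : w ∣ N) : ZE ↥(chevE6.group F) r w := by
  have := TwT.finite_W6
  obtain ⟨h2, h3, h5⟩ := primes_12' hN hwN
  have hM : ((N * (q ^ 2 + q + 1) : ℕ) : ℤ) = 1 + (q : ℤ) - (q : ℤ) ^ 3 + (q : ℤ) ^ 5 + (q : ℤ) ^ 6 := by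
    push_cast; rw [hN]; ring
  refine ze_untw typeE6 CoxeterMatrix.E₆.toCoxeterSystem (by norm_num) hq TorusChar.invC_E6 (by norm_num) DataE6.hA
    DataE6.chainOK DataE6.cycOK DataE6.rootOK (N := N * (q ^ 2 + q + 1)) (by rw [DataE6.fN_eq, hM])
    (UntwData.coprime_of_eq (a := 1 - (q : ℤ) ^ 2 + (q : ℤ) ^ 4 + (q : ℤ) ^ 5) (by rw [hM]; ring)) hw
    (hwN.mul_right _) (fun h => h3 ((Nat.prime_dvd_prime_iff_eq hw Nat.prime_three).1 h))
    (not_dvd_W_E6 hw h2 h3 h5) fun s hs => ?_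
  rcases DataE6.dvd_of_G (cast_dvd hN hwN) s hs with h | h
  · exact not_one hw h
  · exact not_prime hw Nat.prime_two h2 h

/-- the torus `Φ₈ (q² - 1)` -/
theorem ze_E6_8 (hq : Fintype.card F = q) {N : ℕ} (hN : (N : ℤ) = 1 + (q : ℤ) ^ 4) {w : ℕ}
    (hw : w.Prime) (hwN : w ∣ N) (hw2 : w ≠ 2) : ZE ↥(chevE6.group F) r w := by
  have := TwT.finite_W6
  obtain ⟨h3, h5⟩ := primes_8 hN hwN
  have hle : 1 ≤ q ^ 2 := Nat.one_le_pow _ _ (by rw [← hq]; exact Fintype.card_pos)
  have hM : ((N * (q ^ 2 - 1) : ℕ) : ℤ) = -1 + (q : ℤ) ^ 2 - (q : ℤ) ^ 4 + (q : ℤ) ^ 6 := by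
    push_cast [Nat.cast_sub hle]; rw [hN]; ring
  refine ze_untw typeE6 CoxeterMatrix.E₆.toCoxeterSystem (by norm_num) hq TorusChar.invC_E6 (by norm_num) DataE6e.hA
    DataE6e.chainOK DataE6e.cycOK DataE6e.rootOK (N := N * (q ^ 2 - 1)) (by rw [DataE6e.fN_eq, hM])
    (coprime_of_neg (a := (q : ℤ) - (q : ℤ) ^ 3 + (q : ℤ) ^ 5) (by rw [hM]; ring)) hw
    (hwN.mul_right _) (fun h => h3 ((Nat.prime_dvd_prime_iff_eq hw Nat.prime_three).1 h))
    (not_dvd_W_E6 hw hw2 h3 h5) fun s hs => ?_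
  rcases DataE6e.dvd_of_G (cast_dvd hN hwN) s hs with h | h
  · exact not_one hw h
  · exact not_prime hw Nat.prime_two hw2 h

/-! ### `²E₆` -/

theorem dvd_of_card_sq (hK : Fintype.card F = q ^ 2) : r ∣ q :=
  hr.out.dvd_of_dvd_pow (hK ▸ dvd_card F r)

theorem ze_tE6_18 (hq : IsPrimePow q) (hK : Fintype.card F = q ^ 2) {N : ℕ}
    (hN : (N : ℤ) = 1 - (q : ℤ) ^ 3 + (q : ℤ) ^ 6) {w : ℕ} (hw : w.Prime) (hwN : w ∣ N) (hw3 : w ≠ 3) :
    ZE ↥(twistedE6 F q) r w := by
  obtain ⟨T, -, h2, h3, h5⟩ := torus_tE6_18 hq hK hN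
  have : Finite ↥(twistedE6 F q) := inferInstance
  exact ZE.of h2 h3 hw hwN (not_dvd_gcd3 hw hw3) hr.out (dvd_of_card_sq hK)
    (UntwData.coprime_of_eq (a := -(q : ℤ) ^ 2 + (q : ℤ) ^ 5) (by rw [hN]; ring)) (h5 w hw hwN hw3)

theorem ze_tE6_12 (hq : IsPrimePow q) (hK : Fintype.card F = q ^ 2) {N : ℕ}
    (hN : (N : ℤ) = 1 - (q : ℤ) ^ 2 + (q : ℤ) ^ 4) {w : ℕ} (hw : w.Prime) (hwN : w ∣ N) :
    ZE ↥(twistedE6 F q) r w := by
  obtain ⟨h2, h3, hw5⟩ := primes_12' hN hwN
  have hle : q ≤ q ^ 2 := by nlinarith only [hq.two_le]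
  have hM : ((N * (q ^ 2 - q + 1) : ℕ) : ℤ) = 1 - (q : ℤ) + (q : ℤ) ^ 3 - (q : ℤ) ^ 5 + (q : ℤ) ^ 6 := by
    push_cast [Nat.cast_sub hle]; rw [hN]; ring
  have hco : q.Coprime (N * (q ^ 2 - q + 1)) :=
    UntwData.coprime_of_eq (a := -1 + (q : ℤ) ^ 2 - (q : ℤ) ^ 4 + (q : ℤ) ^ 5) (by rw [hM]; ring)
  obtain ⟨T, -, h1, h4, h5, -⟩ := TwT.flip_T hq hK DataTE6c.hA DataTE6c.chainOK DataTE6c.hd_pi DataTE6c.cycOK
    DataTE6c.rootOK DataTE6c.chain2OK DataTE6c.hd2_eq (N := N * (q ^ 2 - q + 1)) (by rw [DataTE6c.fN_eq, hM]) hco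
  refine ZE.of h1 h4 hw (hwN.mul_right _) (not_dvd_gcd3 hw h3) hr.out (dvd_of_card_sq hK) hco
    (h5 w hw (not_dvd_W_E6 hw h2 h3 hw5) fun s hs => ?_)
  rcases DataTE6c.dvd_of_G (cast_dvd hN hwN) s hs with h | h
  · exact not_one hw h
  · exact not_prime hw Nat.prime_two h2 h

theorem ze_tE6_8 (hq : IsPrimePow q) (hK : Fintype.card F = q ^ 2) {N : ℕ}
    (hN : (N : ℤ) = 1 + (q : ℤ) ^ 4) {w : ℕ} (hw : w.Prime) (hwN : w ∣ N) (hw2 : w ≠ 2) :
    ZE ↥(twistedE6 F q) r w := by
  obtain ⟨h3, hw5⟩ := primes_8 hN hwN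
  have hle : 1 ≤ q ^ 2 := Nat.one_le_pow _ _ hq.pos
  have hM : ((N * (q ^ 2 - 1) : ℕ) : ℤ) = -1 + (q : ℤ) ^ 2 - (q : ℤ) ^ 4 + (q : ℤ) ^ 6 := by
    push_cast [Nat.cast_sub hle]; rw [hN]; ring
  have hco : q.Coprime (N * (q ^ 2 - 1)) :=
    coprime_of_neg (a := (q : ℤ) - (q : ℤ) ^ 3 + (q : ℤ) ^ 5) (by rw [hM]; ring)
  obtain ⟨T, -, h1, h4, h5, -⟩ := TwT.flip_T hq hK DataTE6e.hA DataTE6e.chainOK DataTE6e.hd_pi DataTE6e.cycOK
    DataTE6e.rootOK DataTE6e.chain2OK DataTE6e.hd2_eq (N := N * (q ^ 2 - 1)) (by rw [DataTE6e.fN_eq, hM]) hco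
  refine ZE.of h1 h4 hw (hwN.mul_right _) (not_dvd_gcd3 hw h3) hr.out (dvd_of_card_sq hK) hco
    (h5 w hw (not_dvd_W_E6 hw hw2 h3 hw5) fun s hs => ?_)
  rcases DataTE6e.dvd_of_G (cast_dvd hN hwN) s hs with h | h
  · exact not_one hw h
  · exact not_prime hw Nat.prime_two hw2 h

end Cfsg.Agent.H941.SY
end

-- part: H941/SY/Rows
section
/-!
# S3846: the rows `E₆(q)`, `²E₆(q)` and the supply of elements for `G₂(q)`, `F₄(q)` (helper941)
-/

set_option autoImplicit false
set_option linter.unusedSectionVars false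

namespace Cfsg.Agent.H941.SY

open Cfsg Cfsg.Lie Cfsg.Lie.ChevalleyDatum Cfsg.Agent.H301.SY

/-- a prime divisor different from `c` -/
theorem exists_prime_ne {N c : ℕ} (hc : c.Prime) (h2 : ¬ c ^ 2 ∣ N) (hN : c < N) : ∃ w, w.Prime ∧ w ∣ N ∧ w ≠ c := by
  obtain ⟨k, m, hm, rfl⟩ := Nat.exists_eq_pow_mul_and_not_dvd (n := N) (by omega) c hc.ne_one
  have hk : k ≤ 1 := by
    by_contra hk
    exact h2 ((pow_dvd_pow c (by omega)).mul_right _)
  have hm1 : m ≠ 1 := by
    rintro rfl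
    rw [mul_one] at hN
    have : c ^ k ≤ c ^ 1 := Nat.pow_le_pow_right hc.pos hk
    rw [pow_one] at this
    omega
  refine ⟨m.minFac, Nat.minFac_prime hm1, (Nat.minFac_dvd m).mul_left _, ?_⟩
  intro h
  exact hm (h ▸ Nat.minFac_dvd m)

theorem not_dvd_one {w : ℕ} (hw : w.Prime) : ¬ w ∣ 1 := fun h => hw.one_lt.ne' (Nat.dvd_one.1 h)

section Zmod

open Cfsg.Agent.H129.RealT

variable {q : ℕ}

theorem exists_12 (hq2 : 2 ≤ q) : ∃ N w : ℕ, (N : ℤ) = 1 - (q : ℤ) ^ 2 + (q : ℤ) ^ 4 ∧ w.Prime ∧ w ∣ N := by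
  have hle : q ^ 2 ≤ q ^ 4 := Nat.pow_le_pow_right (by omega) (by norm_num)
  have h3 : q ^ 2 < q ^ 4 := Nat.pow_lt_pow_right (by omega) (by norm_num)
  refine ⟨q ^ 4 - q ^ 2 + 1, (q ^ 4 - q ^ 2 + 1).minFac, ?_, Nat.minFac_prime (by omega), Nat.minFac_dvd _⟩
  push_cast [Nat.cast_sub hle]
  ring

theorem exists_8 (hq2 : 2 ≤ q) : ∃ N w : ℕ, (N : ℤ) = 1 + (q : ℤ) ^ 4 ∧ w.Prime ∧ w ∣ N ∧ w ≠ 2 := by
  have hN : ((1 + q ^ 4 : ℕ) : ℤ) = 1 + (q : ℤ) ^ 4 := by push_cast; ring
  have h16 : 2 ^ 4 ≤ q ^ 4 := Nat.pow_le_pow_left hq2 4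
  obtain ⟨w, h1, h2, h3⟩ := exists_prime_ne (N := 1 + q ^ 4) Nat.prime_two (by
    intro h
    have := zmod_of_dvd hN h
    push_cast at this
    generalize (q : ZMod 4) = x at this; revert this; revert x; decide) (by omega)
  exact ⟨1 + q ^ 4, w, hN, h1, h2, h3⟩

theorem exists_9 (hq2 : 2 ≤ q) : ∃ N w : ℕ, (N : ℤ) = 1 + (q : ℤ) ^ 3 + (q : ℤ) ^ 6 ∧ w.Prime ∧ w ∣ N ∧ w ≠ 3 := by
  have hN : ((1 + q ^ 3 + q ^ 6 : ℕ) : ℤ) = 1 + (q : ℤ) ^ 3 + (q : ℤ) ^ 6 := by push_cast; ring
  have h16 : 2 ^ 3 ≤ q ^ 3 := Nat.pow_le_pow_left hq2 3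
  obtain ⟨w, h1, h2, h3⟩ := exists_prime_ne (N := 1 + q ^ 3 + q ^ 6) Nat.prime_three
    (by norm_num; exact (Cfsg.Agent.H129.CycT.primes_9 hN).1) (by omega)
  exact ⟨_, w, hN, h1, h2, h3⟩

theorem exists_18 (hq2 : 2 ≤ q) : ∃ N w : ℕ, (N : ℤ) = 1 - (q : ℤ) ^ 3 + (q : ℤ) ^ 6 ∧ w.Prime ∧ w ∣ N ∧ w ≠ 3 := by
  have hle : q ^ 3 ≤ q ^ 6 := Nat.pow_le_pow_right (by omega) (by norm_num)
  have hN : ((q ^ 6 - q ^ 3 + 1 : ℕ) : ℤ) = 1 - (q : ℤ) ^ 3 + (q : ℤ) ^ 6 := by
    push_cast [Nat.cast_sub hle]; ring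
  have h16 : 2 ^ 3 ≤ q ^ 3 := Nat.pow_le_pow_left hq2 3
  have h17 : q ^ 6 = q ^ 3 * q ^ 3 := by ring
  obtain ⟨w, h1, h2, h3⟩ := exists_prime_ne (N := q ^ 6 - q ^ 3 + 1) Nat.prime_three
    (by norm_num only []; exact (Cfsg.Agent.H129.CycT.primes_18 hN).1) (by
      have : 3 + q ^ 3 ≤ q ^ 6 := by rw [h17]; nlinarith only [h16]
      omega)
  exact ⟨_, w, hN, h1, h2, h3⟩

/-- `Φ₃`: a prime divisor at least 7 -/
theorem exists_3 (hq2 : 2 ≤ q) : ∃ N w : ℕ, (N : ℤ) = 1 + (q : ℤ) + (q : ℤ) ^ 2 ∧ w.Prime ∧ w ∣ N ∧ 7 ≤ w := by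
  have hN : ((1 + q + q ^ 2 : ℕ) : ℤ) = 1 + (q : ℤ) + (q : ℤ) ^ 2 := by push_cast; ring
  have hz : ∀ n : ℕ, n ∣ 1 + q + q ^ 2 → (1 + (q : ZMod n) + (q : ZMod n) ^ 2 = 0) := by
    intro n h
    have := zmod_of_dvd hN h
    push_cast at this
    exact this
  obtain ⟨w, h1, h2, h3⟩ := exists_prime_ne (N := 1 + q + q ^ 2) Nat.prime_three (by
    intro h
    have := hz _ h
    generalize (q : ZMod 9) = x at this; revert this; revert x; decide) (by nlinarith only [hq2])
  refine ⟨_, w, hN, h1, h2, ?_⟩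
  have h4 := hz w h2
  by_contra h5
  have h6 : w < 7 := by omega
  interval_cases w
  · exact absurd h1 (by norm_num)
  · exact absurd h1 (by norm_num)
  · generalize (q : ZMod 2) = x at h4; revert h4; revert x; decide
  · exact h3 rfl
  · exact absurd h1 (by norm_num)
  · generalize (q : ZMod 5) = x at h4; revert h4; revert x; decide
  · exact absurd h1 (by norm_num)

/-- `Φ₆`: a prime divisor at least 7 -/
theorem exists_6 (hq3 : 3 ≤ q) : ∃ N w : ℕ, (N : ℤ) = 1 - (q : ℤ) + (q : ℤ) ^ 2 ∧ w.Prime ∧ w ∣ N ∧ 7 ≤ w := by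
  have hle : q ≤ q ^ 2 := by nlinarith
  have hN : ((q ^ 2 - q + 1 : ℕ) : ℤ) = 1 - (q : ℤ) + (q : ℤ) ^ 2 := by
    push_cast [Nat.cast_sub hle]; ring
  have hz : ∀ n : ℕ, n ∣ q ^ 2 - q + 1 → (1 - (q : ZMod n) + (q : ZMod n) ^ 2 = 0) := by
    intro n h
    have := zmod_of_dvd hN h
    push_cast at this
    exact this
  obtain ⟨w, h1, h2, h3⟩ := exists_prime_ne (N := q ^ 2 - q + 1) Nat.prime_three (by
    intro h
    have := hz _ h
    generalize (q : ZMod 9) = x at this; revert this; revert x; decide) (by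
      have : 3 + q ≤ q ^ 2 := by nlinarith only [hq3]
      omega)
  refine ⟨_, w, hN, h1, h2, ?_⟩
  have h4 := hz w h2
  by_contra h5
  have h6 : w < 7 := by omega
  interval_cases w
  · exact absurd h1 (by norm_num)
  · exact absurd h1 (by norm_num)
  · generalize (q : ZMod 2) = x at h4; revert h4; revert x; decide
  · exact h3 rfl
  · exact absurd h1 (by norm_num)
  · generalize (q : ZMod 5) = x at h4; revert h4; revert x; decide
  · exact absurd h1 (by norm_num)

end Zmod

section Rows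

variable {F : Type*} [Field F] [Fintype F] {r p : ℕ} [hr : Fact r.Prime] [hp : Fact p.Prime] [CharP F r]

theorem two_le_card (F : Type*) [Field F] [Fintype F] : 2 ≤ Fintype.card F := Fintype.one_lt_card

theorem zc_E6 : Zc r p ↥(chevE6.group F) := by
  obtain ⟨N9, w9, hN9, h9, hd9, hne9⟩ := exists_9 (two_le_card F)
  obtain ⟨N12, w12, hN12, h12, hd12⟩ := exists_12 (two_le_card F)
  obtain ⟨N8, w8, hN8, h8, hd8, hne8⟩ := exists_8 (two_le_card F)
  set q := Fintype.card F with hq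
  refine Zc.of_three hp.out h9 h12 h8 ?_ ?_ ?_ (ze_E6_9 rfl hN9 h9 hd9 hne9) (ze_E6_12 rfl hN12 h12 hd12)
    (ze_E6_8 rfl hN8 h8 hd8 hne8)
  · exact ne_of_bez (u := -(q : ℤ) ^ 3) (v := 1 + (q : ℤ) ^ 2 + (q : ℤ) ^ 3 + (q : ℤ) ^ 5) (c := 1) hd9 hd12
      (by rw [hN9, hN12]; push_cast; ring) (not_dvd_one h9)
  · exact ne_of_bez (u := 1 + (q : ℤ) + (q : ℤ) ^ 2) (v := -(q : ℤ) - (q : ℤ) ^ 2 - (q : ℤ) ^ 3 - (q : ℤ) ^ 4) (c := 1)
      hd9 hd8 (by rw [hN9, hN8]; push_cast; ring) (not_dvd_one h9)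
  · exact ne_of_bez (u := (q : ℤ) ^ 2) (v := 1 - (q : ℤ) ^ 2) (c := 1) hd12 hd8
      (by rw [hN12, hN8]; push_cast; ring) (not_dvd_one h12)

theorem zc_tE6 {q : ℕ} (hq : IsPrimePow q) (hF : Fintype.card F = q ^ 2) : Zc r p ↥(twistedE6 F q) := by
  obtain ⟨N9, w9, hN9, h9, hd9, hne9⟩ := exists_18 hq.two_le
  obtain ⟨N12, w12, hN12, h12, hd12⟩ := exists_12 hq.two_le
  obtain ⟨N8, w8, hN8, h8, hd8, hne8⟩ := exists_8 hq.two_le
  refine Zc.of_three hp.out h9 h12 h8 ?_ ?_ ?_ (ze_tE6_18 hq hF hN9 h9 hd9 hne9) (ze_tE6_12 hq hF hN12 h12 hd12)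
    (ze_tE6_8 hq hF hN8 h8 hd8 hne8)
  · exact ne_of_bez (u := (q : ℤ) ^ 3) (v := 1 + (q : ℤ) ^ 2 - (q : ℤ) ^ 3 - (q : ℤ) ^ 5) (c := 1) hd9 hd12
      (by rw [hN9, hN12]; push_cast; ring) (not_dvd_one h9)
  · exact ne_of_bez (u := 1 - (q : ℤ) + (q : ℤ) ^ 2) (v := (q : ℤ) - (q : ℤ) ^ 2 + (q : ℤ) ^ 3 - (q : ℤ) ^ 4) (c := 1)
      hd9 hd8 (by rw [hN9, hN8]; push_cast; ring) (not_dvd_one h9)
  · exact ne_of_bez (u := (q : ℤ) ^ 2) (v := 1 - (q : ℤ) ^ 2) (c := 1) hd12 hd8
      (by rw [hN12, hN8]; push_cast; ring) (not_dvd_one h12)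

end Rows

/-- **the row `E₆(q)`** -/
theorem crow_e6 {K : Type*} [Group K] [Finite K] [IsSimpleGroup K] {F : Type} [Field F] [Fintype F] {r p : ℕ}
    [Fact r.Prime] [Fact p.Prime] [CharP F r] (e : Nonempty (K ≃* Cfsg.Lie.chevE6.group F)) (_hp : 5 ≤ p)
    (_hpr : p ≠ r) : Cfsg.Agent.H301.SY.CRow r p K := by
  obtain ⟨e⟩ := e
  exact CRow.congr e fun _ _ _ _ => Or.inr (Or.inr zc_E6)

/-- **the row `²E₆(q)`** -/
theorem crow_tE6 {K : Type*} [Group K] [Finite K] [IsSimpleGroup K] {F : Type} [Field F] [Fintype F] {q r p : ℕ}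
    [Fact r.Prime] [Fact p.Prime] [CharP F r] (hF : Fintype.card F = q ^ 2)
    (e : Nonempty (K ≃* Cfsg.Lie.twistedE6 F q)) (_hp : 5 ≤ p) (_hpr : p ≠ r) : Cfsg.Agent.H301.SY.CRow r p K := by
  obtain ⟨e⟩ := e
  have hq : IsPrimePow q := by
    rw [← isPrimePow_pow_iff (k := 2) (by norm_num), ← hF]
    exact FiniteField.isPrimePow_card F
  exact CRow.congr e fun _ _ _ _ => Or.inr (Or.inr (zc_tE6 hq hF))

end Cfsg.Agent.H941.SY
end

-- part: H941/SY/RowsG2F4
section
/-!
# S3846: the rows `G₂(q)` and `F₄(q)` (helper941)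

For `p > d + 1`, `d` the degree of the adjoint representation, the Hall-Higman type lemma gives `M0`; the small `p`
have the elements of `Zc`.
-/

set_option autoImplicit false
set_option linter.unusedSectionVars false

namespace Cfsg.Agent.H941.SY

open Cfsg Cfsg.Lie Cfsg.Lie.ChevalleyDatum Cfsg.Agent.H301.SY Cfsg.Agent.H459.Rad Cfsg.Agent.H459.Iface

/-- a faithful representation of degree `< p - 1` in characteristic `r` -/
theorem m0_of_repr (hh : HH) {L : Type} [Group L] [Finite L] {r p : ℕ} [hr : Fact r.Prime] [hp : Fact p.Prime]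
    (hpr : p ≠ r) {k V : Type} [Field k] [CharP k r] [AddCommGroup V] [Module k V] [FiniteDimensional k V]
    (ρ : Representation k L V) (hρ : Function.Injective ρ) (hd : Module.finrank k V + 1 < p) {x : L}
    (hx : orderOf x = p) (hP : ∀ P : Sylow p L, IsCyclic (P : Subgroup L)) (hF : ¬ FixR r (MulAut.conj x)) : M0 x := by
  refine M0.of_triv hP hx fun t ht htp R hR hxR => ?_
  have hne : ∀ s : ℕ, s.Prime → s ≠ r → (s : k) ≠ 0 := by
    intro s hs hsr h
    rw [CharP.cast_eq_zero_iff k r] at h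
    exact hsr ((Nat.prime_dvd_prime_iff_eq hr.out hs).1 h).symm
  by_cases htr : t = r
  · subst htr
    by_cases hR0 : R = ⊥
    · subst hR0
      intro a ha
      rw [Subgroup.mem_bot.1 ha, mul_one, one_mul]
    · exact absurd ⟨R, hR0, hR, fun a ha => hxR a ha⟩ hF
  · exact hh k V L ρ hρ p t hp.out ht (Ne.symm htp) (hne p hp.out hpr) (hne t ht htr) hd R hR x
      ⟨1, by rw [pow_one]; exact hx⟩ hxR

/-- the natural (adjoint) representation of a Chevalley group -/
def natRep (D : ChevalleyDatum) (F : Type*) [Field F] : Representation F ↥(D.group F) (D.Idx → F) :=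
  ((Matrix.toLinAlgEquiv' : Matrix D.Idx D.Idx F ≃ₐ[F] _).toRingEquiv.toMonoidHom.comp
    (Units.coeHom (Matrix D.Idx D.Idx F))).comp (D.group F).subtype

theorem natRep_injective (D : ChevalleyDatum) (F : Type*) [Field F] : Function.Injective (natRep D F) := by
  intro a b h
  apply Subtype.ext
  apply Units.ext
  exact (Matrix.toLinAlgEquiv' : Matrix D.Idx D.Idx F ≃ₐ[F] _).injective h

theorem crow_of_zc (hh : HH) {D : ChevalleyDatum} {F : Type} [Field F] [Fintype F] {r p : ℕ} [hr : Fact r.Prime]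
    [hp : Fact p.Prime] [CharP F r] (hpr : p ≠ r) (h : p ≤ D.rank + D.nroots + 1 → Zc r p ↥(D.group F)) :
    CRow r p ↥(D.group F) := by
  intro x hx hR hP
  by_cases hle : p ≤ D.rank + D.nroots + 1
  · exact Or.inr (Or.inr (h hle))
  by_cases hF : FixR r (MulAut.conj x)
  · exact Or.inl hF
  refine Or.inr (Or.inl (m0_of_repr hh hpr (natRep D F) (natRep_injective D F) ?_ hx hP hF))
  rw [Module.finrank_fintype_fun_eq_card, Fintype.card_sum, Fintype.card_fin, Fintype.card_fin]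
  omega

theorem small_g2 : ∀ p ∈ Finset.range 16, 5 ≤ p → Nat.Prime p → ∀ s ∈ Finset.range 16, Nat.Prime s → s ∣ p - 1 →
    s ≤ 5 := by decide +kernel

theorem small_f4 : ∀ p ∈ Finset.range 54, Nat.Prime p → ∀ s ∈ Finset.range 54, Nat.Prime s → s ∣ p - 1 →
    ¬ (p % 8 = 1 ∧ s % 12 = 1) ∧ ¬ (p % 12 = 1 ∧ s % 8 = 1) := by decide +kernel

theorem mod_8 {q w N : ℕ} (hN : (N : ℤ) = 1 + (q : ℤ) ^ 4) (hw : w.Prime) (hwN : w ∣ N) (hw2 : w ≠ 2) : w % 8 = 1 := by
  have hwF : Fact w.Prime := ⟨hw⟩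
  have hz : (1 + (q : ZMod w) ^ 4 = 0) := by
    have := Cfsg.Agent.H129.RealT.zmod_of_dvd hN hwN
    push_cast at this
    exact this
  have h4 : (q : ZMod w) ^ 4 = -1 := by linear_combination hz
  have h2 : (2 : ZMod w) ≠ 0 := by
    intro h
    have : ((2 : ℕ) : ZMod w) = 0 := by exact_mod_cast h
    rw [ZMod.natCast_eq_zero_iff] at this
    exact hw2 ((Nat.prime_dvd_prime_iff_eq hw Nat.prime_two).1 this)
  have ho : orderOf (q : ZMod w) = 2 ^ (2 + 1) := by
    apply orderOf_eq_prime_pow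
    · intro h
      apply h2
      have h' : (q : ZMod w) ^ 4 = 1 := by simpa only [_root_.Nat.reducePow] using h
      rw [h4] at h'
      linear_combination -h'
    · calc (q : ZMod w) ^ 2 ^ (2 + 1) = ((q : ZMod w) ^ 4) ^ 2 := by norm_num; ring
        _ = 1 := by rw [h4]; ring
  have hq0 : (q : ZMod w) ≠ 0 := by
    intro h
    rw [h] at hz
    norm_num at hz
  have h5 := ZMod.orderOf_dvd_card_sub_one hq0
  rw [ho] at h5
  have := hw.two_le
  omega

theorem mod_12 {q w N : ℕ} (hN : (N : ℤ) = 1 - (q : ℤ) ^ 2 + (q : ℤ) ^ 4) (hw : w.Prime) (hwN : w ∣ N) :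
    w % 12 = 1 := by
  have hwF : Fact w.Prime := ⟨hw⟩
  obtain ⟨hw2, hw3, -⟩ := primes_12' hN hwN
  have hz : (1 - (q : ZMod w) ^ 2 + (q : ZMod w) ^ 4 = 0) := by
    have := Cfsg.Agent.H129.RealT.zmod_of_dvd hN hwN
    push_cast at this
    exact this
  have h2 : (2 : ZMod w) ≠ 0 := by
    intro h
    have : ((2 : ℕ) : ZMod w) = 0 := by exact_mod_cast h
    rw [ZMod.natCast_eq_zero_iff] at this
    exact hw2 ((Nat.prime_dvd_prime_iff_eq hw Nat.prime_two).1 this)
  have h3 : (3 : ZMod w) ≠ 0 := by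
    intro h
    have : ((3 : ℕ) : ZMod w) = 0 := by exact_mod_cast h
    rw [ZMod.natCast_eq_zero_iff] at this
    exact hw3 ((Nat.prime_dvd_prime_iff_eq hw Nat.prime_three).1 this)
  have h6 : (q : ZMod w) ^ 6 = -1 := by linear_combination ((q : ZMod w) ^ 2 + 1) * hz
  have ho : orderOf (q : ZMod w) = 12 := by
    apply orderOf_eq_of_pow_and_pow_div_prime (by norm_num)
    · calc (q : ZMod w) ^ 12 = ((q : ZMod w) ^ 6) ^ 2 := by ring
        _ = 1 := by rw [h6]; ring
    · intro l hl hl12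
      have hl' : l = 2 ∨ l = 3 := by
        have : l ∣ 2 ^ 2 * 3 := hl12
        rcases (Nat.Prime.dvd_mul hl).1 this with h | h
        · left; exact (Nat.prime_dvd_prime_iff_eq hl Nat.prime_two).1 (hl.dvd_of_dvd_pow h)
        · right; exact (Nat.prime_dvd_prime_iff_eq hl Nat.prime_three).1 h
      rcases hl' with rfl | rfl
      · intro h
        apply h2
        have h' : (q : ZMod w) ^ 6 = 1 := by simpa only [_root_.Nat.reduceDiv] using h
        rw [h6] at h'
        linear_combination -h'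
      · intro h
        apply h3
        have h' : (q : ZMod w) ^ 4 = 1 := by simpa using h
        have h2' : (q : ZMod w) ^ 2 = 2 := by linear_combination -hz + h'
        have : ((q : ZMod w) ^ 2) ^ 2 = 1 := by rw [← h']; ring
        rw [h2'] at this
        linear_combination this
  have hq0 : (q : ZMod w) ≠ 0 := by
    intro h
    rw [h] at hz
    norm_num at hz
  have h5 := ZMod.orderOf_dvd_card_sub_one hq0
  rw [ho] at h5
  have := hw.two_le
  omega

/-- **the row `G₂(q)`** -/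
theorem crow_g2 (hh : Cfsg.Agent.H301.SY.HH) {K : Type*} [Group K] [Finite K] [IsSimpleGroup K] {F : Type} [Field F]
    [Fintype F] {r p : ℕ} [Fact r.Prime] [hp5 : Fact p.Prime] [CharP F r] (hF : 3 ≤ Fintype.card F)
    (e : Nonempty (K ≃* Cfsg.Lie.chevG2.group F)) (hp : 5 ≤ p) (hpr : p ≠ r) : Cfsg.Agent.H301.SY.CRow r p K := by
  obtain ⟨e⟩ := e
  refine CRow.congr e (crow_of_zc hh hpr fun hle => ?_)
  have hle' : p ≤ 15 := hle
  obtain ⟨N3, w3, hN3, h3, hd3, h37⟩ := exists_3 (two_le_card F)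
  obtain ⟨N6, w6, hN6, h6, hd6, h67⟩ := exists_6 hF
  set q := Fintype.card F with hq
  have hne : w3 ≠ w6 := by
    refine ne_of_bez (u := 1 - (q : ℤ)) (v := 1 + (q : ℤ)) (c := 2) hd3 hd6 (by rw [hN3, hN6]; push_cast; ring) ?_
    intro h
    have := Nat.le_of_dvd (by norm_num) h
    omega
  refine Zc.of_two hp5.out h3 h6 ?_ (ze_G2_3 rfl hN3 h3 hd3 (by omega)) (ze_G2_6 rfl hN6 h6 hd6 (by omega))
  intro s hs hsp
  have hs5 : s ≤ 5 := small_g2 p (Finset.mem_range.2 (by omega)) hp hp5.out s (Finset.mem_range.2 (by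
    have := Nat.le_of_dvd (by have := hp5.out.two_le; omega) hsp
    omega)) hs hsp
  by_cases h7 : w3 = p
  · right
    exact ⟨fun h8 => hne (h7.trans h8.symm), by omega⟩
  · left
    exact ⟨h7, by omega⟩

/-- **the row `F₄(q)`** -/
theorem crow_f4 (hh : Cfsg.Agent.H301.SY.HH) {K : Type*} [Group K] [Finite K] [IsSimpleGroup K] {F : Type} [Field F]
    [Fintype F] {r p : ℕ} [Fact r.Prime] [hp5 : Fact p.Prime] [CharP F r]
    (e : Nonempty (K ≃* Cfsg.Lie.chevF4.group F)) (_hp : 5 ≤ p) (hpr : p ≠ r) : Cfsg.Agent.H301.SY.CRow r p K := by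
  obtain ⟨e⟩ := e
  refine CRow.congr e (crow_of_zc hh hpr fun hle => ?_)
  have hle' : p ≤ 53 := hle
  obtain ⟨N12, w12, hN12, h12, hd12⟩ := exists_12 (two_le_card F)
  obtain ⟨N8, w8, hN8, h8, hd8, hne8⟩ := exists_8 (two_le_card F)
  have m8 := mod_8 hN8 h8 hd8 hne8
  have m12 := mod_12 hN12 h12 hd12
  set q := Fintype.card F with hq
  have hne : w12 ≠ w8 := by
    exact ne_of_bez (u := (q : ℤ) ^ 2) (v := 1 - (q : ℤ) ^ 2) (c := 1) hd12 hd8
      (by rw [hN12, hN8]; push_cast; ring) (not_dvd_one h12)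
  refine Zc.of_two hp5.out h12 h8 ?_ (ze_F4_12 rfl hN12 h12 hd12) (ze_F4_8 rfl hN8 h8 hd8 hne8)
  intro s hs hsp
  have hs54 : s < 54 := by
    have := Nat.le_of_dvd (by have := hp5.out.two_le; omega) hsp
    omega
  obtain ⟨ha, hb⟩ := small_f4 p (Finset.mem_range.2 (by omega)) hp5.out s (Finset.mem_range.2 hs54) hs hsp
  by_contra hcon
  push Not at hcon
  obtain ⟨h1, h2⟩ := hcon
  by_cases h3 : w12 = p
  · have h4 : w8 = s := h2 fun h => hne (h3.trans h.symm)
    apply hb
    rw [← h3, ← h4]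
    exact ⟨m12, m8⟩
  · have h4 : w12 = s := h1 h3
    have h5 : w8 = p := by
      by_contra h
      exact hne (h4.trans (h2 h).symm)
    apply ha
    rw [← h5, ← h4]
    exact ⟨m8, m12⟩

end Cfsg.Agent.H941.SY
end

-- part: H120/Zc/E78
section
/-!
# Rows `E₇(q)`, `E₈(q)` of S3846: semisimple elements with centralisers of order prime to the characteristic

`zc_of_three` : three elements of different prime orders are enough for `Zc`.
-/

set_option autoImplicit false
set_option linter.unusedSectionVars false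

namespace Cfsg.Agent.H120.ZcE

open CoxeterSystem Cfsg Cfsg.Lie Cfsg.Lie.ChevalleyDatum
open Cfsg.Agent.ChevalleyStructure Cfsg.Agent.ChevalleyStructure.Elts Cfsg.Agent.ChevalleyStructure.CoxeterGeom
  Cfsg.Agent.ChevalleyStructure.CoxeterGeomTypes Cfsg.Agent.ChevalleyStructure.NPerm
open Cfsg.Agent.Tits.Roots Cfsg.Agent.Tits.Core Cfsg.Agent.Nodes Cfsg.Agent.Nodes.Reps Cfsg.Agent.Nodes.BNOf
  Cfsg.Agent.Nodes.RGDChev Cfsg.Agent.Nodes.Bruhat Cfsg.Agent.Nodes.SubComb Cfsg.Agent.Nodes.Coroot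
open Cfsg.Agent.H129 Cfsg.Agent.H129.TorusChar Cfsg.Agent.H129.TorusTw Cfsg.Agent.H129.WData Cfsg.Agent.H129.TorAct
  Cfsg.Agent.H129.RealT Cfsg.Agent.H129.CycT Cfsg.Agent.H301.SY

universe u

/-! ### Abstract part -/

/-- an element of order `w` whose centralizer has order prime to `r` -/
def Elt (K : Type*) [Group K] (r w : ℕ) : Prop :=
  ∃ z : K, orderOf z = w ∧ ¬ r ∣ Nat.card (Subgroup.centralizer ({z} : Set K))

theorem zc_of_three {K : Type*} [Group K] {r p : ℕ} (hp : p.Prime) {w1 w2 w3 : ℕ} (h1 : w1.Prime) (h2 : w2.Prime)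
    (h3 : w3.Prime) (h12 : w1 ≠ w2) (h13 : w1 ≠ w3) (h23 : w2 ≠ w3) (e1 : Elt K r w1) (e2 : Elt K r w2)
    (e3 : Elt K r w3) : Zc r p K := by
  intro s hs _ _
  have key : ∀ w, w.Prime → w ≠ p → w ≠ s → Elt K r w →
      ∃ z : K, z ≠ 1 ∧ ¬ r ∣ Nat.card (Subgroup.centralizer ({z} : Set K)) ∧ (orderOf z).Coprime (p * s) := by
    rintro w hw hwp hws ⟨z, hz, hc⟩
    refine ⟨z, ?_, hc, ?_⟩
    · rintro rfl
      rw [orderOf_one] at hz
      exact hw.one_lt.ne hz
    · rw [hz]
      exact ((Nat.coprime_primes hw hp).2 hwp).mul_right ((Nat.coprime_primes hw hs).2 hws)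
  by_cases a1 : w1 = p ∨ w1 = s
  · by_cases a2 : w2 = p ∨ w2 = s
    · by_cases a3 : w3 = p ∨ w3 = s
      · exfalso
        rcases a1 with rfl | rfl <;> rcases a2 with a2 | a2 <;> rcases a3 with a3 | a3 <;> subst_vars <;> tauto
      · push Not at a3
        exact key w3 h3 a3.1 a3.2 e3
    · push Not at a2
      exact key w2 h2 a2.1 a2.2 e2
  · push Not at a1
    exact key w1 h1 a1.1 a1.2 e1

theorem elt_of_T {G : Type*} [Group G] [Finite G] {T : Subgroup G} {N w r : ℕ} (hT : Nat.card ↥T ∣ N) (hw : w.Prime)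
    (hwT : w ∣ Nat.card ↥T) (hc : ∀ y ∈ T, orderOf y = w → Subgroup.centralizer {y} ≤ T) (hr : ¬ r ∣ N) : Elt G r w := by
  have : Fact w.Prime := ⟨hw⟩
  obtain ⟨⟨z, hzT⟩, hz⟩ := exists_prime_orderOf_dvd_card' (G := ↥T) w hwT
  rw [Subgroup.orderOf_mk] at hz
  refine ⟨z, hz, fun h => hr ?_⟩
  exact h.trans ((Subgroup.card_dvd_of_le (hc z hzT hz)).trans hT)

theorem elt_of_exact {G : Type*} [Group G] [Finite G] {N w r : ℕ} (h : CycExact G N) (hw : w.Prime) (hwN : w ∣ N)
    (hr : ¬ r ∣ N) : Elt G r w := by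
  obtain ⟨T, -, h2, h3⟩ := h
  refine elt_of_T (T := T) (dvd_of_eq h2) hw (h2 ▸ hwN) (fun y hy hyw => (h3 y hy ?_).le) hr
  rintro rfl
  rw [orderOf_one] at hyw
  exact hw.one_lt.ne hyw

/-- a prime divisor different from `c` -/
theorem exists_prime_ne {N c : ℕ} (hc : c.Prime) (h1 : c < N) (h2 : ¬ c * c ∣ N) : ∃ w, w.Prime ∧ w ∣ N ∧ w ≠ c := by
  by_cases hcN : c ∣ N
  · obtain ⟨m, rfl⟩ := hcN
    have hm : m ≠ 1 := by
      rintro rfl
      omega
    refine ⟨m.minFac, Nat.minFac_prime hm, (Nat.minFac_dvd m).mul_left c, ?_⟩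
    intro h
    exact h2 (Nat.mul_dvd_mul_left c (h ▸ Nat.minFac_dvd m))
  · have hN : N ≠ 1 := by
      rintro rfl
      exact absurd hc.one_lt (by omega)
    refine ⟨N.minFac, Nat.minFac_prime hN, Nat.minFac_dvd N, ?_⟩
    intro h
    exact hcN (h ▸ Nat.minFac_dvd N)

theorem char_dvd {F : Type*} [Field F] [Fintype F] {r : ℕ} [CharP F r] {q : ℕ} (hq : Fintype.card F = q) : r ∣ q := by
  rw [← hq, ← CharP.cast_eq_zero_iff F r]
  exact Nat.cast_card_eq_zero F

theorem not_dvd_of_coprime {r q N : ℕ} (hr : r.Prime) (h : r ∣ q) (hqN : q.Coprime N) : ¬ r ∣ N := by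
  intro h1
  have h2 := Nat.dvd_gcd h h1
  rw [hqN] at h2
  exact hr.one_lt.ne' (Nat.dvd_one.1 h2)

/-! ### Distinct primes -/

section distinct

variable {q N N' w : ℕ}

theorem d_15_24 (hN : (N : ℤ) = 1 - (q : ℤ) + (q : ℤ) ^ 3 - (q : ℤ) ^ 4 + (q : ℤ) ^ 5 - (q : ℤ) ^ 7 + (q : ℤ) ^ 8)
    (hN' : (N' : ℤ) = 1 - (q : ℤ) ^ 4 + (q : ℤ) ^ 8) (hw : w.Prime) (h : w ∣ N) (h' : w ∣ N') : False := by
  have : Fact w.Prime := ⟨hw⟩
  have h1 := zmod_of_dvd hN h
  have h2 := zmod_of_dvd hN' h'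
  push_cast at h1 h2
  apply one_ne_zero (α := ZMod w)
  generalize (q : ZMod w) = x at h1 h2
  linear_combination (x - x ^ 5 - x ^ 7) * h1 + (1 - x + x ^ 2 + x ^ 5 - x ^ 6 + x ^ 7) * h2

theorem d_24_30 (hN : (N : ℤ) = 1 - (q : ℤ) ^ 4 + (q : ℤ) ^ 8)
    (hN' : (N' : ℤ) = 1 + (q : ℤ) - (q : ℤ) ^ 3 - (q : ℤ) ^ 4 - (q : ℤ) ^ 5 + (q : ℤ) ^ 7 + (q : ℤ) ^ 8)
    (hw : w.Prime) (h : w ∣ N) (h' : w ∣ N') : False := by
  have : Fact w.Prime := ⟨hw⟩
  have h1 := zmod_of_dvd hN h
  have h2 := zmod_of_dvd hN' h'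
  push_cast at h1 h2
  apply one_ne_zero (α := ZMod w)
  generalize (q : ZMod w) = x at h1 h2
  linear_combination (1 + x + x ^ 2 - x ^ 5 - x ^ 6 - x ^ 7) * h1 + (-x + x ^ 5 + x ^ 7) * h2

theorem two_ne {w : ℕ} (hw : w.Prime) (h2 : w ≠ 2) : (2 : ZMod w) ≠ 0 := by
  intro h
  have h1 : ((2 : ℕ) : ZMod w) = 0 := by exact_mod_cast h
  rw [ZMod.natCast_eq_zero_iff] at h1
  exact h2 ((Nat.prime_dvd_prime_iff_eq hw Nat.prime_two).1 h1)

theorem d_15_30 (hN : (N : ℤ) = 1 - (q : ℤ) + (q : ℤ) ^ 3 - (q : ℤ) ^ 4 + (q : ℤ) ^ 5 - (q : ℤ) ^ 7 + (q : ℤ) ^ 8)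
    (hN' : (N' : ℤ) = 1 + (q : ℤ) - (q : ℤ) ^ 3 - (q : ℤ) ^ 4 - (q : ℤ) ^ 5 + (q : ℤ) ^ 7 + (q : ℤ) ^ 8)
    (hw : w.Prime) (hw2 : w ≠ 2) (h : w ∣ N) (h' : w ∣ N') : False := by
  have : Fact w.Prime := ⟨hw⟩
  have h1 := zmod_of_dvd hN h
  have h2 := zmod_of_dvd hN' h'
  push_cast at h1 h2
  apply two_ne hw hw2
  generalize (q : ZMod w) = x at h1 h2
  linear_combination (1 + x + x ^ 2 - x ^ 5 - x ^ 6 - x ^ 7) * h1 + (1 - x + x ^ 2 + x ^ 5 - x ^ 6 + x ^ 7) * h2

theorem d_7_9 (hN : (N : ℤ) = 1 + (q : ℤ) + (q : ℤ) ^ 2 + (q : ℤ) ^ 3 + (q : ℤ) ^ 4 + (q : ℤ) ^ 5 + (q : ℤ) ^ 6)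
    (hN' : (N' : ℤ) = 1 + (q : ℤ) ^ 3 + (q : ℤ) ^ 6) (hw : w.Prime) (h : w ∣ N) (h' : w ∣ N') : False := by
  have : Fact w.Prime := ⟨hw⟩
  have h1 := zmod_of_dvd hN h
  have h2 := zmod_of_dvd hN' h'
  push_cast at h1 h2
  apply one_ne_zero (α := ZMod w)
  generalize (q : ZMod w) = x at h1 h2
  linear_combination (1 - x + x ^ 3 - x ^ 4 + x ^ 5) * h1 + (-x ^ 3 - x ^ 5) * h2

theorem d_7_18 (hN : (N : ℤ) = 1 + (q : ℤ) + (q : ℤ) ^ 2 + (q : ℤ) ^ 3 + (q : ℤ) ^ 4 + (q : ℤ) ^ 5 + (q : ℤ) ^ 6)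
    (hN' : (N' : ℤ) = 1 - (q : ℤ) ^ 3 + (q : ℤ) ^ 6) (hw : w.Prime) (h : w ∣ N) (h' : w ∣ N') : False := by
  have : Fact w.Prime := ⟨hw⟩
  have h1 := zmod_of_dvd hN h
  have h2 := zmod_of_dvd hN' h'
  push_cast at h1 h2
  apply one_ne_zero (α := ZMod w)
  generalize (q : ZMod w) = x at h1 h2
  linear_combination (-1 - x + 2 * x ^ 2 + x ^ 3 - x ^ 4 - x ^ 5) * h1 + (2 + 2 * x + x ^ 3 + 2 * x ^ 4 + x ^ 5) * h2

theorem d_9_18 (hN : (N : ℤ) = 1 + (q : ℤ) ^ 3 + (q : ℤ) ^ 6) (hN' : (N' : ℤ) = 1 - (q : ℤ) ^ 3 + (q : ℤ) ^ 6)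
    (hw : w.Prime) (hw2 : w ≠ 2) (h : w ∣ N) (h' : w ∣ N') : False := by
  have : Fact w.Prime := ⟨hw⟩
  have h1 := zmod_of_dvd hN h
  have h2 := zmod_of_dvd hN' h'
  push_cast at h1 h2
  apply two_ne hw hw2
  generalize (q : ZMod w) = x at h1 h2
  linear_combination (1 - x ^ 3) * h1 + (1 + x ^ 3) * h2

end distinct

section

variable {F : Type u} [Field F] [Fintype F] {q r : ℕ} [hr : Fact r.Prime] [CharP F r]

/-! ### `E₈` -/

theorem zc_e8 (hq : Fintype.card F = q) {p : ℕ} (hp : p.Prime) : Zc r p ↥(chevE8.group F) := by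
  have hq2 : 2 ≤ q := by rw [← hq]; exact Fintype.one_lt_card
  have hrq : r ∣ q := char_dvd (F := F) hq
  obtain ⟨k, hk⟩ := Nat.exists_eq_add_of_le hq2
  obtain ⟨N1, hN1⟩ : ∃ N : ℕ, N = 151 + 635 * k + 1182 * k ^ 2 + 1265 * k ^ 3 + 849 * k ^ 4 + 365 * k ^ 5 + 98 * k ^ 6 +
    15 * k ^ 7 + k ^ 8 := ⟨_, rfl⟩
  obtain ⟨N2, hN2⟩ : ∃ N : ℕ, N = 241 + 992 * k + 1768 * k ^ 2 + 1784 * k ^ 3 + 1119 * k ^ 4 + 448 * k ^ 5 + 112 * k ^ 6 +
    16 * k ^ 7 + k ^ 8 := ⟨_, rfl⟩
  obtain ⟨N3, hN3⟩ : ∃ N : ℕ, N = 331 + 1349 * k + 2354 * k ^ 2 + 2303 * k ^ 3 + 1389 * k ^ 4 + 531 * k ^ 5 + 126 * k ^ 6 +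
    17 * k ^ 7 + k ^ 8 := ⟨_, rfl⟩
  have e1 : (N1 : ℤ) = 1 - (q : ℤ) + (q : ℤ) ^ 3 - (q : ℤ) ^ 4 + (q : ℤ) ^ 5 - (q : ℤ) ^ 7 + (q : ℤ) ^ 8 := by
    rw [hN1, hk]; push_cast; ring
  have e2 : (N2 : ℤ) = 1 - (q : ℤ) ^ 4 + (q : ℤ) ^ 8 := by rw [hN2, hk]; push_cast; ring
  have e3 : (N3 : ℤ) = 1 + (q : ℤ) - (q : ℤ) ^ 3 - (q : ℤ) ^ 4 - (q : ℤ) ^ 5 + (q : ℤ) ^ 7 + (q : ℤ) ^ 8 := by
    rw [hN3, hk]; push_cast; ring
  have n1 : N1 ≠ 1 := by (clear * - hN1; omega)
  have n2 : N2 ≠ 1 := by (clear * - hN2; omega)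
  have n3 : N3 ≠ 1 := by (clear * - hk hN3; omega)
  have r1 : ¬ r ∣ N1 := not_dvd_of_coprime hr.out hrq
    (UntwData.coprime_of_eq (a := -1 + (q : ℤ) ^ 2 - (q : ℤ) ^ 3 + (q : ℤ) ^ 4 - (q : ℤ) ^ 6 + (q : ℤ) ^ 7)
      (by rw [e1]; ring))
  have r2 : ¬ r ∣ N2 := not_dvd_of_coprime hr.out hrq
    (UntwData.coprime_of_eq (a := -(q : ℤ) ^ 3 + (q : ℤ) ^ 7) (by rw [e2]; ring))
  have r3 : ¬ r ∣ N3 := not_dvd_of_coprime hr.out hrq
    (UntwData.coprime_of_eq (a := 1 - (q : ℤ) ^ 2 - (q : ℤ) ^ 3 - (q : ℤ) ^ 4 + (q : ℤ) ^ 6 + (q : ℤ) ^ 7)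
      (by rw [e3]; ring))
  have p1 := Nat.minFac_prime n1
  have p2 := Nat.minFac_prime n2
  have p3 := Nat.minFac_prime n3
  have w2 : N1.minFac ≠ 2 := fun h => by
    have h2 : ¬ 2 ∣ Nat.card CoxeterMatrix.E₈.Group := (good_E8_15 e1 Nat.prime_two (h ▸ Nat.minFac_dvd N1)).1
    apply h2
    rw [Cfsg.Agent.H129.CycT.cardW_E8]
    norm_num
  refine zc_of_three hp p1 p2 p3 (fun h => ?_) (fun h => ?_) (fun h => ?_)
    (elt_of_exact (exact_E8_15 hq e1) p1 (Nat.minFac_dvd _) r1)
    (elt_of_exact (exact_E8_24 hq e2) p2 (Nat.minFac_dvd _) r2)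
    (elt_of_exact (exact_E8_30 hq e3) p3 (Nat.minFac_dvd _) r3)
  · exact d_15_24 e1 e2 p1 (Nat.minFac_dvd _) (h ▸ Nat.minFac_dvd _)
  · exact d_15_30 e1 e3 p1 w2 (Nat.minFac_dvd _) (h ▸ Nat.minFac_dvd _)
  · exact d_24_30 e2 e3 p2 (Nat.minFac_dvd _) (h ▸ Nat.minFac_dvd _)

/-! ### `E₇` -/

theorem primes_18 {N : ℕ} (hN : (N : ℤ) = 1 - (q : ℤ) ^ 3 + (q : ℤ) ^ 6) {w : ℕ} (hwN : w ∣ N) :
    w ≠ 2 ∧ w ≠ 5 ∧ w ≠ 7 := by
  have hz : ∀ n : ℕ, n ∣ N → (1 - (q : ZMod n) ^ 3 + (q : ZMod n) ^ 6 = 0) := by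
    intro n h
    have := zmod_of_dvd hN h
    push_cast at this
    exact this
  refine ⟨?_, ?_, ?_⟩
  · rintro rfl
    have h3 := hz 2 hwN
    generalize (q : ZMod 2) = x at h3; revert h3; revert x; decide
  · rintro rfl
    have h3 := hz 5 hwN
    generalize (q : ZMod 5) = x at h3; revert h3; revert x; decide
  · rintro rfl
    have h3 := hz 7 hwN
    generalize (q : ZMod 7) = x at h3; revert h3; revert x; decide

theorem not_nine_18 {N : ℕ} (hN : (N : ℤ) = 1 - (q : ℤ) ^ 3 + (q : ℤ) ^ 6) : ¬ 3 * 3 ∣ N := by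
  intro h
  have h3 := zmod_of_dvd hN h
  push_cast at h3
  have h4 : ∀ x : ZMod 9, 1 - x ^ 3 + x ^ 6 ≠ 0 := by decide
  exact h4 _ h3

theorem not_nine_9 {N : ℕ} (hN : (N : ℤ) = 1 + (q : ℤ) ^ 3 + (q : ℤ) ^ 6) : ¬ 3 * 3 ∣ N := by
  intro h
  have h3 := zmod_of_dvd hN h
  push_cast at h3
  have h4 : ∀ x : ZMod 9, 1 + x ^ 3 + x ^ 6 ≠ 0 := by decide
  exact h4 _ h3

theorem not_49_7 {N : ℕ} (hN : (N : ℤ) = 1 + (q : ℤ) + (q : ℤ) ^ 2 + (q : ℤ) ^ 3 + (q : ℤ) ^ 4 + (q : ℤ) ^ 5 +
    (q : ℤ) ^ 6) : ¬ 7 * 7 ∣ N := by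
  intro h
  have h3 := zmod_of_dvd hN h
  push_cast at h3
  have h4 : ∀ x : ZMod 49, 1 + x + x ^ 2 + x ^ 3 + x ^ 4 + x ^ 5 + x ^ 6 ≠ 0 := by decide +kernel
  exact h4 _ h3

theorem good_E7_18 {N : ℕ} (hN : (N : ℤ) = 1 - (q : ℤ) ^ 3 + (q : ℤ) ^ 6) {w : ℕ} (hw : w.Prime) (hwN : w ∣ N)
    (hw3 : w ≠ 3) :
    ¬ w ∣ Nat.card CoxeterMatrix.E₇.Group ∧ ∀ s, ¬ (w : ℤ) ∣ Gq DataE7h.B (q : ℤ) (DataE7h.R s) := by
  obtain ⟨h2, h5, h7⟩ := primes_18 hN hwN
  refine ⟨not_dvd_W7 hw h2 hw3 h5 h7, fun s hs => ?_⟩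
  rcases DataE7h.dvd_of_G (cast_dvd hN hwN) s hs with h | h
  · exact not_one hw h
  · exact not_prime hw Nat.prime_three hw3 h

theorem fN_18 {N : ℕ} (hN : (N : ℤ) = 1 - (q : ℤ) ^ 3 + (q : ℤ) ^ 6) :
    fN DataE7h.c (q : ℤ) = (((q + 1) * N : ℕ) : ℤ) ∧ q.Coprime ((q + 1) * N) := by
  have h1 : (((q + 1) * N : ℕ) : ℤ) = 1 + (q : ℤ) - (q : ℤ) ^ 3 - (q : ℤ) ^ 4 + (q : ℤ) ^ 6 + (q : ℤ) ^ 7 := by
    push_cast
    rw [hN]; ring
  exact ⟨by rw [DataE7h.fN_eq, h1],
    UntwData.coprime_of_eq (a := 1 - (q : ℤ) ^ 2 - (q : ℤ) ^ 3 + (q : ℤ) ^ 5 + (q : ℤ) ^ 6) (by rw [h1]; ring)⟩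

theorem dvd_two_mul {w a b c : ℕ} (hw : w.Prime) (hw2 : w ≠ 2) (hwb : w ∣ b) (h : c * b ∣ 2 * a) : w ∣ a := by
  have h1 : w ∣ 2 * a := (hwb.mul_left c).trans h
  rcases (Nat.Prime.dvd_mul hw).1 h1 with h2 | h2
  · exact absurd ((Nat.prime_dvd_prime_iff_eq hw Nat.prime_two).1 h2) hw2
  · exact h2

theorem zc_e7 (hq : Fintype.card F = q) {p : ℕ} (hp : p.Prime) : Zc r p ↥(chevE7.group F) := by
  have := finite_W7
  have hq2 : 2 ≤ q := by rw [← hq]; exact Fintype.one_lt_card
  have hrq : r ∣ q := char_dvd (F := F) hq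
  obtain ⟨k, hk⟩ := Nat.exists_eq_add_of_le hq2
  obtain ⟨N1, hN1⟩ : ∃ N : ℕ, N = 127 + 321 * k + 351 * k ^ 2 + 209 * k ^ 3 + 71 * k ^ 4 + 13 * k ^ 5 + k ^ 6 := ⟨_, rfl⟩
  obtain ⟨N2, hN2⟩ : ∃ N : ℕ, N = 73 + 204 * k + 246 * k ^ 2 + 161 * k ^ 3 + 60 * k ^ 4 + 12 * k ^ 5 + k ^ 6 := ⟨_, rfl⟩
  obtain ⟨N3, hN3⟩ : ∃ N : ℕ, N = 57 + 180 * k + 234 * k ^ 2 + 159 * k ^ 3 + 60 * k ^ 4 + 12 * k ^ 5 + k ^ 6 := ⟨_, rfl⟩
  have e1 : (N1 : ℤ) = 1 + (q : ℤ) + (q : ℤ) ^ 2 + (q : ℤ) ^ 3 + (q : ℤ) ^ 4 + (q : ℤ) ^ 5 + (q : ℤ) ^ 6 := by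
    rw [hN1, hk]; push_cast; ring
  have e2 : (N2 : ℤ) = 1 + (q : ℤ) ^ 3 + (q : ℤ) ^ 6 := by rw [hN2, hk]; push_cast; ring
  have e3 : (N3 : ℤ) = 1 - (q : ℤ) ^ 3 + (q : ℤ) ^ 6 := by rw [hN3, hk]; push_cast; ring
  obtain ⟨w1, p1, d1, c1⟩ := exists_prime_ne (N := N1) (by norm_num : (7 : ℕ).Prime) (by (clear * - hN1; omega)) (not_49_7 e1)
  obtain ⟨w2, p2, d2, c2⟩ := exists_prime_ne (N := N2) Nat.prime_three (by (clear * - hN2; omega)) (not_nine_9 e2)
  obtain ⟨w3, p3, d3, c3⟩ := exists_prime_ne (N := N3) Nat.prime_three (by (clear * - hN3; omega)) (not_nine_18 e3)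
  have t1 : w1 ≠ 2 := (primes_7 e1 d1).1
  have t2 : w2 ≠ 2 := ((primes_9 e2).2 d2).1
  have t3 : w3 ≠ 2 := (primes_18 e3 d3).1
  obtain ⟨f1, g1⟩ := fN_7 hq2 e1
  obtain ⟨f2, g2⟩ := fN_9 hq2 e2
  obtain ⟨f3, g3⟩ := fN_18 e3
  obtain ⟨T1, -, a1, b1, m1, -⟩ := UntwT.untw_T typeE7 CoxeterMatrix.E₇.toCoxeterSystem (by norm_num) hq
    TorusChar.invC_E7 (by norm_num) DataE7s.hA DataE7s.chainOK DataE7s.cycOK DataE7s.rootOK f1 g1 (d := 2) (Or.inl rfl)
  obtain ⟨T2, -, a2, b2, m2, -⟩ := UntwT.untw_T typeE7 CoxeterMatrix.E₇.toCoxeterSystem (by norm_num) hq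
    TorusChar.invC_E7 (by norm_num) DataE7n.hA DataE7n.chainOK DataE7n.cycOK DataE7n.rootOK f2 g2 (d := 2) (Or.inl rfl)
  obtain ⟨T3, -, a3, b3, m3, -⟩ := UntwT.untw_T typeE7 CoxeterMatrix.E₇.toCoxeterSystem (by norm_num) hq
    TorusChar.invC_E7 (by norm_num) DataE7h.hA DataE7h.chainOK DataE7h.cycOK DataE7h.rootOK f3 g3 (d := 2) (Or.inl rfl)
  refine zc_of_three hp p1 p2 p3 (fun h => ?_) (fun h => ?_) (fun h => ?_)
    (elt_of_T a1 p1 (dvd_two_mul p1 t1 d1 b1) (m1 w1 p1 (good_E7_7 e1 p1 d1 c1).1 (good_E7_7 e1 p1 d1 c1).2)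
      (not_dvd_of_coprime hr.out hrq g1))
    (elt_of_T a2 p2 (dvd_two_mul p2 t2 d2 b2) (m2 w2 p2 (good_E7_9 e2 p2 d2 c2).1 (good_E7_9 e2 p2 d2 c2).2)
      (not_dvd_of_coprime hr.out hrq g2))
    (elt_of_T a3 p3 (dvd_two_mul p3 t3 d3 b3) (m3 w3 p3 (good_E7_18 e3 p3 d3 c3).1 (good_E7_18 e3 p3 d3 c3).2)
      (not_dvd_of_coprime hr.out hrq g3))
  · exact d_7_9 e1 e2 p1 d1 (h ▸ d2)
  · exact d_7_18 e1 e3 p1 d1 (h ▸ d3)
  · exact d_9_18 e2 e3 p2 t2 d2 (h ▸ d3)

end

/-! ### The rows -/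

section rows

variable {K : Type*} [Group K] [Finite K] [IsSimpleGroup K] {F : Type} [Field F] [Fintype F] {r p : ℕ}
  [Fact r.Prime] [hp' : Fact p.Prime] [CharP F r]

/-- **`E₇(q)`** -/
theorem crow_e7 (e : Nonempty (K ≃* Cfsg.Lie.chevE7.group F)) (_hp : 5 ≤ p) (_hpr : p ≠ r) :
    Cfsg.Agent.H301.SY.CRow r p K := by
  obtain ⟨e⟩ := e
  intro x _ _ _
  exact Or.inr (Or.inr ((zc_e7 (F := F) rfl hp'.out).congr e))

/-- **`E₈(q)`** -/
theorem crow_e8 (e : Nonempty (K ≃* Cfsg.Lie.chevE8.group F)) (_hp : 5 ≤ p) (_hpr : p ≠ r) :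
    Cfsg.Agent.H301.SY.CRow r p K := by
  obtain ⟨e⟩ := e
  intro x _ _ _
  exact Or.inr (Or.inr ((zc_e8 (F := F) rfl hp'.out).congr e))

end rows

end Cfsg.Agent.H120.ZcE
end

-- part: H306/SY/Split
section
/-!
# The exponent of the Sylow `p`-subgroups of `³D₄(q)`, `p ≥ 5` (helper306)

* `pow_split` : a subgroup `H` of index prime to `p` with `h ^ m = 1` for all `h ∈ H`: each `p`-element has `g ^ m = 1`;
* `D4_pow` : `p`-elements of `D₄(q)`, `q ≡ 1 mod p`, `p ≥ 5`, have order dividing `q - 1`;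
* `tw_pow` : `p`-elements of `³D₄(q)`, `p ∣ q⁶ - 1`, `p ≥ 5`, have order dividing `q⁶ - 1`;
* `not_cyclic` : the Sylow `5`- and `7`-subgroups of `³D₄(q)` are not cyclic.
-/

set_option autoImplicit false
set_option linter.style.haveILetI false

namespace Cfsg.Agent.H306.SY

open Cfsg Cfsg.Lie Cfsg.Lie.ChevalleyDatum Subgroup

universe u

/-- Elements of order a power of `p`, if a subgroup of index prime to `p` has exponent dividing `m`. -/
theorem pow_split {G : Type*} [Group G] [Finite G] {p m : ℕ} [hp : Fact p.Prime] (H : Subgroup G)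
    (hi : ¬ p ∣ H.index) (hH : ∀ h ∈ H, h ^ m = 1) {g : G} (hg : ∃ k : ℕ, orderOf g = p ^ k) : g ^ m = 1 := by
  obtain ⟨k, hk⟩ := hg
  have h1 : IsPGroup p (zpowers g) := IsPGroup.of_card (n := k) (by rw [Nat.card_zpowers, hk])
  obtain ⟨P, hP⟩ := h1.exists_le_sylow
  -- a Sylow subgroup in `H`
  obtain ⟨Q0⟩ : Nonempty (Sylow p H) := inferInstance
  have hQ0 : IsPGroup p ((Q0 : Subgroup H).map H.subtype) := Q0.isPGroup'.map _
  obtain ⟨Q, hQ⟩ := hQ0.exists_le_sylow
  have hQe : (Q0 : Subgroup H).map H.subtype = (Q : Subgroup G) := by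
    refine Subgroup.eq_of_le_of_card_ge hQ (le_of_eq ?_)
    rw [Nat.card_congr ((Q0 : Subgroup H).equivMapOfInjective H.subtype H.subtype_injective).toEquiv.symm]
    have e1 := Q.card_eq_multiplicity
    have e2 := Q0.card_eq_multiplicity
    rw [e1, e2, ← H.card_mul_index, Nat.factorization_mul Nat.card_pos.ne'
      Subgroup.index_ne_zero_of_finite, Finsupp.add_apply, Nat.factorization_eq_zero_of_not_dvd hi, add_zero]
  obtain ⟨c, rfl⟩ := MulAction.exists_smul_eq G Q P
  have h2 : g ∈ ((c • Q : Sylow p G) : Subgroup G) := hP (mem_zpowers g)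
  rw [Sylow.coe_subgroup_smul] at h2
  obtain ⟨y, hy, h3⟩ := h2
  have h4 : y ∈ H := by
    have h5 : y ∈ (Q0 : Subgroup H).map H.subtype := by rw [hQe]; exact hy
    obtain ⟨z, -, rfl⟩ := h5
    exact z.2
  have h5 : c * y * c⁻¹ = g := h3
  rw [← h5, conj_pow, hH y h4, mul_one, mul_inv_cancel]

section

variable {F : Type u} [Field F] [Fintype F]

theorem diag_pow {D : ChevalleyDatum} (hD : D ∈ [chevG2, chevB2, chevD4, chevF4, chevE6, chevE7, chevE8])
    {g : GL D.Idx F} (hg : g ∈ D.diagonalSubgroup F) : g ^ (Fintype.card F - 1) = 1 := by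
  obtain ⟨χ, h⟩ := ChevalleyStructure.HMatDiagAll.diagonalSubgroup_le_torus hD hg
  have hdet : IsUnit (Matrix.det (g : Matrix D.Idx D.Idx F)) := (Matrix.isUnit_iff_isUnit_det _).1 g.isUnit
  rw [h, Matrix.det_diagonal] at hdet
  refine Units.ext ?_
  rw [Units.val_pow_eq_pow_val, h, Matrix.diagonal_pow, Units.val_one, ← Matrix.diagonal_one]
  congr 1
  funext i
  rw [Pi.pow_apply]
  refine FiniteField.pow_card_sub_one_eq_one _ ?_
  intro h0
  exact hdet.ne_zero (Finset.prod_eq_zero (Finset.mem_univ i) h0)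


theorem inListD4 : chevD4 ∈ [chevG2, chevB2, chevD4, chevF4, chevE6, chevE7, chevE8] := by simp

/-- **`p`-elements of `D₄(q)`**, `p ≥ 5` dividing `q - 1`. -/
theorem D4_pow {p q : ℕ} [hp : Fact p.Prime] (hp5 : 5 ≤ p) (hq : Fintype.card F = q) (hpq : p ∣ q - 1)
    {g : ↥(chevD4.group F)} (hg : ∃ k : ℕ, orderOf g = p ^ k) : g ^ (q - 1) = 1 := by
  have hq1 : 1 < q := by rw [← hq]; exact Fintype.one_lt_card
  have hle : chevD4.diagonalSubgroup F ≤ chevD4.group F := ChevalleyStructure.Elts.diagonal_le_group inListD4 F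
  set H : Subgroup ↥(chevD4.group F) := (chevD4.diagonalSubgroup F).subgroupOf (chevD4.group F) with hH
  refine pow_split H ?_ ?_ hg
  · have h1 := S1061.result (F := F) hq
    have h2 := S1035.result (F := F) hq (chevD4, Nat.gcd 2 (q - 1) ^ 2) (by simp only [_root_.List.mem_cons, _root_.Prod.mk.injEq, _root_.pow_eq_one_iff, _root_.Nat.coprime_two_left, _root_.OfNat.ofNat_ne_zero, _root_.or_false, _root_.List.not_mem_nil, _root_.or_true])
    have h2' : Nat.gcd 2 (q - 1) ^ 2 * Nat.card ↥(chevD4.diagonalSubgroup F) = (q - 1) ^ 4 := h2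
    have h3 : Nat.card H = Nat.card ↥(chevD4.diagonalSubgroup F) :=
      Nat.card_congr (Subgroup.subgroupOfEquivOfLe hle).toEquiv
    have h4 := H.card_mul_index
    rw [h3] at h4
    -- the index
    have hd0 : 0 < Nat.gcd 2 (q - 1) ^ 2 := Nat.pow_pos (Nat.gcd_pos_of_pos_left _ (by norm_num))
    have hq0 : 0 < q - 1 := by omega
    have e2 : q ^ 2 - 1 = (q - 1) * (q + 1) := by
      zify [Nat.one_le_pow 2 q (by omega), hq1.le]; ring
    have e4 : q ^ 4 - 1 = (q - 1) * ((q + 1) * (q ^ 2 + 1)) := by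
      zify [Nat.one_le_pow 4 q (by omega), hq1.le]; ring
    have e6 : q ^ 6 - 1 = (q - 1) * (1 + q + q ^ 2 + q ^ 3 + q ^ 4 + q ^ 5) := by
      zify [Nat.one_le_pow 6 q (by omega), hq1.le]; ring
    have h5 : H.index = q ^ 12 * (q + 1) * ((q + 1) * (q ^ 2 + 1)) * ((q + 1) * (q ^ 2 + 1)) *
        (1 + q + q ^ 2 + q ^ 3 + q ^ 4 + q ^ 5) := by
      have h6 : (q - 1) ^ 4 * H.index = (q - 1) ^ 4 * (q ^ 12 * (q + 1) * ((q + 1) * (q ^ 2 + 1)) *
          ((q + 1) * (q ^ 2 + 1)) * (1 + q + q ^ 2 + q ^ 3 + q ^ 4 + q ^ 5)) := by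
        rw [← h2', mul_assoc (Nat.gcd 2 (q - 1) ^ 2), h4, h1, h2', e2, e4, e6]
        ring
      exact Nat.eq_of_mul_eq_mul_left (Nat.pow_pos hq0) h6
    rw [h5]
    -- modulo `p`
    have hz : ((q : ℕ) : ZMod p) = 1 := by
      have h6 : ((q - 1 : ℕ) : ZMod p) = 0 := (ZMod.natCast_eq_zero_iff _ _).2 hpq
      rw [Nat.cast_sub hq1.le, Nat.cast_one, sub_eq_zero] at h6
      exact h6
    rw [← ZMod.natCast_eq_zero_iff]
    push_cast
    rw [hz]
    have h7 : ((1 : ZMod p) ^ 12 * (1 + 1) * ((1 + 1) * (1 ^ 2 + 1)) * ((1 + 1) * (1 ^ 2 + 1)) *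
        (1 + 1 + 1 ^ 2 + 1 ^ 3 + 1 ^ 4 + 1 ^ 5)) = ((192 : ℕ) : ZMod p) := by push_cast; norm_num
    rw [h7, ZMod.natCast_eq_zero_iff]
    have h8 : (192 : ℕ) = 2 ^ 6 * 3 := by norm_num
    rw [h8]
    intro h9
    rcases (Nat.Prime.dvd_mul hp.out).1 h9 with h9 | h9
    · have := (Nat.prime_dvd_prime_iff_eq hp.out Nat.prime_two).1 (hp.out.dvd_of_dvd_pow h9)
      omega
    · have := (Nat.prime_dvd_prime_iff_eq hp.out Nat.prime_three).1 h9
      omega
  · intro h hh
    have h1 : (h : GL chevD4.Idx F) ∈ chevD4.diagonalSubgroup F := Subgroup.mem_subgroupOf.1 hh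
    have h2 := diag_pow inListD4 h1
    rw [hq] at h2
    exact Subtype.ext h2

end

/-- a quadratic extension -/
theorem exists_quadratic (F : Type) [Field F] [Fintype F] : ∃ (E : Type) (_ : Field E) (_ : Fintype E) (_ : F →+* E),
    Fintype.card E = Fintype.card F ^ 2 := by
  obtain ⟨p, hp⟩ := CharP.exists F
  haveI : Fact p.Prime := ⟨CharP.char_is_prime F p⟩
  have h := FiniteField.natCard_extension F p 2
  haveI : Finite (FiniteField.Extension F p 2) := inferInstance
  haveI : Fintype (FiniteField.Extension F p 2) := Fintype.ofFinite _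
  refine ⟨FiniteField.Extension F p 2, inferInstance, inferInstance, algebraMap F (FiniteField.Extension F p 2), ?_⟩
  rw [← Nat.card_eq_fintype_card, ← Nat.card_eq_fintype_card, h]

/-- **`p`-elements of `³D₄(q)`**, `p ≥ 5` dividing `q⁶ - 1`. -/
theorem tw_pow {F : Type} [Field F] [Fintype F] {p q : ℕ} [hp : Fact p.Prime] (hp5 : 5 ≤ p)
    (hq : IsPrimePow q) (hF : Fintype.card F = q ^ 3) (hpq : p ∣ q ^ 6 - 1)
    {g : ↥(twistedD4 F q)} (hg : ∃ k : ℕ, orderOf g = p ^ k) : g ^ (q ^ 6 - 1) = 1 := by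
  obtain ⟨E, _, _, f, hE⟩ := exists_quadratic F
  have hE' : Fintype.card E = q ^ 6 := by rw [hE, hF]; ring
  let φ : ↥(twistedD4 F q) →* ↥(chevD4.group E) :=
    (GpExc.Field.emb inListD4 f).comp (Subgroup.inclusion (H129.TriD4.tw_le hq hF))
  have hinj : Function.Injective φ :=
    (GpExc.Field.emb_injective inListD4 f).comp (Subgroup.inclusion_injective _)
  apply hinj
  rw [map_pow, map_one]
  refine D4_pow hp5 hE' hpq ?_
  obtain ⟨k, hk⟩ := hg
  exact ⟨k, by rw [orderOf_injective _ hinj, hk]⟩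

theorem IsPrimePow_of {F : Type} [Field F] [Fintype F] {q : ℕ} (hF : Fintype.card F = q ^ 3) : IsPrimePow q := by
  have h := FiniteField.isPrimePow_card F
  rw [hF] at h
  exact (isPrimePow_pow_iff (by norm_num)).1 h

/-- **The Sylow `p`-subgroups of `³D₄(q)` are not cyclic**, if `p ∣ (q² - 1)(q⁸ + q⁴ + 1)` and `p ∣ q⁶ - 1`. -/
theorem not_cyclic {F : Type} [Field F] [Fintype F] {p q : ℕ} [hp : Fact p.Prime] (hp5 : 5 ≤ p)
    (hF : Fintype.card F = q ^ 3) (h6 : p ∣ q ^ 6 - 1) (h2 : p ∣ (q ^ 2 - 1) * (q ^ 8 + q ^ 4 + 1))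
    (P : Sylow p ↥(twistedD4 F q)) : ¬ IsCyclic (P : Subgroup ↥(twistedD4 F q)) := by
  intro hc
  have hq := IsPrimePow_of hF
  obtain ⟨g, hg⟩ := hc.exists_generator
  have h3 : orderOf (g : ↥(twistedD4 F q)) = Nat.card P := by
    rw [Subgroup.orderOf_coe]
    exact orderOf_eq_card_of_forall_mem_zpowers hg
  have h4 := P.card_eq_multiplicity
  have h5 := tw_pow hp5 hq hF h6 (g := (g : ↥(twistedD4 F q))) ⟨_, h3.trans h4⟩
  have h7 : p ^ (Nat.card ↥(twistedD4 F q)).factorization p ∣ q ^ 6 - 1 := by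
    rw [← h4, ← h3]
    exact orderOf_dvd_of_pow_eq_one h5
  have hq2 := hq.two_le
  have h60 : q ^ 6 - 1 ≠ 0 := by
    have : 1 < q ^ 6 := Nat.one_lt_pow (by norm_num) hq2
    omega
  have h20 : q ^ 2 - 1 ≠ 0 := by
    have : 1 < q ^ 2 := Nat.one_lt_pow (by norm_num) hq2
    omega
  rw [S1067.result hq hF] at h7
  have h8 := (Nat.Prime.pow_dvd_iff_le_factorization hp.out h60).1 h7
  have e1 : q ^ 12 * (q ^ 2 - 1) * (q ^ 6 - 1) * (q ^ 8 + q ^ 4 + 1) =
      (q ^ 12 * ((q ^ 2 - 1) * (q ^ 8 + q ^ 4 + 1))) * (q ^ 6 - 1) := by ring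
  have e2 : (q ^ 2 - 1) * (q ^ 8 + q ^ 4 + 1) ≠ 0 := mul_ne_zero h20 (by positivity)
  have e3 : q ^ 12 ≠ 0 := pow_ne_zero _ (by omega)
  rw [e1, Nat.factorization_mul (mul_ne_zero e3 e2) h60, Finsupp.add_apply, Nat.factorization_mul e3 e2,
    Finsupp.add_apply] at h8
  have h9 : 0 < ((q ^ 2 - 1) * (q ^ 8 + q ^ 4 + 1)).factorization p := hp.out.factorization_pos_of_dvd e2 h2
  omega

/-- **The Sylow `5`- and `7`-subgroups of `³D₄(q)` are not cyclic.** -/
theorem not_cyclic_small {F : Type} [Field F] [Fintype F] {p q : ℕ} [hp : Fact p.Prime] (hp5 : p = 5 ∨ p = 7)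
    (hF : Fintype.card F = q ^ 3) (hpq : ¬ p ∣ q) (hd : p ∣ Nat.card ↥(twistedD4 F q))
    (P : Sylow p ↥(twistedD4 F q)) : ¬ IsCyclic (P : Subgroup ↥(twistedD4 F q)) := by
  have hq := IsPrimePow_of hF
  have hq2 := hq.two_le
  rw [S1067.result hq hF] at hd
  have e2 : q ^ 2 - 1 + 1 = q ^ 2 := Nat.sub_add_cancel (Nat.one_le_pow _ _ (by omega))
  have e6 : q ^ 6 - 1 + 1 = q ^ 6 := Nat.sub_add_cancel (Nat.one_le_pow _ _ (by omega))
  have hd' : p ∣ (q ^ 2 - 1) * (q ^ 6 - 1) * (q ^ 8 + q ^ 4 + 1) := by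
    rw [show q ^ 12 * (q ^ 2 - 1) * (q ^ 6 - 1) * (q ^ 8 + q ^ 4 + 1) =
      q ^ 12 * ((q ^ 2 - 1) * (q ^ 6 - 1) * (q ^ 8 + q ^ 4 + 1)) by ring] at hd
    rcases (Nat.Prime.dvd_mul hp.out).1 hd with h | h
    · exact absurd (hp.out.dvd_of_dvd_pow h) hpq
    · exact h
  have key : p ∣ q ^ 6 - 1 ∧ p ∣ (q ^ 2 - 1) * (q ^ 8 + q ^ 4 + 1) := by
    have o2 : 1 ≤ q ^ 2 := Nat.one_le_pow _ _ (by omega)
    have o6 : 1 ≤ q ^ 6 := Nat.one_le_pow _ _ (by omega)
    rcases hp5 with rfl | rfl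
    · have m2 := Nat.pow_mod q 2 5
      have m4 := Nat.pow_mod q 4 5
      have m6 := Nat.pow_mod q 6 5
      have m8 := Nat.pow_mod q 8 5
      have hr : q % 5 < 5 := Nat.mod_lt _ (by norm_num)
      have hr0 : 1 ≤ q % 5 := Nat.one_le_iff_ne_zero.2 fun h => hpq (Nat.dvd_of_mod_eq_zero h)
      generalize q % 5 = r at *
      have h5 : 5 ∣ q ^ 2 - 1 := by
        rcases (Nat.Prime.dvd_mul hp.out).1 hd' with h | h
        · rcases (Nat.Prime.dvd_mul hp.out).1 h with h | h
          · exact h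
          · interval_cases r <;> norm_num only [] at m2 m4 m6 m8 <;> (clear * - m2 e6 h m6; omega)
        · interval_cases r <;> norm_num only [] at m2 m4 m6 m8 <;> omega
      refine ⟨?_, Dvd.dvd.mul_right h5 _⟩
      interval_cases r <;> norm_num only [] at m2 m4 m6 m8 <;> omega
    · have m2 := Nat.pow_mod q 2 7
      have m4 := Nat.pow_mod q 4 7
      have m6 := Nat.pow_mod q 6 7
      have m8 := Nat.pow_mod q 8 7
      have hr : q % 7 < 7 := Nat.mod_lt _ (by norm_num)
      have hr0 : 1 ≤ q % 7 := Nat.one_le_iff_ne_zero.2 fun h => hpq (Nat.dvd_of_mod_eq_zero h)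
      generalize q % 7 = r at *
      refine ⟨?_, ?_⟩
      · interval_cases r <;> norm_num only [] at m2 m4 m6 m8 <;> (clear * - m6 e6; omega)
      · have h7 : 7 ∣ q ^ 2 - 1 ∨ 7 ∣ q ^ 8 + q ^ 4 + 1 := by
          interval_cases r <;> norm_num only [] at m2 m4 m6 m8 <;> omega
        rcases h7 with h | h
        · exact Dvd.dvd.mul_right h _
        · exact Dvd.dvd.mul_left h _
  exact not_cyclic (by omega) hF key.1 key.2 P

end Cfsg.Agent.H306.SY
end

-- part: H306/SY/TD4
section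
/-!
# S3846, the row `³D₄(q)` (task 1522, helper306)
-/

set_option autoImplicit false
set_option linter.style.haveILetI false
set_option linter.unusedSectionVars false

namespace Cfsg.Agent.H306.SY

open Cfsg Cfsg.Lie Subgroup Module Cfsg.Agent.H459.Iface Cfsg.Agent.H459.Rad Cfsg.Agent.H301.SY

/-- `K` has a central extension `E` with a faithful representation of degree `d` over a field of characteristic `r`. -/
def RepData (r d : ℕ) (K : Type*) [Group K] : Prop :=
  ∃ (k V E : Type) (_ : Field k) (_ : AddCommGroup V) (_ : Module k V) (_ : FiniteDimensional k V) (_ : Group E)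
    (_ : Finite E) (ρ : Representation k E V) (π : E →* K), CharP k r ∧ Function.Injective ρ ∧
      Function.Surjective π ∧ π.ker ≤ center E ∧ finrank k V = d

/-- Subgroups of `PΩ(Q)`. -/
theorem repData_of_hom {ι : Type} [Fintype ι] [DecidableEq ι] {F : Type} [Field F] [Finite F] {r : ℕ} [CharP F r]
    (Q : (ι → F) → F) {K : Type*} [Group K] (f : K →* POmega F Q) (hf : Function.Injective f) :
    RepData r (Fintype.card ι) K := by
  set π₀ : ↥(Omega F Q) →* POmega F Q := QuotientGroup.mk' _ with hπ₀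
  set E : Subgroup ↥(Omega F Q) := f.range.comap π₀ with hE
  -- the map onto `K`
  let e : K ≃* f.range := MonoidHom.ofInjective hf
  let π₁ : E →* f.range := (π₀.comp E.subtype).codRestrict f.range fun x => x.2
  have h1 : ∀ x : E, ((π₁ x : f.range) : POmega F Q) = π₀ x := fun x => rfl
  refine ⟨F, ι → F, E, inferInstance, inferInstance, inferInstance, inferInstance, inferInstance, inferInstance,
    ((Matrix.toLinAlgEquiv' (R := F) (n := ι)).toAlgHom.toMonoidHom.comp
      ((Units.coeHom (Matrix ι ι F)).comp ((isometryGroup F Q).subtype.comp ((Omega F Q).subtype.comp E.subtype)))),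
    e.symm.toMonoidHom.comp π₁, inferInstance, ?_, ?_, ?_, ?_⟩
  · refine (Matrix.toLinAlgEquiv' (R := F) (n := ι)).injective.comp (Units.val_injective.comp ?_)
    exact (isometryGroup F Q).subtype_injective.comp ((Omega F Q).subtype_injective.comp E.subtype_injective)
  · intro k
    obtain ⟨y, hy⟩ := QuotientGroup.mk'_surjective _ (f k)
    refine ⟨⟨y, ⟨k, hy.symm⟩⟩, ?_⟩
    change e.symm (π₁ _) = k
    rw [MulEquiv.symm_apply_eq]
    exact Subtype.ext hy
  · intro x hx
    have h2 : π₁ x = 1 := by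
      have h3 : e.symm (π₁ x) = 1 := hx
      rwa [map_eq_one_iff _ e.symm.injective] at h3
    have h3 : π₀ x = 1 := by rw [← h1, h2]; rfl
    have h4 : (x : ↥(Omega F Q)) ∈ center ↥(Omega F Q) := (QuotientGroup.eq_one_iff _).1 h3
    rw [mem_center_iff] at h4 ⊢
    intro y
    exact Subtype.ext (h4 y)
  · exact finrank_fintype_fun_eq_card F

variable {K : Type*} [Group K] [Finite K] {F : Type} [Field F] [Fintype F] {q r p : ℕ}
  [Fact r.Prime] [hp : Fact p.Prime] [CharP F r]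

omit [Finite K] [Fact r.Prime] in
/-- `³D₄(q)` has a central extension with a faithful representation of degree `8`. -/
theorem repData_tD4 (hF : Fintype.card F = q ^ 3) (e : Nonempty (K ≃* ↥(twistedD4 F q))) : RepData r 8 K := by
  obtain ⟨e⟩ := e
  obtain ⟨e'⟩ := S1082.result (F := F)
  have hq := IsPrimePow_of hF
  have h := repData_of_hom (r := r) (Cfsg.quadFormPlus 4 F)
    ((e'.toMonoidHom.comp (Subgroup.inclusion (H129.TriD4.tw_le hq hF))).comp e.toMonoidHom)
    ((e'.injective.comp (Subgroup.inclusion_injective _)).comp e.injective)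
  have hc : Fintype.card (Fin 4 ⊕ Fin 4) = 8 := by simp
  rwa [hc] at h

/-- The row `³D₄(q)`, up to the lemma `m0_of_rep`. -/
theorem crow_tD4_of (hF : Fintype.card F = q ^ 3) (e : Nonempty (K ≃* ↥(twistedD4 F q)))
    (hp5 : 5 ≤ p) (hpr : p ≠ r)
    (hM : RepData r 8 K → 8 + 1 < p → ∀ x : K, orderOf x = p → (∀ P : Sylow p K, IsCyclic (P : Subgroup K)) →
      ¬ FixR r (MulAut.conj x) → M0 x) : CRow r p K := by
  intro x hx hRC hcyc
  by_cases hfix : FixR r (MulAut.conj x)
  · exact Or.inl hfix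
  have hpd : p ∣ Nat.card K := hx ▸ _root_.orderOf_dvd_natCard x
  by_cases h9 : 8 + 1 < p
  · exact Or.inr (Or.inl (hM (repData_tD4 hF e) h9 x hx hcyc hfix))
  exfalso
  have hp57 : p = 5 ∨ p = 7 := by
    have h1 := hp.out
    have h2 : p < 10 := by omega
    interval_cases p
    · exact Or.inl rfl
    · exact absurd h1 (by norm_num)
    · exact Or.inr rfl
    · exact absurd h1 (by norm_num)
    · exact absurd h1 (by norm_num)
  obtain ⟨e⟩ := e
  have hpq : ¬ p ∣ q := by
    intro h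
    obtain ⟨n, hn, hc⟩ := FiniteField.card F r
    have h1 : p ∣ r ^ (n : ℕ) := by
      rw [← hc, hF]
      exact dvd_pow h (by norm_num)
    exact hpr ((Nat.prime_dvd_prime_iff_eq hp.out hn).1 (hp.out.dvd_of_dvd_pow h1))
  obtain ⟨Q⟩ : Nonempty (Sylow p ↥(twistedD4 F q)) := inferInstance
  refine not_cyclic_small hp57 hF hpq (by rwa [← Nat.card_congr e.toEquiv]) Q ?_
  -- the Sylow subgroups of `K` are cyclic
  have hQ : IsPGroup p ↥((Q : Subgroup ↥(twistedD4 F q)).map e.symm.toMonoidHom) := Q.isPGroup'.map _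
  obtain ⟨P, hPQ⟩ := hQ.exists_le_sylow
  have := hcyc P
  have h2 : IsCyclic ↥((Q : Subgroup ↥(twistedD4 F q)).map e.symm.toMonoidHom) :=
    isCyclic_of_injective (Subgroup.inclusion hPQ) (Subgroup.inclusion_injective hPQ)
  have h3 : IsCyclic ↥(map (↑e.symm : ↥(twistedD4 F q) →* K) ↑Q) := h2
  exact isCyclic_of_surjective (e.symm.subgroupMap (Q : Subgroup ↥(twistedD4 F q))).symm
    (e.symm.subgroupMap (Q : Subgroup ↥(twistedD4 F q))).symm.surjective

end Cfsg.Agent.H306.SY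
end

-- part: H306/SY/TD4Row
section
/-!
# S3846, the row `³D₄(q)` (task 1522, helper306)
-/

set_option autoImplicit false
set_option linter.style.haveILetI false
set_option linter.unusedSectionVars false

namespace Cfsg.Agent.H306.SY

open Cfsg Cfsg.Lie Subgroup Module Cfsg.Agent.H459.Iface Cfsg.Agent.H459.Rad Cfsg.Agent.H301.SY

/-- `M0` from `RepData`. -/
theorem m0_of_repData (hh : HH) {K : Type*} [Group K] [Finite K] {r p d : ℕ} [Fact r.Prime] [Fact p.Prime]
    (hpr : p ≠ r) (h : RepData r d K) (hd : d + 1 < p) (x : K) (hx : orderOf x = p)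
    (hcyc : ∀ P : Sylow p K, IsCyclic (P : Subgroup K)) (hF : ¬ FixR r (MulAut.conj x)) : M0 x := by
  obtain ⟨k, V, E, _, _, _, _, _, _, ρ, π, hk, hρ, hπ, hker, hdim⟩ := h
  exact m0_of_rep hh π hπ hker ρ hρ hpr (by rw [hdim]; exact hd) hcyc hx hF

/-- **The row `³D₄(q)`.** -/
theorem crow_tD4 (hh : Cfsg.Agent.H301.SY.HH) {K : Type*} [Group K] [Finite K] [IsSimpleGroup K] {F : Type} [Field F]
    [Fintype F] {q r p : ℕ} [Fact r.Prime] [Fact p.Prime] [CharP F r] (hF : Fintype.card F = q ^ 3)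
    (e : Nonempty (K ≃* Cfsg.Lie.twistedD4 F q)) (hp : 5 ≤ p) (hpr : p ≠ r) : Cfsg.Agent.H301.SY.CRow r p K :=
  crow_tD4_of hF e hp hpr fun h h9 x hx hcyc hfix => m0_of_repData hh hpr h h9 x hx hcyc hfix

end Cfsg.Agent.H306.SY
end
end

-- part: H669/SY/Gen
section
set_option linter.all false
open scoped Cfsg.Agent.FastGrp

/-!
# S3846: further criteria (helper669)

* `NoE.of_class` : every element of order `p` is conjugate into `C(a)`, `p ∤ |Rad C(a)|`;
* `not_dvd_radIn` : `C / Q` simple non-abelian, `p ∤ |Q|`;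
* `Lw.of_nonsolv` : a proper nonsolvable subgroup of order divisible by `p`, `p ^ 2 ∤ |K|`, normalizers of the
  subgroups of order `p` solvable;
* `NoE.of_not_dvd` : `p ∤ |K|`.
-/

set_option autoImplicit false
set_option linter.unusedSectionVars false

namespace Cfsg.Agent.H669.SY

open Cfsg Subgroup Cfsg.Agent.H459.Rad Cfsg.Agent.H301.SY Cfsg.Agent.SignalizersComponents.ComponentExists

variable {K : Type*} [Group K] [Finite K] {p : ℕ} [hp : Fact p.Prime]

theorem NoE.of_not_dvd (h : ¬ p ∣ Nat.card K) : NoE p K := fun x hx _ _ => h (hx ▸ orderOf_dvd_natCard x)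

/-- every element of order `p` has a conjugate in the proper subgroup `L` -/
theorem NoE.of_conj {L : Subgroup K} (hL : L ≠ ⊤) (hr : ¬ p ∣ Nat.card (radIn L))
    (h : ∀ x : K, orderOf x = p → ∃ g : K, g * x * g⁻¹ ∈ L) : NoE p K := by
  refine NoE.of_sub fun x hx => ?_
  obtain ⟨g, hg⟩ := h x hx
  refine ⟨L.map (MulAut.conj g⁻¹).toMonoidHom, ?_, ⟨g * x * g⁻¹, hg, ?_⟩, ?_⟩
  · intro h1
    apply hL
    rw [eq_top_iff]
    intro y _
    have h2 : MulAut.conj g⁻¹ y ∈ L.map (MulAut.conj g⁻¹).toMonoidHom := by rw [h1]; exact mem_top _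
    obtain ⟨z, hz, h3⟩ := h2
    have h4 : z = y := (MulAut.conj g⁻¹).injective h3
    rwa [← h4]
  · change g⁻¹ * (g * x * g⁻¹) * g⁻¹⁻¹ = x
    group
  · rw [radIn_conj, Subgroup.card_map_of_injective (MulAut.conj g⁻¹).injective]
    exact hr

/-- every element of order `p` commutes with a conjugate of `a` -/
theorem NoE.of_class (hZ : center K = ⊥) {a : K} (ha : a ≠ 1)
    (hr : ¬ p ∣ Nat.card (radIn (centralizer ({a} : Set K))))
    (h : ∀ x : K, orderOf x = p → ∃ t : K, IsConj a t ∧ t * x = x * t) : NoE p K := by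
  refine NoE.of_conj (L := centralizer ({a} : Set K)) ?_ hr fun x hx => ?_
  · intro h1
    apply ha
    have h2 : a ∈ center K := by
      rw [mem_center_iff]
      intro g
      exact (mem_centralizer_iff.1 (show g ∈ centralizer ({a} : Set K) by rw [h1]; exact mem_top _) a rfl).symm
    rwa [hZ, mem_bot] at h2
  · obtain ⟨t, hat, htx⟩ := h x hx
    obtain ⟨c, hc⟩ := isConj_iff.1 hat
    refine ⟨c⁻¹, ?_⟩
    rw [mem_centralizer_singleton_iff]
    have h1 : a = c⁻¹ * t * c := by rw [← hc]; group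
    rw [h1]
    calc c⁻¹ * x * c⁻¹⁻¹ * (c⁻¹ * t * c) = c⁻¹ * (x * t) * c := by group
      _ = c⁻¹ * (t * x) * c := by rw [htx]
      _ = _ := by group

/-- the radical of an extension of a `p'`-group by a group without radical -/
theorem not_dvd_radIn_of_hom {C : Subgroup K} {T : Type*} [Group T] [Finite T] (f : C →* T)
    (hf : Function.Surjective f) (hT : solvableRadical T = ⊥) (hk : ¬ p ∣ Nat.card f.ker) :
    ¬ p ∣ Nat.card (radIn C) := by
  intro h
  apply hk
  have h1 : solvableRadical C ≤ f.ker := by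
    intro z hz
    have h2 := map_rad_le hf hz
    rw [hT, mem_bot] at h2
    exact h2
  have h2 : Nat.card (radIn C) = Nat.card (solvableRadical C) :=
    Subgroup.card_map_of_injective C.subtype_injective
  rw [h2] at h
  exact h.trans (Subgroup.card_dvd_of_le h1)

theorem not_solvable_of_simple {T : Type*} [Group T] [IsSimpleGroup T] (h : ¬ IsMulCommutative T) :
    ¬ Group.IsSolvable T := fun hs => h ⟨⟨fun a b => (IsSimpleGroup.comm_iff_isSolvable.2 hs) a b⟩⟩

theorem not_dvd_radIn {C : Subgroup K} (Q : Subgroup C) [Q.Normal] {T : Type*} [Group T] [Finite T] [IsSimpleGroup T]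
    (hT : ¬ Group.IsSolvable T) (e : C ⧸ Q ≃* T) (hQ : ¬ p ∣ Nat.card Q) : ¬ p ∣ Nat.card (radIn C) := by
  refine not_dvd_radIn_of_hom (e.toMonoidHom.comp (QuotientGroup.mk' Q))
    (e.surjective.comp (QuotientGroup.mk'_surjective Q)) (rad_eq_bot_of_simple hT) ?_
  have h1 : (e.toMonoidHom.comp (QuotientGroup.mk' Q)).ker = Q := by
    ext z
    rw [MonoidHom.mem_ker]
    change e (QuotientGroup.mk' Q z) = 1 ↔ _
    rw [map_eq_one_iff e e.injective]
    exact QuotientGroup.eq_one_iff z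
  rw [h1]
  exact hQ

/-- the normalizer of a group of prime order with centralizer solvable is solvable -/
theorem isSolvable_normalizer {x : K} (h : Group.IsSolvable (centralizer ({x} : Set K))) :
    Group.IsSolvable (normalizer ((zpowers x : Subgroup K) : Set K)) := by
  let f := (zpowers x).normalizerMonoidHom
  have hker : Group.IsSolvable f.ker := by
    have h1 : f.ker.map (normalizer ((zpowers x : Subgroup K) : Set K)).subtype ≤ centralizer ({x} : Set K) := by
      rintro _ ⟨y, hy, rfl⟩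
      rw [mem_centralizer_singleton_iff]
      have h2 : f y ⟨x, mem_zpowers x⟩ = ⟨x, mem_zpowers x⟩ := by
        have h3 : f y = 1 := hy
        rw [h3]; rfl
      have h3 : (y : K) * x * (y : K)⁻¹ = x := congrArg Subtype.val h2
      exact mul_inv_eq_iff_eq_mul.1 h3
    have h2 := isSolvable_of_le h1 h
    exact Group.isSolvable_of_isSolvable_injective
      (f := (f.ker.equivMapOfInjective (normalizer ((zpowers x : Subgroup K) : Set K)).subtype
        (Subgroup.subtype_injective _)).toMonoidHom) (MulEquiv.injective _)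
  have hcomm : Group.IsSolvable (MulAut (zpowers x)) := by
    have e : MulAut (zpowers x) ≃* (ZMod (Nat.card (zpowers x)))ˣ := IsCyclic.mulAutMulEquiv _
    exact Group.isSolvable_of_isSolvable_injective (f := e.toMonoidHom) e.injective
  exact Group.isSolvable_of_ker_le_range (f.ker.subtype) f (by rw [Subgroup.range_subtype])

/-- **a nonsolvable proper subgroup** -/
theorem Lw.of_nonsolv {L : Subgroup K} (hL : L ≠ ⊤) (hpL : p ∣ Nat.card L) (hns : ¬ Group.IsSolvable L)
    (h2 : ¬ p ^ 2 ∣ Nat.card K)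
    (hN : ∀ x : K, orderOf x = p → Group.IsSolvable (normalizer ((zpowers x : Subgroup K) : Set K))) : Lw p K := by
  refine ⟨L, hL, hpL, fun hd => hns ?_⟩
  have hc : Nat.card (radIn L) = Nat.card (solvableRadical L) :=
    Subgroup.card_map_of_injective L.subtype_injective
  rw [hc] at hd
  obtain ⟨P⟩ : Nonempty (Sylow p (solvableRadical L)) := inferInstance
  have hF := Sylow.normalizer_sup_eq_top (N := solvableRadical L) P
  set P' : Subgroup L := (P : Subgroup (solvableRadical L)).map (solvableRadical L).subtype with hP'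
  -- `P'` is generated by an element of order `p`
  have hcard : Nat.card P' = p := by
    have h1 : Nat.card P' = Nat.card P := Subgroup.card_map_of_injective (Subgroup.subtype_injective _)
    obtain ⟨n, hn⟩ := P.isPGroup'.exists_card_eq
    have h3 : Nat.card P' ∣ Nat.card K :=
      (Subgroup.card_subgroup_dvd_card P').trans (Subgroup.card_subgroup_dvd_card L)
    have hn1 : n = 1 := by
      have h4 : n < 2 := by
        by_contra h5
        apply h2
        refine (pow_dvd_pow p (by omega : 2 ≤ n)).trans ?_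
        rw [← hn, ← h1]
        exact h3
      have h5 : n ≠ 0 := by
        rintro rfl
        have h6 := P.dvd_card_of_dvd_card hd
        rw [hn, pow_zero] at h6
        exact hp.out.one_lt.ne' (Nat.dvd_one.1 h6)
      omega
    rw [h1, hn, hn1, pow_one]
  obtain ⟨y, hy⟩ := exists_prime_orderOf_dvd_card' p (show p ∣ Nat.card P' by rw [hcard])
  have hyo : orderOf (y : L) = p := by rw [Subgroup.orderOf_coe]; exact hy
  have hyP : zpowers (y : L) = P' := by
    apply Subgroup.eq_of_le_of_card_ge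
    · rw [zpowers_le]; exact y.2
    · rw [hcard, Nat.card_zpowers, hyo]
  have hsol : Group.IsSolvable (normalizer (P' : Set L)) := by
    have h1 := hN ((y : L) : K) (by rw [Subgroup.orderOf_coe, hyo])
    have h3 : (normalizer (P' : Set L)).map L.subtype ≤ normalizer ((zpowers ((y : L) : K) : Subgroup K) : Set K) := by
      have h4 : (zpowers ((y : L) : K) : Subgroup K) = P'.map L.subtype := by
        have h5 : (zpowers (y : L)).map L.subtype = P'.map L.subtype := congrArg (Subgroup.map L.subtype) hyP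
        rw [← h5, MonoidHom.map_zpowers]; rfl
      rw [h4]
      rintro _ ⟨z, hz, rfl⟩
      rw [Subgroup.mem_normalizer_iff_map_conj_eq]
      refine Subgroup.eq_of_le_of_card_ge ?_ (le_of_eq (Subgroup.card_map_of_injective
        (K := P'.map L.subtype) (MulAut.conj (z : K)).injective).symm)
      rintro _ ⟨_, ⟨a, ha, rfl⟩, rfl⟩
      exact ⟨z * a * z⁻¹, (Subgroup.mem_normalizer_iff.1 hz a).1 ha, rfl⟩
    have h4 := isSolvable_of_le h3 h1
    exact Group.isSolvable_of_isSolvable_injective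
      (f := ((normalizer (P' : Set L)).equivMapOfInjective L.subtype L.subtype_injective).toMonoidHom)
      (MulEquiv.injective _)
  refine isSolvable_of_quotient (solvableRadical L) (rad_solvable L) ?_
  refine Group.isSolvable_of_surjective (f := (QuotientGroup.mk' (solvableRadical L)).comp
    (normalizer (P' : Set L)).subtype) ?_
  intro q
  obtain ⟨l, rfl⟩ := QuotientGroup.mk'_surjective _ q
  have h5 : l ∈ normalizer (P' : Set L) ⊔ solvableRadical L := by rw [hF]; exact mem_top _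
  have hnorm : (solvableRadical L).Normal := rad_normal L
  obtain ⟨a, ha, b, hb, h6⟩ := (Subgroup.mem_sup_of_normal_right (ht := hnorm)).1 h5
  refine ⟨⟨a, ha⟩, ?_⟩
  change QuotientGroup.mk' _ a = QuotientGroup.mk' _ l
  have h7 : QuotientGroup.mk' (solvableRadical L) b = 1 := (QuotientGroup.eq_one_iff b).2 hb
  rw [← h6, map_mul, h7, mul_one]

end Cfsg.Agent.H669.SY
end

-- part: H669/SY/Num
section
set_option linter.all false
open scoped Cfsg.Agent.FastGrp

/-!
# S3846: numerical tools for the sporadic rows (helper669)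
-/

set_option autoImplicit false
set_option linter.unusedSectionVars false

namespace Cfsg.Agent.H669.SY

open Cfsg Subgroup Cfsg.Agent.H459.Rad Cfsg.Agent.H301.SY

/-- `t ^ i` is not 1 modulo `p` for the powers `t ^ i` dividing `N` -/
theorem left_of {N t p m : ℕ} (hp : 1 < p) (h1 : ¬ t ^ (m + 1) ∣ N) (h2 : ∀ i < m, t ^ (i + 1) % p ≠ 1) :
    ∀ i : ℕ, 0 < i → t ^ i ∣ N → ¬ t ^ i ≡ 1 [MOD p] := by
  intro i hi hd hm
  have him : i ≤ m := by
    by_contra hc
    exact h1 ((pow_dvd_pow t (by omega)).trans hd)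
  apply h2 (i - 1) (by omega)
  rw [Nat.sub_add_cancel hi]
  have h3 : t ^ i % p = 1 % p := hm
  rwa [Nat.mod_eq_of_lt hp] at h3

theorem card_sylow {K : Type*} [Group K] [Finite K] {t k m : ℕ} [ht : Fact t.Prime] (T : Sylow t K)
    (hK : Nat.card K = t ^ k * m) (hm : ¬ t ∣ m) : Nat.card T = t ^ k := by
  have hm0 : m ≠ 0 := by rintro rfl; exact hm (dvd_zero t)
  rw [T.card_eq_multiplicity, hK, Nat.factorization_mul (pow_ne_zero _ ht.out.ne_zero) hm0, Finsupp.add_apply,
    Nat.Prime.factorization_pow ht.out, Finsupp.single_eq_same, Nat.factorization_eq_zero_of_not_dvd hm, add_zero]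

/-- there is a `t`-subgroup with centralizer of order at most `n` -/
def SmallCent (t n : ℕ) (K : Type*) [Group K] : Prop :=
  ∃ Q : Subgroup K, IsPGroup t Q ∧ ∀ W : Subgroup K, (∀ w ∈ W, ∀ u ∈ Q, w * u = u * w) → Nat.card W ≤ n

/-- there is a non-abelian `t`-subgroup -/
def NonabP (t : ℕ) (K : Type*) [Group K] : Prop :=
  ∃ P : Subgroup K, IsPGroup t P ∧ ∃ x ∈ P, ∃ y ∈ P, x * y ≠ y * x

section

variable {K L : Type*} [Group K] [Group L]

theorem SmallCent.congr {t n : ℕ} (e : K ≃* L) (h : SmallCent t n L) : SmallCent t n K := by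
  obtain ⟨Q, hQ, h1⟩ := h
  refine ⟨Q.map e.symm.toMonoidHom, hQ.map _, fun W hW => ?_⟩
  have h2 := h1 (W.map e.toMonoidHom) (by
    rintro _ ⟨w, hw, rfl⟩ u hu
    have h3 := hW w hw (e.symm u) ⟨u, hu, rfl⟩
    have h4 := congrArg e h3
    rw [map_mul, map_mul, e.apply_symm_apply] at h4
    exact h4)
  rwa [Subgroup.card_map_of_injective e.injective] at h2

theorem NonabP.congr {t : ℕ} (e : K ≃* L) (h : NonabP t L) : NonabP t K := by
  obtain ⟨P, hP, x, hx, y, hy, hxy⟩ := h
  refine ⟨P.map e.symm.toMonoidHom, hP.map _, e.symm x, ⟨x, hx, rfl⟩, e.symm y, ⟨y, hy, rfl⟩, fun h1 => hxy ?_⟩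
  rw [← map_mul, ← map_mul] at h1
  exact e.symm.injective h1

end

variable {K : Type*} [Group K] [Finite K]

/-- the Theorem O alternative of `m0_num` with `SmallCent` : `|W| ≤ c` -/
theorem right_of_smallCent {t p k m c : ℕ} (ht : t.Prime) (hK : Nat.card K = t ^ k * m) (hm : ¬ t ∣ m)
    (hs : SmallCent t c K)
    (h : ∀ a j n : ℕ, a + j = k → p ∣ t ^ a - 1 → t ^ j ∣ p - 1 → 0 < n → p ∣ t ^ n - 1 → n ≤ a →
      ¬ t ^ n ≤ c ^ (t ^ j)) :
    ∃ T : Sylow t K, ∀ a j n : ℕ,
        Nat.card T = t ^ (a + j) → p ∣ t ^ a - 1 → t ^ j ∣ p - 1 → 0 < n → p ∣ t ^ n - 1 → n ≤ a →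
        (∃ W : Subgroup K, W ≤ T ∧ (∀ w ∈ W, ∀ u ∈ (T : Subgroup K), w * u = u * w) ∧ (∀ w ∈ W, w ^ t = 1) ∧
          t ^ n ≤ Nat.card W ^ (t ^ j)) → False := by
  have htF : Fact t.Prime := ⟨ht⟩
  obtain ⟨Q, hQ, h1⟩ := hs
  obtain ⟨T, hT⟩ := hQ.exists_le_sylow
  refine ⟨T, fun a j n h2 h3 h4 h5 h6 h7 ⟨W, _, h8, _, h9⟩ => ?_⟩
  rw [card_sylow T hK hm] at h2
  have h10 : k = a + j := Nat.pow_right_injective ht.two_le h2
  have h11 := h1 W fun w hw u hu => h8 w hw u (hT hu)
  exact h a j n h10.symm h3 h4 h5 h6 h7 (h9.trans (Nat.pow_le_pow_left h11 _))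

/-- the Theorem O alternative of `m0_num`, for non-abelian Sylow subgroups : `|W| < |T|` -/
theorem right_of_nonab {t p k m : ℕ} (ht : t.Prime) (hK : Nat.card K = t ^ k * m) (hm : ¬ t ∣ m)
    (hs : NonabP t K)
    (h : ∀ a j n : ℕ, a + j = k → p ∣ t ^ a - 1 → t ^ j ∣ p - 1 → 0 < n → p ∣ t ^ n - 1 → n ≤ a →
      ∀ c : ℕ, c < t ^ k → ¬ t ^ n ≤ c ^ (t ^ j)) :
    ∃ T : Sylow t K, ∀ a j n : ℕ,
        Nat.card T = t ^ (a + j) → p ∣ t ^ a - 1 → t ^ j ∣ p - 1 → 0 < n → p ∣ t ^ n - 1 → n ≤ a →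
        (∃ W : Subgroup K, W ≤ T ∧ (∀ w ∈ W, ∀ u ∈ (T : Subgroup K), w * u = u * w) ∧ (∀ w ∈ W, w ^ t = 1) ∧
          t ^ n ≤ Nat.card W ^ (t ^ j)) → False := by
  have htF : Fact t.Prime := ⟨ht⟩
  obtain ⟨Q, hQ, x, hx, y, hy, hxy⟩ := hs
  obtain ⟨T, hT⟩ := hQ.exists_le_sylow
  refine ⟨T, fun a j n h2 h3 h4 h5 h6 h7 ⟨W, hWT, h8, _, h9⟩ => ?_⟩
  have hc := card_sylow T hK hm
  rw [hc] at h2
  have h10 : k = a + j := Nat.pow_right_injective ht.two_le h2
  refine h a j n h10.symm h3 h4 h5 h6 h7 _ ?_ h9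
  by_contra hlt
  have h11 : W = T := by
    apply Subgroup.eq_of_le_of_card_ge hWT
    rw [hc]
    omega
  apply hxy
  exact h8 x (h11 ▸ hT hx) y (hT hy)

/-- the centre of a group with an extraspecial normal subgroup of its involution centralizer -/
theorem smallCent_of_extraspecial {z : K} {t n : ℕ}
    (Q : Subgroup (centralizer ({z} : Set K))) (hQ : IsPGroup t Q)
    (hc : centralizer (Q : Set (centralizer ({z} : Set K))) ≤ Q) (hZ : Nat.card (center Q) ≤ n) : SmallCent t n K := by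
  refine ⟨Q.map (centralizer ({z} : Set K)).subtype, hQ.map _, fun W hW => ?_⟩
  have hzc : z ∈ centralizer ({z} : Set K) := mem_centralizer_singleton_iff.2 rfl
  have hzQ : (⟨z, hzc⟩ : centralizer ({z} : Set K)) ∈ Q := by
    apply hc
    rw [mem_centralizer_iff]
    intro q _
    exact Subtype.ext (mem_centralizer_singleton_iff.1 q.2)
  have hWz : ∀ w ∈ W, w ∈ centralizer ({z} : Set K) := fun w hw =>
    mem_centralizer_singleton_iff.2 (hW w hw z ⟨⟨z, hzc⟩, hzQ, rfl⟩)
  have hWQ : ∀ (w : K) (hw : w ∈ W), (⟨w, hWz w hw⟩ : centralizer ({z} : Set K)) ∈ Q := by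
    intro w hw
    apply hc
    rw [mem_centralizer_iff]
    intro q hq
    exact Subtype.ext (hW w hw q ⟨q, hq, rfl⟩).symm
  let f : W → center Q := fun w => ⟨⟨⟨w, hWz w w.2⟩, hWQ w w.2⟩, by
    rw [mem_center_iff]
    intro q
    exact Subtype.ext (Subtype.ext (hW w w.2 ((q : Q) : centralizer ({z} : Set K)) ⟨q, q.2, rfl⟩).symm)⟩
  have hf : Function.Injective f := by
    intro a b hab
    have h1 := congrArg (fun u : center Q => (((u : Q) : centralizer ({z} : Set K)) : K)) hab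
    exact Subtype.ext h1
  exact (Nat.card_le_card_of_injective f hf).trans hZ

end Cfsg.Agent.H669.SY
end

-- part: H621/SY/Mathieu_mg
section
prune_inst 0x44307264088012000000059251003e66de0005b0002b8801d9210e400686ff2205822720c4801d055a0a220500310000020000d00000000000000400011d008080a802062100a104e4000f801087180c00000000000000000000000000041004000000000
set_option linter.all false
open scoped Cfsg.Agent.FastGrp

-- part: H621/SY/Mathieu
section
/-!
# S3846: the rows `M12`, `M22`, `M23`, `M24` (tasks 1926-1929, helper621)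
-/

set_option autoImplicit false
set_option linter.unusedSectionVars false

namespace Cfsg.Agent.H621.SYMathieu

open Subgroup Cfsg Cfsg.Agent.H301.SY Cfsg.Agent.H459.Rad MulAction

/-! ### generic tools -/

section Gen

/-- `p ∤ |K|` -/
theorem noE_of_not_dvd {K : Type*} [Group K] {p : ℕ} (h : ¬ p ∣ Nat.card K) : NoE p K :=
  fun x hx _ _ => h (hx ▸ _root_.orderOf_dvd_natCard x)

theorem mem_of_dvd {p : ℕ} (hp : p.Prime) : ∀ (L : List (ℕ × ℕ)), (∀ a ∈ L, a.1.Prime) →
    p ∣ (L.map fun a => a.1 ^ a.2).prod → p ∈ L.map Prod.fst := by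
  intro L hL h
  obtain ⟨a, ha, h1⟩ := (hp.prime.dvd_prod_iff).1 h
  obtain ⟨b, hb, rfl⟩ := List.mem_map.1 ha
  rw [List.mem_map]
  refine ⟨b, hb, ?_⟩
  exact ((Nat.prime_dvd_prime_iff_eq hp (hL b hb)).1 (hp.dvd_of_dvd_pow h1)).symm

/-- the order condition -/
theorem no_pow {p t N b : ℕ} (hb : ¬ t ^ (b + 1) ∣ N) (h : ∀ i, i < b + 1 → 0 < i → ¬ t ^ i ≡ 1 [MOD p]) :
    ∀ i : ℕ, 0 < i → t ^ i ∣ N → ¬ t ^ i ≡ 1 [MOD p] := by
  intro i hi hd
  refine h i ?_ hi
  by_contra hlt
  exact hb ((pow_dvd_pow t (by omega)).trans hd)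

theorem not_comm {K : Type*} [Group K] [Finite K] [IsSimpleGroup K] {N : ℕ} (hc : Nat.card K = N)
    (hN : ¬ N.Prime) : ¬ IsMulCommutative K := by
  intro h
  apply hN
  rw [← hc]
  let : CommGroup K := { (inferInstance : Group K) with mul_comm := fun a b => h.is_comm.comm a b }
  exact IsSimpleGroup.prime_card

theorem not_solvable {K : Type*} [Group K] [Finite K] [IsSimpleGroup K] {N : ℕ} (hc : Nat.card K = N)
    (hN : ¬ N.Prime) : ¬ Group.IsSolvable K := by
  intro h
  apply not_comm hc hN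
  exact ⟨⟨fun a b => (IsSimpleGroup.comm_iff_isSolvable.2 h) a b⟩⟩

/-- a nontrivial solvable normal subgroup gives a nontrivial normal `q`-subgroup -/
theorem exists_qgroup {G : Type*} [Group G] [Finite G] (h : solvableRadical G ≠ ⊥) :
    ∃ q : ℕ, q.Prime ∧ ∃ N : Subgroup G, N.Normal ∧ N ≠ ⊥ ∧ IsPGroup q N := by
  obtain ⟨q, hq, h1⟩ := Cfsg.Agent.H370.exists_core (L := solvableRadical G) (rad_spec G).2.1 h
  have h2 : (pCore q (solvableRadical G)).Characteristic := Cfsg.Agent.Lib.PSolvable.pCore_characteristic q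
  refine ⟨q, hq, _, ?_, h1, ?_⟩
  · exact (inferInstance : ((pCore q (solvableRadical G)).map (solvableRadical G).subtype).Normal)
  · have : Fact q.Prime := ⟨hq⟩
    exact Cfsg.Agent.H370.pCoreOf_isPGroup

end Gen

/-! ### the stabiliser of a point in `M22` -/

/-- the remaining points -/
def Rest : Set GolayPt := {x | x ≠ none ∧ x ≠ some 0 ∧ x ≠ some 1}

theorem ncard_rest : Rest.ncard = 21 := by
  have h : Rest = ((Finset.univ.filter fun x : GolayPt => x ≠ none ∧ x ≠ some 0 ∧ x ≠ some 1 : Finset GolayPt) : Set GolayPt) := by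
    ext x
    simp only [Rest, _root_.ne_eq, _root_.Set.mem_ofPred_eq, _root_.Finset.coe_filter, _root_.Finset.mem_univ, _root_.true_and]
  rw [h, Set.ncard_coe_finset]
  decide

/-- the point stabiliser -/
abbrev L : Subgroup Spor.M22 := stabilizer Spor.M22 (some 1 : GolayPt)

theorem two_trans {i i' j j' : GolayPt} (hi : i ∈ Rest) (hi' : i' ∈ Rest) (hj : j ∈ Rest) (hj' : j' ∈ Rest)
    (hii : i ≠ i') (hjj : j ≠ j') : ∃ σ : L, σ • i = j ∧ σ • i' = j' := by
  obtain ⟨σ, hσ, h⟩ := Cfsg.Agent.Leech.HSConfig.exists_perm_of_embedding Cfsg.Agent.S0366.result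
    ![none, some 0, some 1, i, i'] ![none, some 0, some 1, j, j'] (by
      obtain ⟨h1, h2, h3⟩ := hi
      obtain ⟨h1', h2', h3'⟩ := hi'
      intro x y hxy
      fin_cases x <;> fin_cases y <;> simp_all only [_root_.ne_eq, _root_.Fin.zero_eta, _root_.Fin.isValue, _root_.Matrix.cons_val_zero, _root_.Fin.mk_one, _root_.Matrix.cons_val_one, _root_.reduceCtorEq, _root_.Fin.reduceFinMk, _root_.Matrix.cons_val, _root_.Fin.reduceEq, _root_.not_true_eq_false, _root_.not_false_eq_true, _root_.Option.some.injEq] <;> exact absurd hxy (by decide)) (by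
      obtain ⟨h1, h2, h3⟩ := hj
      obtain ⟨h1', h2', h3'⟩ := hj'
      intro x y hxy
      fin_cases x <;> fin_cases y <;> simp_all <;> exact absurd hxy (by decide))
  refine ⟨⟨⟨σ, ⟨⟨hσ, h 0⟩, h 1⟩⟩, h 2⟩, h 3, h 4⟩

theorem rest_smul (n : L) {i : GolayPt} (hi : i ∈ Rest) : n • i ∈ Rest := by
  have h0 : n • (none : GolayPt) = none := n.1.2.1.2
  have h1 : n • (some 0 : GolayPt) = some 0 := n.1.2.2
  have h2 : n • (some 1 : GolayPt) = some 1 := n.2
  refine ⟨fun h => hi.1 ?_, fun h => hi.2.1 ?_, fun h => hi.2.2 ?_⟩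
  · rw [← h0] at h
    exact smul_left_cancel n h
  · rw [← h1] at h
    exact smul_left_cancel n h
  · rw [← h2] at h
    exact smul_left_cancel n h

theorem dvd_card (N : Subgroup L) [hN : N.Normal] (hne : N ≠ ⊥) : 21 ∣ Nat.card N := by
  obtain ⟨n, hn1⟩ := Subgroup.ne_bot_iff_exists_ne_one.1 hne
  obtain ⟨i, hi⟩ : ∃ i : GolayPt, (n : L) • i ≠ i := by
    by_contra h
    push Not at h
    apply hn1
    apply Subtype.ext
    apply Subtype.ext
    apply Subtype.ext
    exact Equiv.ext h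
  have hir : i ∈ Rest := by
    refine ⟨?_, ?_, ?_⟩
    · rintro rfl
      exact hi (n : L).1.2.1.2
    · rintro rfl
      exact hi (n : L).1.2.2
    · rintro rfl
      exact hi (n : L).2
  have key : ∀ j ∈ Rest, ∀ j' ∈ Rest, ∃ m : N, m • j = j' := by
    intro j hj j' hj'
    by_cases h : j = j'
    · exact ⟨1, by rw [one_smul, h]⟩
    obtain ⟨σ, h1, h2⟩ := two_trans hir (rest_smul n hir) hj hj' hi.symm h
    refine ⟨⟨σ * n * σ⁻¹, hN.conj_mem _ n.2 σ⟩, ?_⟩
    show (σ * n * σ⁻¹) • j = j'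
    rw [mul_smul, mul_smul, ← h1, inv_smul_smul, h2]
  have horb : orbit N i = Rest := by
    ext j
    constructor
    · rintro ⟨m, rfl⟩
      exact rest_smul m hir
    · intro hj
      exact key i hir j hj
  have h3 : (orbit N i).ncard = 21 := by rw [horb, ncard_rest]
  rw [← h3, ← Nat.card_coe_set_eq]
  exact ⟨_, (Nat.card_congr (orbitEquivQuotientStabilizer N i)).symm ▸ (Subgroup.card_eq_card_quotient_mul_card_subgroup (stabilizer N i))⟩

theorem rad_L : solvableRadical L = ⊥ := by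
  by_contra h
  obtain ⟨q, hq, N, hN, hne, hp⟩ := exists_qgroup h
  have h1 := dvd_card N hne
  have : Fact q.Prime := ⟨hq⟩
  obtain ⟨k, hk⟩ := hp.exists_card_eq
  rw [hk] at h1
  have h2 : 3 = q := (Nat.prime_dvd_prime_iff_eq (by norm_num) hq).1
    (Nat.Prime.dvd_of_dvd_pow (by norm_num) ((show 3 ∣ 21 by norm_num).trans h1))
  have h3 : 7 = q := (Nat.prime_dvd_prime_iff_eq (by norm_num) hq).1
    (Nat.Prime.dvd_of_dvd_pow (by norm_num) ((show 7 ∣ 21 by norm_num).trans h1))
  omega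

theorem card_L : Nat.card L = 20160 := Cfsg.Agent.J4Type.Aut22.card_stab ⟨by decide, by decide⟩

theorem lw_m22 {p : ℕ} [hp : Fact p.Prime] (h : p ∣ 20160) : Lw p Spor.M22 := by
  refine ⟨L, ?_, ?_, ?_⟩
  · intro h1
    have h2 := card_L
    rw [h1, Subgroup.card_top, Cfsg.Agent.SporadicA.MathieuRecog.card_M22] at h2
    omega
  · rw [card_L]; exact h
  · have h2 : Nat.card (radIn L) = Nat.card (solvableRadical L) :=
      Subgroup.card_map_of_injective L.subtype_injective
    rw [h2, rad_L, card_bot]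
    exact fun h3 => hp.out.one_lt.ne' (Nat.dvd_one.1 h3)

/-- a smaller simple group among the permutation groups -/
theorem lw_of_le {p : ℕ} [hp : Fact p.Prime] {A B : Subgroup (Equiv.Perm GolayPt)} (hAB : A ≤ B) [IsSimpleGroup A] {a b : ℕ}
    (ha : Nat.card A = a) (hb : Nat.card B = b) (hab : a ≠ b) (hna : ¬ a.Prime) (h : p ∣ a) : Lw p B := by
  refine Lw.of_simple (Q := A) (not_solvable ha hna) (by rw [ha]; exact h) (Subgroup.inclusion hAB)
    (Subgroup.inclusion_injective hAB) fun hs => hab ?_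
  rw [← ha, ← hb]
  exact Nat.card_congr (Equiv.ofBijective _ ⟨Subgroup.inclusion_injective hAB, hs⟩)

/-! ### the rows -/

theorem noE_m12 {K : Type*} [Group K] [Finite K] [IsSimpleGroup K] (h : Cfsg.Spor.IsoM12 K) {p : ℕ} [Fact p.Prime]
    (hp : 5 ≤ p) (_hb : Cfsg.Agent.H301.SY.Blk p K) (_hO : Cfsg.Agent.H301.SY.ThO p K) :
    Cfsg.Agent.H301.SY.NoE p K := by
  obtain ⟨e⟩ := h
  refine NoE.congr e ?_
  have hc : Nat.card Spor.M12 = 95040 := Cfsg.Agent.MTwelveType.SylowModel.card_M12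
  by_cases hd : p ∣ 95040
  · have h1 := mem_of_dvd (Fact.out : p.Prime) [(2, 6), (3, 3), (5, 1), (11, 1)] (by norm_num) (by norm_num; exact hd)
    have := Cfsg.Agent.FooteOdd.SporMEleven.simple
    have h2 : p = 5 ∨ p = 11 := by
      simp at h1
      omega
    refine NoE.of_lw (cyclic_of_card ?_) (lw_of_le (A := Spor.M11) inf_le_left Cfsg.Agent.FooteOdd.SporMEleven.card hc
      (by norm_num) (by norm_num) ?_)
    · rw [hc]; rcases h2 with rfl | rfl <;> norm_num
    · rcases h2 with rfl | rfl <;> norm_num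
  · exact noE_of_not_dvd (by rw [hc]; exact hd)

theorem noE_m22 {K : Type*} [Group K] [Finite K] [IsSimpleGroup K] (h : Cfsg.Spor.IsoM22 K) {p : ℕ} [Fact p.Prime]
    (hp : 5 ≤ p) (hb : Cfsg.Agent.H301.SY.Blk p K) (hO : Cfsg.Agent.H301.SY.ThO p K) :
    Cfsg.Agent.H301.SY.NoE p K := by
  obtain ⟨e⟩ := h
  have hc : Nat.card Spor.M22 = 443520 := Cfsg.Agent.SporadicA.MathieuRecog.card_M22
  have hcK : Nat.card K = 443520 := by rw [Nat.card_congr e.toEquiv, hc]
  by_cases hd : p ∣ 443520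
  · have h1 := mem_of_dvd (Fact.out : p.Prime) [(2, 7), (3, 2), (5, 1), (7, 1), (11, 1)] (by norm_num only [_root_.List.mem_cons, _root_.List.not_mem_nil, _root_.or_false, _root_.forall_eq_or_imp, _root_.forall_eq, _root_.and_self])
      (by norm_num; exact hd)
    have h2 : (p = 5 ∨ p = 7) ∨ p = 11 := by
      simp at h1
      omega
    rcases h2 with h2 | rfl
    · refine NoE.congr e (NoE.of_lw (cyclic_of_card ?_) (lw_m22 ?_))
      · rw [hc]; rcases h2 with rfl | rfl <;> norm_num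
      · rcases h2 with rfl | rfl <;> norm_num
    · have hcyc := cyclic_of_card (K := K) (p := 11) (by rw [hcK]; norm_num)
      refine NoE.of_m0 (not_comm hcK (by norm_num)) hcyc fun x hx hR hY => m0_num hcyc hb hO hx hR hY ?_
      intro t ht _ htd
      left
      have h3 := mem_of_dvd ht [(2, 1), (5, 1)] (by norm_num) (by norm_num at htd ⊢; exact htd)
      have h4 : t = 2 ∨ t = 5 := by
        simp at h3
        omega
      rw [hcK]
      rcases h4 with rfl | rfl
      · exact no_pow (b := 7) (by norm_num) (by decide)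
      · exact no_pow (b := 1) (by norm_num) (by decide)
  · exact noE_of_not_dvd (by rw [hcK]; exact hd)

theorem noE_m23 {K : Type*} [Group K] [Finite K] [IsSimpleGroup K] (h : Cfsg.Spor.IsoM23 K) {p : ℕ} [Fact p.Prime]
    (hp : 5 ≤ p) (hb : Cfsg.Agent.H301.SY.Blk p K) (hO : Cfsg.Agent.H301.SY.ThO p K) :
    Cfsg.Agent.H301.SY.NoE p K := by
  obtain ⟨e⟩ := h
  have hc : Nat.card Spor.M23 = 10200960 := Cfsg.Agent.SporadicA.MathieuRecog.card_M23
  have hcK : Nat.card K = 10200960 := by rw [Nat.card_congr e.toEquiv, hc]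
  by_cases hd : p ∣ 10200960
  · have h1 := mem_of_dvd (Fact.out : p.Prime) [(2, 7), (3, 2), (5, 1), (7, 1), (11, 1), (23, 1)] (by norm_num only [_root_.List.mem_cons, _root_.List.not_mem_nil, _root_.or_false, _root_.forall_eq_or_imp, _root_.forall_eq, _root_.and_self])
      (by norm_num; exact hd)
    have h2 : (p = 5 ∨ p = 7 ∨ p = 11) ∨ p = 23 := by
      simp at h1
      omega
    rcases h2 with h2 | rfl
    · have := Cfsg.Agent.SporadicA.MathieuRecog.simple_M22
      refine NoE.congr e (NoE.of_lw (cyclic_of_card ?_) (lw_of_le (A := Spor.M22) inf_le_left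
        Cfsg.Agent.SporadicA.MathieuRecog.card_M22 hc (by norm_num) (by norm_num) ?_))
      · rw [hc]; rcases h2 with rfl | rfl | rfl <;> norm_num
      · rcases h2 with rfl | rfl | rfl <;> norm_num
    · have hcyc := cyclic_of_card (K := K) (p := 23) (by rw [hcK]; norm_num)
      refine NoE.of_m0 (not_comm hcK (by norm_num)) hcyc fun x hx hR hY => m0_num hcyc hb hO hx hR hY ?_
      intro t ht _ htd
      left
      have h3 := mem_of_dvd ht [(2, 1), (11, 1)] (by norm_num) (by norm_num at htd ⊢; exact htd)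
      have h4 : t = 2 ∨ t = 11 := by
        simp at h3
        omega
      rw [hcK]
      rcases h4 with rfl | rfl
      · exact no_pow (b := 7) (by norm_num) (by decide)
      · exact no_pow (b := 1) (by norm_num) (by decide)
  · exact noE_of_not_dvd (by rw [hcK]; exact hd)

theorem noE_m24 {K : Type*} [Group K] [Finite K] [IsSimpleGroup K] (h : Cfsg.Spor.IsoM24 K) {p : ℕ} [Fact p.Prime]
    (hp : 5 ≤ p) (_hb : Cfsg.Agent.H301.SY.Blk p K) (_hO : Cfsg.Agent.H301.SY.ThO p K) :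
    Cfsg.Agent.H301.SY.NoE p K := by
  obtain ⟨e⟩ := h
  refine NoE.congr e ?_
  have hc : Nat.card M24 = 244823040 := Cfsg.Agent.SporadicA.M24Trans.card_M24
  by_cases hd : p ∣ 244823040
  · have h1 := mem_of_dvd (Fact.out : p.Prime) [(2, 10), (3, 3), (5, 1), (7, 1), (11, 1), (23, 1)] (by norm_num only [_root_.List.mem_cons, _root_.List.not_mem_nil, _root_.or_false, _root_.forall_eq_or_imp, _root_.forall_eq, _root_.and_self])
      (by norm_num; exact hd)
    have := Cfsg.Agent.S2037.simple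
    have h2 : p = 5 ∨ p = 7 ∨ p = 11 ∨ p = 23 := by
      simp at h1
      omega
    refine NoE.of_lw (cyclic_of_card ?_) (lw_of_le (A := Spor.M23) inf_le_left Cfsg.Agent.SporadicA.MathieuRecog.card_M23
      hc (by norm_num) (by norm_num) ?_)
    · rw [hc]; rcases h2 with rfl | rfl | rfl | rfl <;> norm_num
    · rcases h2 with rfl | rfl | rfl | rfl <;> norm_num
  · exact noE_of_not_dvd (by rw [hc]; exact hd)

end Cfsg.Agent.H621.SYMathieu
end

-- part: H454/SYAux
section
/-!
# `RE` implies `RC` in simple groups (helper454, for S3846)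

* `RE.rc` : in a simple group an element which lies in the radical of each proper subgroup containing it is radical (`RC`);
-/

set_option autoImplicit false
set_option maxRecDepth 20000

namespace Cfsg.Agent.H454.SY

open Subgroup Cfsg Cfsg.Agent.H459.Rad Cfsg.Agent.H459.Iface Cfsg.Agent.H301.SY

/-- `RE` implies `RC` in a simple group -/
theorem RE.rc {K : Type*} [Group K] [Finite K] [IsSimpleGroup K] {x : K} (h : RE x) : RC (MulAut.conj x) := by
  intro M hM hx m hm
  have hxm : ∀ m ∈ M, x * m * x⁻¹ ∈ M := hx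
  have hinj : ∀ a ∈ M, x⁻¹ * a * x ∈ M := by
    intro a ha
    have h1 : M.map (MulAut.conj x).toMonoidHom ≤ M := by
      rintro _ ⟨b, hb, rfl⟩
      exact hx b hb
    have h2 : M.map (MulAut.conj x).toMonoidHom = M := by
      apply eq_of_le_of_card_ge h1
      rw [Subgroup.card_map_of_injective (MulAut.conj x).injective]
    rw [← h2] at ha
    obtain ⟨b, hb, rfl⟩ := ha
    have h3 : x⁻¹ * (MulAut.conj x).toMonoidHom b * x = b := by
      show x⁻¹ * (x * b * x⁻¹) * x = b
      group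
    rwa [h3]
  have hzp : ∀ k : ℤ, ∀ a ∈ M, x ^ k * a * (x ^ k)⁻¹ ∈ M := by
    intro k
    induction k using Int.induction_on with
    | zero => intro a ha; simpa using ha
    | succ i ih =>
      intro a ha
      have h1 := ih _ (hxm a ha)
      have e : x ^ ((i : ℤ) + 1) * a * (x ^ ((i : ℤ) + 1))⁻¹ = x ^ (i : ℤ) * (x * a * x⁻¹) * (x ^ (i : ℤ))⁻¹ := by
        rw [zpow_add_one]; group
      rwa [e]
    | pred i ih =>
      intro a ha
      have h1 := ih _ (hinj a ha)
      have e : x ^ (-(i : ℤ) - 1) * a * (x ^ (-(i : ℤ) - 1))⁻¹ = x ^ (-(i : ℤ)) * (x⁻¹ * a * x) * (x ^ (-(i : ℤ)))⁻¹ := by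
        rw [zpow_sub_one]; group
      rwa [e]
  set H := M ⊔ zpowers x with hH
  have hnorm : ∀ g ∈ H, ∀ a ∈ M, g * a * g⁻¹ ∈ M := by
    have h1 : H ≤ normalizer (M : Set K) := by
      rw [hH]
      refine sup_le le_normalizer ?_
      rw [zpowers_le]
      refine mem_normalizer_iff.2 fun a => ⟨hxm a, fun ha => ?_⟩
      have := hinj _ ha
      have e : x⁻¹ * (x * a * x⁻¹) * x = a := by group
      rwa [e] at this
    intro g hg a ha
    exact (mem_normalizer_iff.1 (h1 hg) a).1 ha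
  by_cases hHt : H = ⊤
  · have hn : M.Normal := ⟨fun a ha g => hnorm g (hHt ▸ mem_top g) a ha⟩
    rcases hn.eq_bot_or_eq_top with h1 | h1
    · rw [h1, mem_bot] at hm
      rw [hm, map_one, inv_one, mul_one]
      exact one_mem _
    · exact absurd h1 hM
  · have hxH : x ∈ H := mem_sup_right (mem_zpowers x)
    have hmH : m ∈ H := mem_sup_left hm
    have h1 := h H hHt hxH
    refine radIn_inf_le (M := M) (H := H) le_sup_left ⟨?_, M.mul_mem (M.inv_mem hm) (hx m hm)⟩
    have h2 : m⁻¹ * x * m⁻¹⁻¹ ∈ radIn H := radIn_conj_mem (H.inv_mem hmH) h1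
    have e : m⁻¹ * MulAut.conj x m = (m⁻¹ * x * m⁻¹⁻¹) * x⁻¹ := by
      rw [MulAut.conj_apply]; group
    have h3 : m⁻¹ * MulAut.conj x m ∈ radIn H := by
      rw [e]
      exact (radIn H).mul_mem h2 ((radIn H).inv_mem h1)
    exact h3

end Cfsg.Agent.H454.SY
end

-- part: H454/SYCoOne
section
/-!
# The row `Co1` of S3846 (helper454)
-/

set_option autoImplicit false
set_option maxRecDepth 20000

namespace Cfsg.Agent.H454.SYCoOne

open Subgroup Cfsg Cfsg.Agent.H459.Rad Cfsg.Agent.H459.Iface Cfsg.Agent.H301.SY Cfsg.Agent.H454.SY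
open Cfsg.Agent.H813.RadCo1 Cfsg.Agent.H813.CoSevenMain
open Cfsg.Agent.SporadicA.Co0Mono
open Cfsg.Agent.H839.Rad (rc_conj mem_rad)
open Cfsg.Agent.KFacts.Co1D4

instance simple_co1 : IsSimpleGroup Spor.Co1 := Cfsg.Agent.S0399.result.1

theorem card_co1 : Nat.card Spor.Co1 = 4157776806543360000 := Cfsg.Agent.S0399.result.2

theorem five : NoE 5 Spor.Co1 := by
  intro x hx hR _
  obtain ⟨t, ht, hxt⟩ := exists_inv_five hx
  exact false_of_inv Nat.prime_five (by norm_num) hx (RE.rc hR) ht hxt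

theorem seven : NoE 7 Spor.Co1 := by
  intro x hx hR _
  have h := RE.rc hR
  have hp : Nat.Prime 7 := by norm_num
  have : Fact (Nat.Prime 7) := ⟨hp⟩
  -- a conjugate commutes with `pp`
  obtain ⟨x', hx', h', hc⟩ : ∃ x' : Spor.Co1, orderOf x' = 7 ∧ RC (MulAut.conj x') ∧ x' * pp = pp * x' := by
    have h1 : IsPGroup 7 ↥(zpowers x) := IsPGroup.of_card (n := 1) (by rw [Nat.card_zpowers, hx, pow_one])
    have h2 : IsPGroup 7 ↥(zpowers pp) := IsPGroup.of_card (n := 1) (by rw [Nat.card_zpowers, order_pp, pow_one])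
    obtain ⟨P, hP⟩ := h1.exists_le_sylow
    obtain ⟨P', hP'⟩ := h2.exists_le_sylow
    obtain ⟨g, hg⟩ := MulAction.exists_smul_eq Spor.Co1 P P'
    have h3 : g * x * g⁻¹ ∈ (P' : Subgroup Spor.Co1) := by
      rw [← hg, Sylow.coe_subgroup_smul]
      exact smul_mem_pointwise_smul x (MulAut.conj g) _ (hP (mem_zpowers x))
    refine ⟨g * x * g⁻¹, by rw [← MulAut.conj_apply, MulEquiv.orderOf_eq, hx], rc_conj h g, ?_⟩
    have h4 : Nat.card ↥(P' : Subgroup Spor.Co1) ∣ 7 ^ 2 := by
      obtain ⟨n, hn⟩ := IsPGroup.iff_card.1 P'.isPGroup'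
      have h5 : 7 ^ n ∣ Nat.card Spor.Co1 := hn ▸ card_subgroup_dvd_card _
      rw [card_co1] at h5
      have h6 : n ≤ 2 := by
        by_contra h7
        have h8 : 7 ^ 3 ∣ 4157776806543360000 := (pow_dvd_pow 7 (by omega : 3 ≤ n)).trans h5
        revert h8
        norm_num
      rw [hn]
      exact pow_dvd_pow 7 h6
    have h5 := Cfsg.Agent.H813.CoSevenCard.comm_of_le hp h4 ⟨_, h3⟩ ⟨pp, hP' (mem_zpowers pp)⟩
    exact congrArg Subtype.val h5
  -- it centralizes `BB`
  have hBt : BB ≠ ⊤ := by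
    intro h1
    have h2 := card_BB
    rw [h1, Subgroup.card_top, card_co1] at h2
    norm_num at h2
  have hcm : ∀ m ∈ BB, MulAut.conj x' m ∈ BB := fun m hm =>
    conj_mem_of_card BB_le BB_center (by rw [order_pp, card_BB]; exact card_cent_pp) hc hm
  have hrad : solvableRadical ↥BB = ⊥ := by
    refine rad_eq_bot_of_simple fun h1 => BB_not_comm ⟨⟨IsSimpleGroup.comm_iff_isSolvable.2 h1⟩⟩
  obtain ⟨t, ht⟩ := exists_prime_orderOf_dvd_card' 2 (show 2 ∣ Nat.card ↥BB by rw [card_BB]; norm_num)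
  have h2 := h'.eq_of_rad_eq_bot hBt hcm hrad t.2
  rw [MulAut.conj_apply, mul_inv_eq_iff_eq_mul] at h2
  exact false_of_inv hp (by norm_num) hx' h' (t := t) (by rw [Subgroup.orderOf_coe, ht]) h2

theorem lw_m24 {p : ℕ} [hp : Fact p.Prime] (h : p ∣ 244823040) : Lw p Spor.Co1 := by
  have hs : IsSimpleGroup M24 := Cfsg.Agent.S0365.result
  refine Lw.of_simple (Q := M24) not_solvable_M24 (by rw [Cfsg.Agent.S0364.result]; exact h) pm pm_inj fun hsurj => ?_
  have h1 := Nat.card_le_card_of_surjective _ hsurj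
  rw [card_co1, Cfsg.Agent.S0364.result] at h1
  omega

theorem lw_thirteen : Lw 13 Spor.Co1 := by
  have : Fact (Nat.Prime 13) := ⟨by norm_num⟩
  have hs : IsSimpleGroup ↥GTwo.L := GTwo.simple_L
  refine Lw.of_simple (Q := ↥GTwo.L)
    (Cfsg.Agent.SignalizersComponents.Components.quasisimple_not_isSolvable CTwoTab.Co1.quasisimple_L)
    (by rw [GTwo.card_L]; norm_num) GTwo.L.subtype GTwo.L.subtype_injective fun hsurj => ?_
  have h1 := Nat.card_le_card_of_surjective _ hsurj
  rw [card_co1, GTwo.card_L] at h1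
  omega

theorem primes {p : ℕ} (hp : p.Prime) (h : p ∣ 4157776806543360000) :
    p = 2 ∨ p = 3 ∨ p = 5 ∨ p = 7 ∨ p = 11 ∨ p = 13 ∨ p = 23 := by
  rw [show 4157776806543360000 = 2 ^ 21 * 3 ^ 9 * 5 ^ 4 * 7 ^ 2 * 11 * 13 * 23 by norm_num] at h
  simp only [hp.dvd_mul] at h
  have key : ∀ {r k : ℕ}, r.Prime → p ∣ r ^ k → p = r := fun hr h1 =>
    (Nat.prime_dvd_prime_iff_eq hp hr).1 (hp.dvd_of_dvd_pow h1)
  have key' : ∀ {r : ℕ}, r.Prime → p ∣ r → p = r := fun hr h1 => (Nat.prime_dvd_prime_iff_eq hp hr).1 h1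
  rcases h with (((((h | h) | h) | h) | h) | h) | h
  · exact Or.inl (key Nat.prime_two h)
  · exact Or.inr (Or.inl (key Nat.prime_three h))
  · exact Or.inr (Or.inr (Or.inl (key Nat.prime_five h)))
  · exact Or.inr (Or.inr (Or.inr (Or.inl (key (by norm_num) h))))
  · exact Or.inr (Or.inr (Or.inr (Or.inr (Or.inl (key' (by norm_num) h)))))
  · exact Or.inr (Or.inr (Or.inr (Or.inr (Or.inr (Or.inl (key' (by norm_num) h))))))
  · exact Or.inr (Or.inr (Or.inr (Or.inr (Or.inr (Or.inr (key' (by norm_num) h))))))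

theorem cyc {p : ℕ} [hp : Fact p.Prime] (h : ¬ p ^ 2 ∣ 4157776806543360000) (P : Sylow p Spor.Co1) :
    IsCyclic (P : Subgroup Spor.Co1) := cyclic_of_card (by rwa [card_co1]) P

theorem all {p : ℕ} [hp : Fact p.Prime] (hp5 : 5 ≤ p) : NoE p Spor.Co1 := by
  by_cases hd : p ∣ 4157776806543360000
  · rcases primes hp.out hd with rfl | rfl | rfl | rfl | rfl | rfl | rfl
    · omega
    · omega
    · exact five
    · exact seven
    · exact NoE.of_lw (cyc (by norm_num)) (lw_m24 (by norm_num))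
    · exact NoE.of_lw (cyc (by norm_num)) lw_thirteen
    · exact NoE.of_lw (cyc (by norm_num)) (lw_m24 (by norm_num))
  · intro x hx _ _
    apply hd
    rw [← card_co1, ← hx]
    exact _root_.orderOf_dvd_natCard x

/-- **The row `Co1`.** -/
theorem noE_co1 {K : Type*} [Group K] [Finite K] [IsSimpleGroup K] (h : Cfsg.Spor.IsoCo1 K) {p : ℕ} [Fact p.Prime]
    (hp : 5 ≤ p) (_ : Cfsg.Agent.H301.SY.Blk p K) (_ : Cfsg.Agent.H301.SY.ThO p K) : Cfsg.Agent.H301.SY.NoE p K := by
  obtain ⟨e⟩ := h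
  exact NoE.congr e (all hp)

end Cfsg.Agent.H454.SYCoOne
end

-- part: H70/NoEHe
section
/-!
# S3846, the row of the Held group (helper70)

For every element `x` of order 5, 7, 17 there is a proper subgroup `M` (the centralizer of an element, or the stabilizer of a
point) and `g ∈ M` such that `x ∈ M` and `⟨x, g x g⁻¹⟩` is not solvable; so `RE x` is false.
-/

set_option autoImplicit false
set_option maxRecDepth 100000

namespace Cfsg.Agent.H70.NoEHe

open Subgroup Cfsg
open Cfsg.Spor.He (Gen)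
open Cfsg.Agent.SporadicB.HePerm (act wd phi phi_wd_apply)
open Cfsg.Agent.FixBN.HeStab Cfsg.Agent.KFacts.He.Lv Cfsg.Agent.CpAutHe.Cnt
open Cfsg.Agent.H459.Rad Cfsg.Agent.H301.SY Cfsg.Agent.H587.NR.He

abbrev G : Type := Cfsg.Spor.He

/-- the certificate -/
def cert (X g : List Gen) (l : List ℕ) (d m n k : ℕ) : Bool := certB X g l d m n k (pw (ex X g l) d)

theorem not_re {M : Subgroup G} (hM : M ≠ ⊤) {X g : List Gen} (hX : wd X ∈ M) (hg : wd g ∈ M) {l : List ℕ}
    {d m n k : ℕ} (h : cert X g l d m n k = true) : ¬ RE (wd X) := by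
  intro hR
  have h0 := hR M hM hX
  have hs : Group.IsSolvable ↥(_root_.Subgroup.closure ({wd X, wd g * wd X * (wd g)⁻¹} : Set G)) := by
    refine H587.NR.solvable_le ?_ (radIn_solvable M)
    rw [closure_le]
    rintro y (rfl | rfl)
    · exact h0
    · exact radIn_conj_mem hg h0
  unfold cert certB at h
  simp only [Bool.and_eq_true] at h
  obtain ⟨⟨⟨-, h2⟩, h3, h4⟩, ⟨h5, h6⟩, h7, h8⟩ := h
  have e2 := eq_of_chkB h2
  have e3 := eq_of_chkB h3
  have e4 := eq_of_chkB h4
  rw [wd_pw, wd_nil] at e2 e3 e4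
  rw [wd_append] at e4
  have e8 : wd X ≠ 1 := by
    rw [← wd_nil]
    refine ne_of_chkB ?_
    simpa using h8
  refine e8 (H587.NR.eq_one_of_triple hs (_root_.Subgroup.subset_closure (by simp)) ?_ e2 e3 e4 (Nat.eq_of_beq_eq_true h5)
    (Nat.eq_of_beq_eq_true h6) (Nat.eq_of_beq_eq_true h7))
  rw [wd_pw]
  exact pow_mem (ex_mem X g l) d

/-- the group centralized by `u` -/
theorem not_re_cent {u X g : List Gen} (hu : chkB u [] = false) (hX : chkB (u ++ X) (X ++ u) = true)
    (hg : chkB (u ++ g) (g ++ u) = true) {l : List ℕ} {d m n k : ℕ} (h : cert X g l d m n k = true) : ¬ RE (wd X) := by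
  have key : ∀ {w : List Gen}, chkB (u ++ w) (w ++ u) = true → wd w ∈ centralizer ({wd u} : Set G) := by
    intro w hw
    have h1 := eq_of_chkB hw
    rw [wd_append, wd_append] at h1
    rw [mem_centralizer_singleton_iff]
    exact h1.symm
  refine not_re (M := centralizer ({wd u} : Set G)) ?_ (key hX) (key hg) h
  intro ht
  have h1 : wd u ∈ center G := by
    rw [mem_center_iff]
    intro g
    exact mem_centralizer_singleton_iff.1 (ht ▸ mem_top g)
  rw [center_bot, mem_bot, ← wd_nil] at h1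
  exact ne_of_chkB hu h1

/-- elements of order dividing `p` with `RE` -/
def S (p : ℕ) (x : G) : Prop := x ^ p = 1 ∧ RE x

theorem S.conj {p : ℕ} {x : G} (h : S p x) (u : G) : S p (u * x * u⁻¹) := by
  have := H436.HeFive.finite_he
  refine ⟨?_, h.2.map (MulAut.conj u)⟩
  rw [conj_pow, h.1, mul_one, mul_inv_cancel]

/-- `x ^ k` and `x` generate the same group if `x ^ (k * k') = x` -/
theorem S.of_pow {p : ℕ} {x : G} {k k' : ℕ} (h : S p (x ^ k)) (hk : x ^ (k * k') = x) : S p x := by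
  have hx : x ∈ zpowers (x ^ k) := ⟨(k' : ℤ), by
    show (x ^ k) ^ (k' : ℤ) = x
    rw [zpow_natCast, ← pow_mul, hk]⟩
  refine ⟨?_, fun M hM hxM => ?_⟩
  · obtain ⟨j, hj⟩ := hx
    have hj' : (x ^ k) ^ j = x := hj
    rw [← hj', ← zpow_natCast, ← zpow_mul, mul_comm, zpow_mul, zpow_natCast, h.1, one_zpow]
  · have h1 := h.2 M hM (pow_mem hxM k)
    exact zpowers_le.2 h1 hx

theorem S.pow {p : ℕ} (hp : p.Prime) {x : G} (h : S p x) (k : ℕ) : S p (x ^ k) := by
  refine ⟨by rw [← pow_mul, mul_comm, pow_mul, h.1, one_pow], fun M hM hxM => ?_⟩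
  by_cases hk : p ∣ k
  · obtain ⟨c, rfl⟩ := hk
    rw [pow_mul, h.1, one_pow]
    exact one_mem _
  · have hc : Nat.Coprime k (orderOf x) := by
      refine Nat.Coprime.coprime_dvd_right (orderOf_dvd_of_pow_eq_one h.1) ?_
      exact ((Nat.Prime.coprime_iff_not_dvd hp).2 hk).symm
    obtain ⟨m, hm⟩ := exists_pow_eq_self_of_coprime hc
    refine pow_mem (h.2 M hM ?_) k
    rw [← hm]
    exact pow_mem hxM m

/-- a representative conjugate to a power of `y` -/
theorem S.rep {p : ℕ} {R c y : List Gen} {k k' : ℕ} (h : S p (wd R)) (hc : chkB (c ++ R) (pw y k ++ c) = true)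
    (hk : chkB (pw y (k * k')) y = true) : S p (wd y) := by
  have h1 := eq_of_chkB hc
  rw [wd_append, wd_append, wd_pw] at h1
  have h2 := eq_of_chkB hk
  rw [wd_pw] at h2
  have h3 := h.conj (wd c)
  rw [h1, mul_inv_cancel_right] at h3
  exact h3.of_pow h2

/-! ### Order 7 -/

def yA : List Gen := [.d, .f, .g]
def yD : List Gen := [.f, .d, .c, .d, .f, .g, .d, .c, .d, .g, .b, .f, .d, .c, .d, .f, .g, .d, .c, .d, .g, .b]
def yC : List Gen := [.b, .c, .d, .g, .d, .e, .c, .d, .g, .f, .c]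

theorem no_yA : ¬ RE (wd yA) :=
  not_re_cent (u := [.a]) (g := [.c]) (l := [0, 0, 3]) (d := 2) (m := 7) (n := 5) (k := 3) (by decide +kernel)
    (by decide +kernel) (by decide +kernel) (by decide +kernel)

theorem no_yD : ¬ RE (wd yD) :=
  not_re_cent (u := [.d]) (g := [.b]) (l := [0, 2]) (d := 1) (m := 7) (n := 3) (k := 2) (by decide +kernel)
    (by decide +kernel) (by decide +kernel) (by decide +kernel)

theorem no_yC : ¬ RE (wd yC) :=
  not_re_cent (u := [.d, .f]) (g := [.a]) (l := [0, 0, 2]) (d := 3) (m := 7) (n := 5) (k := 6) (by decide +kernel)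
    (by decide +kernel) (by decide +kernel) (by decide +kernel)

theorem seven {x : G} (hx : orderOf x = 7) (hR : RE x) : False := by
  have hf := H436.HeFive.finite_he
  have h7 : Fact (Nat.Prime 7) := ⟨by norm_num⟩
  have hS : S 7 x := ⟨by rw [← hx]; exact pow_orderOf_eq_one x, hR⟩
  have r1 : wd B7 * wd A7 = wd W7 * (wd A7 * wd B7) := by
    have h1 := eq_of_chkB (show chkB (B7 ++ A7) (W7 ++ (A7 ++ B7)) = true by decide +kernel)
    rwa [wd_append, wd_append, wd_append] at h1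
  have r2 : wd A7 * wd W7 = wd W7 * wd A7 := by
    have h1 := eq_of_chkB (show chkB (A7 ++ W7) (W7 ++ A7) = true by decide +kernel)
    rwa [wd_append, wd_append] at h1
  have r3 : wd B7 * wd W7 = wd W7 * wd B7 := by
    have h1 := eq_of_chkB (show chkB (B7 ++ W7) (W7 ++ B7) = true by decide +kernel)
    rwa [wd_append, wd_append] at h1
  have r4 : wd A7 ^ 7 = 1 := by
    have h1 := eq_of_chkB (show chkB (pw A7 7) [] = true by decide +kernel)
    rwa [wd_pw, wd_nil] at h1
  have r5 : wd B7 ^ 7 = 1 := by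
    have h1 := eq_of_chkB (show chkB (pw B7 7) [] = true by decide +kernel)
    rwa [wd_pw, wd_nil] at h1
  have r6 : wd W7 ^ 7 = 1 := by
    have h1 := eq_of_chkB (show chkB (pw W7 7) [] = true by decide +kernel)
    rwa [wd_pw, wd_nil] at h1
  have r7 : wd W7 ≠ 1 := by
    rw [← wd_nil]
    exact ne_of_chkB (by decide +kernel)
  have key : ∀ (j : ℕ) (X : List Gen), chkB (A7 ++ pw B7 j) X = true → wd A7 * wd B7 ^ j = wd X := by
    intro j X hj
    have h1 := eq_of_chkB hj
    rwa [wd_append, wd_pw] at h1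
  rcases H587.NR.exists_extra (p := 7) r1 r2 r3 r4 r5 r6 r7 (by rw [card_he]; norm_num) (S := S 7)
    (fun x k h => h.pow (by norm_num) k) (fun x u h => h.conj u) hx hS with h | h | ⟨j, hj, h⟩
  · exact no_yC (h.rep (k := 3) (k' := 5)
      (c := [.e, .d, .c, .b, .d, .c, .d, .g, .d, .c, .d, .c, .d, .g, .d, .c, .d]) (by decide +kernel) (by decide +kernel)).2
  · exact no_yA (h.rep (k := 1) (k' := 1)
      (c := [.d, .c, .b, .d, .g, .f, .d, .c, .b, .d, .c, .f, .d, .g, .b, .c, .d, .f, .c, .b]) (by decide +kernel)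
      (by decide +kernel)).2
  · interval_cases j
    · exact no_yD ((key _ _ eq7_0 ▸ h : S 7 (wd X7_0)).rep (k := 1) (k' := 1)
        (c := [.a, .e, .f, .d, .c, .b, .g, .f, .d, .c, .d, .c, .f, .d, .e, .b, .c, .d, .b, .c, .d, .g]) (by decide +kernel)
        (by decide +kernel)).2
    · exact no_yC ((key _ _ eq7_1 ▸ h : S 7 (wd X7_1)).rep (k := 1) (k' := 1)
        (c := [.c, .b, .d, .c, .d, .c, .b, .e, .f, .d, .c, .d, .f, .c]) (by decide +kernel) (by decide +kernel)).2
    · exact no_yC ((key _ _ eq7_2 ▸ h : S 7 (wd X7_2)).rep (k := 3) (k' := 5)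
        (c := [.g, .d, .c, .d, .c, .b, .e, .g, .d, .c, .d, .g, .f, .d, .g, .a]) (by decide +kernel) (by decide +kernel)).2
    · exact no_yA ((key _ _ eq7_3 ▸ h : S 7 (wd X7_3)).rep (k := 1) (k' := 1)
        (c := [.c, .f, .d, .c, .b, .d, .c, .d, .c, .e, .d, .g, .b, .c, .d, .c, .d, .f, .g, .c, .b]) (by decide +kernel)
        (by decide +kernel)).2
    · exact no_yD ((key _ _ eq7_4 ▸ h : S 7 (wd X7_4)).rep (k := 1) (k' := 1)
        (c := [.a, .c, .b, .e, .d, .c, .d, .c, .f, .d, .c, .g, .d, .b, .c, .d, .g, .d, .b, .c, .d, .f]) (by decide +kernel)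
        (by decide +kernel)).2
    · exact no_yD ((key _ _ eq7_5 ▸ h : S 7 (wd X7_5)).rep (k := 1) (k' := 1)
        (c := [.f, .d, .c, .b, .d, .c, .e, .f, .d, .c, .d, .b]) (by decide +kernel) (by decide +kernel)).2
    · exact no_yC ((key _ _ eq7_6 ▸ h : S 7 (wd X7_6)).rep (k := 1) (k' := 1)
        (c := [.g, .d, .c, .d, .c, .b, .g, .d, .c, .f, .d, .c, .d, .f, .e, .c, .d, .b]) (by decide +kernel)
        (by decide +kernel)).2

/-! ### Order 5 -/

theorem no_five : ¬ RE (wd H436.HeFive.X) :=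
  not_re_cent (u := [.a]) (g := [.e]) (l := [0, 3]) (d := 1) (m := 5) (n := 3) (k := 2) (by decide +kernel)
    (by decide +kernel) (by decide +kernel) (by decide +kernel)

/-- an element of the same order in `⟨y⟩` -/
theorem S.of_zpowers {p : ℕ} {w y : G} (h : S p w) (hw : orderOf w = p) (hy : orderOf y = p) (hwy : w ∈ zpowers y) :
    S p y := by
  have hf := H436.HeFive.finite_he
  have h1 : zpowers w = zpowers y :=
    eq_of_le_of_card_ge (zpowers_le.2 hwy) (by rw [Nat.card_zpowers, Nat.card_zpowers, hw, hy])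
  have h2 : y ∈ zpowers w := by rw [h1]; exact mem_zpowers y
  refine ⟨by rw [← hy]; exact pow_orderOf_eq_one y, fun M hM hyM => ?_⟩
  exact zpowers_le.2 (h.2 M hM (zpowers_le.2 hyM hwy)) h2

theorem five {x : G} (hx : orderOf x = 5) (hR : RE x) : False := by
  obtain ⟨u, hu⟩ := H436.HeFive.exists_conj hx
  have hS : S 5 x := ⟨by rw [← hx]; exact pow_orderOf_eq_one x, hR⟩
  exact no_five ((hS.conj u).of_zpowers (by rw [CpAutHe.Seven.orderOf_conj', hx]) H436.HeFive.orderX hu).2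

/-! ### Order 17 -/

/-- the stabilizer of a point -/
noncomputable def St : Subgroup G := (MulAction.stabilizer (Equiv.Perm (Fin 2058)) (1927 : Fin 2058)).comap phi

theorem mem_St {w : List Gen} (h : Nat.beq (act w 1927) 1927 = true) : wd w ∈ St := by
  show phi (wd w) 1927 = 1927
  apply Fin.ext
  rw [← act_eq w 1927]
  exact Nat.eq_of_beq_eq_true h

theorem St_ne : St ≠ ⊤ := by
  intro h
  have h1 : wd [.b] ∈ St := h ▸ mem_top _
  have h2 : phi (wd [.b]) 1927 = 1927 := h1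
  have h3 := act_eq [.b] 1927
  rw [h2] at h3
  have h4 : Nat.beq (act [.b] 1927) 1927 = false := by decide +kernel
  have h5 : act [.b] 1927 = 1927 := h3
  rw [h5] at h4
  exact absurd h4 (by decide)

theorem no_seventeen : ¬ RE (wd H393.Sp.He.X) :=
  not_re (M := St) St_ne (mem_St (by decide +kernel)) (g := [.a, .c, .e]) (mem_St (by decide +kernel)) (l := [0, 3])
    (d := 3) (m := 17) (n := 2) (k := 15) (by decide +kernel)

theorem seventeen {x : G} (hx : orderOf x = 17) (hR : RE x) : False := by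
  have hf := H436.HeFive.finite_he
  have h17 : Fact (Nat.Prime 17) := ⟨by norm_num⟩
  obtain ⟨u, hu⟩ := CpAutON.Gen.conj_into (G := G) (p := 17) (by rw [card_he]; norm_num) hx H393.Sp.He.order
  have hS : S 17 x := ⟨by rw [← hx]; exact pow_orderOf_eq_one x, hR⟩
  exact no_seventeen ((hS.conj u).of_zpowers (by rw [CpAutHe.Seven.orderOf_conj', hx]) H393.Sp.He.order hu).2

theorem no_re_he {p : ℕ} (hp : p.Prime) (h5 : 5 ≤ p) {x : G} (hx : orderOf x = p) (hR : RE x) : False := by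
  have hf := H436.HeFive.finite_he
  have h1 : p ∣ 4030387200 := by
    rw [← card_he, ← hx]
    exact _root_.orderOf_dvd_natCard x
  rw [show (4030387200 : ℕ) = 2 ^ 10 * (3 ^ 3 * (5 ^ 2 * (7 ^ 3 * 17))) by norm_num] at h1
  have h2 : ∀ {a b n : ℕ}, a.Prime → p ∣ a ^ n * b → p = a ∨ p ∣ b := by
    intro a b n ha h
    rcases hp.dvd_mul.1 h with h | h
    · exact Or.inl ((Nat.prime_dvd_prime_iff_eq hp ha).1 (hp.dvd_of_dvd_pow h))
    · exact Or.inr h
  rcases h2 (by norm_num) h1 with h | h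
  · omega
  rcases h2 (by norm_num) h with h | h
  · omega
  rcases h2 (by norm_num) h with h | h
  · subst h; exact five hx hR
  rcases h2 (by norm_num) h with h | h
  · subst h; exact seven hx hR
  have h3 := (Nat.prime_dvd_prime_iff_eq hp (by norm_num)).1 h
  subst h3
  exact seventeen hx hR

/-- **the row of the Held group for S3846** -/
theorem noE_he {K : Type*} [Group K] [Finite K] [IsSimpleGroup K] (h : Cfsg.Spor.IsoHe K) {p : ℕ} [hpp : Fact p.Prime]
    (hp : 5 ≤ p) (_hb : Blk p K) (_hO : ThO p K) : NoE p K := by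
  have hf := H436.HeFive.finite_he
  obtain ⟨e⟩ := h
  exact NoE.congr e fun x hx hR _ => no_re_he hpp.out hp hx hR

end Cfsg.Agent.H70.NoEHe
end

-- part: H669/SY/Th
section
/-!
# S3846: the row of the Thompson group (task 1942)
-/

set_option autoImplicit false

namespace Cfsg.Agent.H669.SY.Th

open Cfsg Subgroup Cfsg.Agent.H459.Rad Cfsg.Agent.H301.SY Cfsg.Agent.SignalizersComponents.ComponentExists
open Cfsg.Agent.Th Cfsg.Agent.Th.Word Cfsg.Agent.Th.IndexUpper Cfsg.Agent.MonsterX.ThOneClass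

theorem e_ne : gTh 5 ≠ 1 := by
  intro he
  have R := gTh_relK
  have h1 := R.de3
  rw [he, mul_one] at h1
  have hd : gTh 4 = 1 := by
    have h2 := R.d2
    have h3 : gTh 4 ^ 3 = gTh 4 ^ 2 * gTh 4 := pow_succ _ _
    rw [h1, h2, one_mul] at h3
    exact h3.symm
  have h2 := R.acd
  rw [hd, mul_one] at h2
  have h4 : gTh 3 ^ 4 = 1 := by
    rw [show (4 : ℕ) = 2 * 2 from rfl, pow_mul, R.c2, one_pow]
  rw [h4, inv_one, mul_one] at h2
  exact Main475.a_ne_one h2

/-- the subgroup `³D₄(2):3` is not solvable -/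
theorem not_solvable_K : ¬ Group.IsSolvable (sub gTh isK) := by
  intro hs
  have R := gTh_relK
  let H : Subgroup Spor.Th := _root_.Subgroup.closure {gTh 4, gTh 5, gTh 6}
  have hd : gTh 4 ∈ H := _root_.Subgroup.subset_closure (by simp)
  have he : gTh 5 ∈ H := _root_.Subgroup.subset_closure (by simp)
  have hss : gTh 6 ∈ H := _root_.Subgroup.subset_closure (by simp)
  have hle : H ≤ sub gTh isK := by
    rw [closure_le]
    rintro x (rfl | rfl | rfl)
    · exact subset_closure ⟨4, rfl, rfl⟩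
    · exact subset_closure ⟨5, rfl, rfl⟩
    · exact subset_closure ⟨6, rfl, rfl⟩
  have hH : Group.IsSolvable H := isSolvable_of_le hle hs
  have hnt : Nontrivial H := ⟨⟨gTh 5, he⟩, 1, fun h => e_ne (congrArg Subtype.val h)⟩
  have hlt := Group.IsSolvable.commutator_lt_top_of_nontrivial H
  apply hlt.ne
  -- the abelianization is trivial
  let φ := Abelianization.of (G := H)
  have hes := congrArg φ (show ((⟨gTh 5, he⟩ : H)⁻¹ * (⟨gTh 6, hss⟩ : H)⁻¹ * ⟨gTh 5, he⟩ * ⟨gTh 6, hss⟩) *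
    (((⟨gTh 6, hss⟩ : H) ^ 3)⁻¹ * ⟨gTh 5, he⟩ * (⟨gTh 6, hss⟩ : H) ^ 3)⁻¹ = 1 from Subtype.ext R.es)
  have hde := congrArg φ (show ((⟨gTh 4, hd⟩ : H) * ⟨gTh 5, he⟩) ^ 3 = 1 from Subtype.ext R.de3)
  have hd2 := congrArg φ (show ((⟨gTh 4, hd⟩ : H)) ^ 2 = 1 from Subtype.ext R.d2)
  have hsd := congrArg φ (show ((⟨gTh 6, hss⟩ : H) * ⟨gTh 4, hd⟩) ^ 2 = 1 from Subtype.ext R.sd2)
  have hs7 := congrArg φ (show (⟨gTh 6, hss⟩ : H) ^ 7 = 1 from Subtype.ext R.s7)
  simp only [map_mul, map_inv, map_pow, map_one] at hes hde hd2 hsd hs7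
  set D := φ ⟨gTh 4, hd⟩
  set E := φ ⟨gTh 5, he⟩
  set S := φ ⟨gTh 6, hss⟩
  have hE : E = 1 := by
    have h1 : E⁻¹ * S⁻¹ * E * S * ((S ^ 3)⁻¹ * E * S ^ 3)⁻¹ = E⁻¹ := by
      rw [mul_comm ((S ^ 3)⁻¹) E, inv_mul_cancel_right, mul_comm E⁻¹ S⁻¹, inv_mul_cancel_right, inv_mul_cancel, one_mul]
    rw [h1] at hes
    exact inv_eq_one.1 hes
  have hD : D = 1 := by
    rw [hE, mul_one, pow_succ, hd2, one_mul] at hde
    exact hde
  have hS : S = 1 := by
    rw [hD, mul_one] at hsd
    have h1 : S ^ 7 = (S ^ 2) ^ 3 * S := by rw [← pow_mul, ← pow_succ]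
    rw [h1, hsd, one_pow, one_mul] at hs7
    exact hs7
  rw [eq_top_iff]
  have hcl : _root_.Subgroup.closure ({⟨gTh 4, hd⟩, ⟨gTh 5, he⟩, ⟨gTh 6, hss⟩} : Set H) = ⊤ := by
    have h1 : _root_.Subgroup.closure (H.subtype '' ({⟨gTh 4, hd⟩, ⟨gTh 5, he⟩, ⟨gTh 6, hss⟩} : Set H)) = H := by
      simp only [Set.image_insert_eq, Set.image_singleton]
      rfl
    rw [← MonoidHom.map_closure] at h1
    rw [eq_top_iff]
    intro x _
    have h2 : (x : Spor.Th) ∈ (_root_.Subgroup.closure ({⟨gTh 4, hd⟩, ⟨gTh 5, he⟩, ⟨gTh 6, hss⟩} : Set H)).map H.subtype := by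
      rw [h1]; exact x.2
    obtain ⟨y, hy, h3⟩ := h2
    rwa [← Subtype.ext h3]
  rw [← hcl, closure_le]
  have hker : ∀ x : H, φ x = 1 → x ∈ _root_.commutator H := by
    intro x hx
    have h1 : x ∈ φ.ker := hx
    rwa [Abelianization.ker_of] at h1
  rintro x (rfl | rfl | rfl)
  · exact hker _ hD
  · exact hker _ hE
  · exact hker _ hS

theorem card_K : Nat.card (sub gTh isK) = 634023936 := Main1700.final.2.2.1

theorem smallCent : SmallCent 2 2 Spor.Th := by
  obtain ⟨Q, -, h1, h2, h3, -⟩ := struct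
  have := H513.NilpTh.finite
  exact smallCent_of_extraspecial Q (IsPGroup.of_card h1) h3 h2.2.le

theorem nonab : NonabP 5 Spor.Th := by
  refine ⟨H502.ThFiveP.P5, H502.ThFiveP.isPGroup_P5, H502.ThFiveP.x, H502.ThFiveP.x_mem, H502.ThFiveP.y,
    H502.ThFiveP.y_mem, fun h => ?_⟩
  have h1 := H502.ThFiveP.xy
  rw [h] at h1
  exact H513.NilpTh.z1 (mul_eq_left.1 h1.symm)

theorem radC {p : ℕ} (hp : ¬ p ∣ 2 ^ 9) [Fact p.Prime] :
    ¬ p ∣ Nat.card (radIn (centralizer ({gTh 1} : Set Spor.Th))) := by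
  have := H513.NilpTh.finite
  obtain ⟨Q, hn, h1, -, -, ⟨e⟩⟩ := struct
  have hs : IsSimpleGroup (alternatingGroup (Fin 9)) := alternatingGroup.isSimpleGroup (by simp)
  refine not_dvd_radIn Q ?_ e (by rw [h1]; exact hp)
  apply not_solvable_of_simple
  rintro ⟨⟨h⟩⟩
  have h2 := h ⟨Equiv.swap 0 1 * Equiv.swap 1 2, by simp [Equiv.Perm.mem_alternatingGroup]⟩
    ⟨Equiv.swap 0 1 * Equiv.swap 1 3, by simp [Equiv.Perm.mem_alternatingGroup]⟩
  have h3 := congrArg (fun s : alternatingGroup (Fin 9) => (s : Equiv.Perm (Fin 9)) 0) h2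
  revert h3
  decide

/-- solvable normalizers -/
theorem solv_normalizer {r : ℕ} (hr : r.Prime) (hrC : ¬ r ∣ 92897280) (hr2 : ¬ r * r ∣ 90745943887872000) {x : Spor.Th}
    (hx : orderOf x = r) : Group.IsSolvable (normalizer ((zpowers x : Subgroup Spor.Th) : Set Spor.Th)) := by
  have := H513.NilpTh.finite
  apply isSolvable_normalizer
  apply S0205.result
  have h1 := H513.NilpTh.cent_dvd hr hx hrC hr2
  exact Odd.of_dvd_nat (by decide) h1

theorem thirteen : Lw 13 Spor.Th := by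
  have := H513.NilpTh.finite
  have : Fact (Nat.Prime 13) := ⟨by norm_num⟩
  refine Lw.of_nonsolv (L := sub gTh isK) ?_ (by rw [card_K]; norm_num) not_solvable_K
    (by rw [H513.NilpTh.card]; norm_num) fun x hx => solv_normalizer (by norm_num) (by norm_num) (by norm_num) hx
  intro h
  have h1 := card_K
  rw [h, Nat.card_congr Subgroup.topEquiv.toEquiv, H513.NilpTh.card] at h1
  norm_num at h1

theorem noE_five_seven {p : ℕ} [hp : Fact p.Prime] (h : p = 5 ∨ p = 7) : NoE p Spor.Th := by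
  have := H513.NilpTh.finite
  refine NoE.of_class Main1700.center_eq_bot Main475.a_ne_one (radC ?_) fun x hx => ?_
  · rcases h with rfl | rfl <;> norm_num
  · have h1 : ∃ t : Spor.Th, orderOf t = 2 ∧ t * x = x * t := by
      rcases h with rfl | rfl
      · exact H513.NilpTh.involution x hx
      · exact ThType.Seven.exists_involution_Th Main1700.isTh hx
    obtain ⟨t, ht, htx⟩ := h1
    exact ⟨t, oneClass _ _ orderOf_a ht, htx⟩

end Cfsg.Agent.H669.SY.Th

namespace Cfsg.Agent.H669.SY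

open Cfsg Subgroup Cfsg.Agent.H459.Rad Cfsg.Agent.H301.SY

/-- **task 1942** -/
theorem noE_th {K : Type*} [Group K] [Finite K] [IsSimpleGroup K] (h : Cfsg.Spor.IsoTh K) {p : ℕ} [hp : Fact p.Prime]
    (h5 : 5 ≤ p) (hb : Cfsg.Agent.H301.SY.Blk p K) (hO : Cfsg.Agent.H301.SY.ThO p K) : Cfsg.Agent.H301.SY.NoE p K := by
  obtain ⟨e⟩ := h
  have := H513.NilpTh.finite
  have hcard : Nat.card K = 90745943887872000 := (Nat.card_congr e.toEquiv).trans H513.NilpTh.card
  have hna : ¬ IsMulCommutative K := by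
    rintro ⟨⟨h⟩⟩
    apply Cfsg.Agent.H669.SY.Th.not_solvable_K
    have h1 : Group.IsSolvable K := Group.isSolvable_of_comm h
    have h2 : Group.IsSolvable Spor.Th := Group.isSolvable_of_surjective (f := e.toMonoidHom) e.surjective
    infer_instance
  by_cases hd : p ∣ 90745943887872000
  swap
  · exact NoE.of_not_dvd (by rwa [hcard])
  have hps : p = 5 ∨ p = 7 ∨ p = 13 ∨ p = 19 ∨ p = 31 := by
    have h1 : p ∈ Nat.primeFactors 90745943887872000 := Nat.mem_primeFactors.2 ⟨hp.out, hd, by norm_num⟩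
    have h2 : Nat.primeFactors 90745943887872000 = {2, 3, 5, 7, 13, 19, 31} := by
      rw [show (90745943887872000 : ℕ) = 2 ^ 15 * (3 ^ 10 * (5 ^ 3 * (7 ^ 2 * (13 * (19 * 31))))) by norm_num]
      rw [Nat.primeFactors_mul (by norm_num) (by norm_num), Nat.primeFactors_mul (by norm_num) (by norm_num),
        Nat.primeFactors_mul (by norm_num) (by norm_num), Nat.primeFactors_mul (by norm_num) (by norm_num),
        Nat.primeFactors_mul (by norm_num) (by norm_num), Nat.primeFactors_mul (by norm_num) (by norm_num),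
        Nat.primeFactors_prime_pow (by norm_num) (by norm_num), Nat.primeFactors_prime_pow (by norm_num) (by norm_num),
        Nat.primeFactors_prime_pow (by norm_num) (by norm_num), Nat.primeFactors_prime_pow (by norm_num) (by norm_num),
        Nat.Prime.primeFactors (by norm_num), Nat.Prime.primeFactors (by norm_num), Nat.Prime.primeFactors (by norm_num)]
      rfl
    rw [h2] at h1
    simp only [Finset.mem_insert, Finset.mem_singleton] at h1
    omega
  rcases hps with rfl | rfl | rfl | rfl | rfl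
  · exact (Th.noE_five_seven (Or.inl rfl)).congr e
  · exact (Th.noE_five_seven (Or.inr rfl)).congr e
  · refine NoE.congr e (NoE.of_lw (cyclic_of_card (by rw [H513.NilpTh.card]; norm_num)) Th.thirteen)
  · have hcyc : ∀ P : Sylow 19 K, IsCyclic (P : Subgroup K) := cyclic_of_card (by rw [hcard]; norm_num)
    refine NoE.of_m0 hna hcyc fun x hx hR hY => m0_num hcyc hb hO hx hR hY fun t ht htp htd => Or.inl ?_
    rw [hcard]
    have h1 : t ∈ Nat.primeFactors 18 := Nat.mem_primeFactors.2 ⟨ht, htd, by norm_num⟩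
    have h2 : Nat.primeFactors 18 = {2, 3} := by decide +kernel
    rw [h2] at h1
    simp only [Finset.mem_insert, Finset.mem_singleton] at h1
    rcases h1 with rfl | rfl
    · exact left_of (m := 15) (by norm_num) (by norm_num) (by decide)
    · exact left_of (m := 10) (by norm_num) (by norm_num) (by decide)
  · have hcyc : ∀ P : Sylow 31 K, IsCyclic (P : Subgroup K) := cyclic_of_card (by rw [hcard]; norm_num)
    refine NoE.of_m0 hna hcyc fun x hx hR hY => m0_num hcyc hb hO hx hR hY fun t ht htp htd => ?_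
    have hC : Nat.card (centralizer ({x} : Set K)) ∣ 3 ^ 10 * 7 ^ 2 * 13 * 19 * 31 := by
      rw [card_centralizer e]
      exact H513.NilpTh.cent_dvd (r := 31) (by norm_num)
        ((orderOf_injective e.toMonoidHom e.injective x).trans hx) (by norm_num) (by norm_num)
    have h1 : t ∈ Nat.primeFactors 30 := Nat.mem_primeFactors.2 ⟨ht, htd, by norm_num⟩
    have h2 : Nat.primeFactors 30 = {2, 3, 5} := by decide +kernel
    rw [h2] at h1
    simp only [Finset.mem_insert, Finset.mem_singleton] at h1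
    rcases h1 with rfl | rfl | rfl
    · right
      refine ⟨fun h => absurd (h.trans hC) (by norm_num), ?_⟩
      refine right_of_smallCent (k := 15) (m := 90745943887872000 / 2 ^ 15) (c := 2) (by norm_num)
        (by rw [hcard]; norm_num) (by norm_num) (Th.smallCent.congr e) ?_
      intro a j n haj ha hj hn0 hn hna'
      have hj1 : j ≤ 1 := by
        by_contra hc
        have := (pow_dvd_pow 2 (by omega : 2 ≤ j)).trans hj
        norm_num at this
      have hj0 : j = 0 := by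
        by_contra hc
        have ha' : a = 14 := by omega
        rw [ha'] at ha
        norm_num at ha
      subst hj0
      have hn5 : 5 ≤ n := by
        by_contra hc
        have : n < 5 := by omega
        interval_cases n <;> norm_num at hn
      have h3 : 2 ^ 5 ≤ 2 ^ n := Nat.pow_le_pow_right (by norm_num) hn5
      norm_num at h3 ⊢
      omega
    · left
      rw [hcard]
      exact left_of (m := 10) (by norm_num) (by norm_num) (by decide)
    · right
      refine ⟨fun h => absurd (h.trans hC) (by norm_num), ?_⟩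
      refine right_of_nonab (k := 3) (m := 90745943887872000 / 5 ^ 3) (by norm_num)
        (by rw [hcard]; norm_num) (by norm_num) (Th.nonab.congr e) ?_
      intro a j n haj ha hj hn0 hn hna' c hc
      have hj1 : j ≤ 1 := by
        by_contra hc
        have := (pow_dvd_pow 5 (by omega : 2 ≤ j)).trans hj
        norm_num at this
      have hj0 : j = 0 := by
        by_contra hc
        have ha' : a = 2 := by omega
        rw [ha'] at ha
        norm_num at ha
      subst hj0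
      have hn3 : n = 3 := by
        have : n ≤ 3 := by omega
        interval_cases n
        · norm_num at hn
        · norm_num at hn
        · rfl
      subst hn3
      rw [pow_zero, pow_one]
      omega

end Cfsg.Agent.H669.SY
end

private theorem dce_3228906e77b2 : _root_.True := by
  try have : _root_.True := by simp only [_root_.Cfsg.Agent.H621.SYMathieu.Rest.eq_1]
  exact _root_.True.intro
end

-- part: H669/SY/HN_mg
section
set_option linter.all false
open scoped Cfsg.Agent.FastGrp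

-- part: H669/SY/HN
section
/-!
# S3846: the row of the Harada–Norton group (task 1941)
-/

set_option autoImplicit false

namespace Cfsg.Agent.H669.SY.HN

open Cfsg Subgroup Cfsg.Agent.H459.Rad Cfsg.Agent.H301.SY Cfsg.Agent.SignalizersComponents.ComponentExists
open Cfsg.Agent.HN Cfsg.Agent.HN.Pres Cfsg.Agent.HN.P1408 Cfsg.Agent.HN.H0Basic
open Cfsg.Agent.HN.XWords (W0)
open Cfsg.Agent.KFacts.HN

theorem not_solvable_A5 : ¬ Group.IsSolvable (alternatingGroup (Fin 5)) := H517.Alt.not_isSolvable_five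

theorem rad_A5 : solvableRadical (alternatingGroup (Fin 5)) = ⊥ := by
  have : IsSimpleGroup (alternatingGroup (Fin 5)) := alternatingGroup.isSimpleGroup (by simp)
  exact rad_eq_bot_of_simple not_solvable_A5

/-- a homomorphism of `A₅` into a group, an element `y` of the radical acting on the image as an inner automorphism -/
theorem eq_one_of_rad {L : Type*} [Group L] [Finite L] (φ : alternatingGroup (Fin 5) →* L)
    (hφ : Function.Injective φ) {y : L} (hy : y ∈ solvableRadical L) {a : alternatingGroup (Fin 5)}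
    (h : ∀ x, y * φ x * y⁻¹ = φ (a * x * a⁻¹)) : a = 1 := by
  -- the preimage of the radical
  have h1 : (solvableRadical L).comap φ = ⊥ := by
    rw [eq_bot_iff, ← rad_A5]
    refine le_rad ((rad_normal (G := L)).comap φ) ?_
    have hs := (rad_spec (G := L)).2.1
    exact Group.isSolvable_of_isSolvable_injective
      (f := (φ.comp ((solvableRadical L).comap φ).subtype).codRestrict (solvableRadical L) (fun z => z.2))
      (fun u v huv => Subtype.ext (hφ (congrArg Subtype.val huv)))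
  have h2 : ∀ x, a * x * a⁻¹ * x⁻¹ = 1 := by
    intro x
    have h3 : a * x * a⁻¹ * x⁻¹ ∈ (solvableRadical L).comap φ := by
      rw [mem_comap, map_mul, ← h, map_inv]
      have h4 : y * (φ x * y⁻¹ * (φ x)⁻¹) ∈ solvableRadical L :=
        mul_mem hy ((rad_normal (G := L)).conj_mem _ (inv_mem hy) _)
      have h5 : y * φ x * y⁻¹ * (φ x)⁻¹ = y * (φ x * y⁻¹ * (φ x)⁻¹) := by group
      rw [h5]; exact h4
    rw [h1, mem_bot] at h3
    exact h3
  exact A5_center fun x => mul_inv_eq_iff_eq_mul.1 (mul_inv_eq_one.1 (h2 x))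


/-- the radical of `C(W0) = 2^{1+8}.(A₅ × A₅).2` -/
theorem not_dvd_W0 : ¬ 5 ∣ Nat.card (radIn (centralizer ({W0} : Set Spor.HN))) := by
  have := finite_HN
  have : Fact (Nat.Prime 5) := ⟨Nat.prime_five⟩
  intro hd
  obtain ⟨⟨x, hxR⟩, hx⟩ := exists_prime_orderOf_dvd_card' 5 hd
  have hx5 : orderOf x = 5 := by rw [← Subgroup.orderOf_mk x hxR]; exact hx
  have hxC : x ∈ PP := radIn_le _ hxR
  have hxr : (⟨x, hxC⟩ : PP) ∈ solvableRadical PP := by
    rw [← mem_radIn_coe]; exact hxR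
  have : Finite Lq := Finite.of_surjective _ ρ_surj
  have hy : ρ ⟨x, hxC⟩ ∈ solvableRadical Lq := map_rad_le ρ_surj hxr
  have hx5' : orderOf (⟨x, hxC⟩ : PP) = 5 := by rw [Subgroup.orderOf_mk]; exact hx5
  have h5 : ρ ⟨x, hxC⟩ ^ 5 = 1 := by
    rw [← map_pow, ← hx5', pow_orderOf_eq_one, map_one]
  obtain ⟨a, b, hab⟩ := mem_LL.1 (Cfsg.Agent.CpAutHNFive.LFive.mem_LL_of_five h5)
  have ha : a = 1 := eq_one_of_rad φA φA_inj hy fun x => by
    rw [← hab]; exact Cfsg.Agent.CpAutHN.LqFacts.conj_A a b x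
  have hb : b = 1 := eq_one_of_rad φB φB_inj hy fun x => by
    rw [← hab]; exact Cfsg.Agent.CpAutHN.LqFacts.conj_B a b x
  rw [ha, hb, map_one, map_one, mul_one] at hab
  have h1 : (⟨x, hxC⟩ : PP) ∈ ρ.ker := hab.symm
  have h2 : orderOf (⟨⟨x, hxC⟩, h1⟩ : ρ.ker) ∣ Nat.card ρ.ker := orderOf_dvd_natCard _
  rw [Subgroup.orderOf_mk, hx5', card_ker] at h2
  norm_num at h2

/-- the radical of `C(τ) = 2.HS.2` -/
theorem not_dvd_τ : ¬ 5 ∣ Nat.card (radIn (centralizer ({NormalH.ψ τ} : Set Spor.HN))) := by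
  have := finite_HN
  have : Finite H0 := Nat.finite_of_card_ne_zero (by rw [H0Basic.card_H0]; norm_num)
  have : Fact (Nat.Prime 5) := ⟨Nat.prime_five⟩
  intro hd
  obtain ⟨⟨x, hxR⟩, hx⟩ := exists_prime_orderOf_dvd_card' 5 hd
  have hx5 : orderOf x = 5 := by rw [← Subgroup.orderOf_mk x hxR]; exact hx
  have hxC := radIn_le _ hxR
  obtain ⟨y, rfl⟩ := emb.cent x (mem_centralizer_singleton_iff.1 hxC)
  have hy5 : orderOf y = 5 := by rw [← hx5]; exact (orderOf_injective _ emb.inj y).symm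
  have hψ : ∀ h : H0, NormalH.ψ h ∈ centralizer ({NormalH.ψ τ} : Set Spor.HN) := by
    intro h
    rw [mem_centralizer_singleton_iff, ← map_mul, ← map_mul, emb.comm]
  -- the preimage of the radical in `K`
  let R : Subgroup HS100.K := (radIn (centralizer ({NormalH.ψ τ} : Set Spor.HN))).comap (NormalH.ψ.comp HS100.K.subtype)
  have hRn : R.Normal := ⟨fun n hn g => by
    change NormalH.ψ ((g * n * g⁻¹ : HS100.K) : H0) ∈ radIn _
    have h1 : NormalH.ψ ((g * n * g⁻¹ : HS100.K) : H0) =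
        NormalH.ψ (g : H0) * NormalH.ψ (n : H0) * (NormalH.ψ (g : H0))⁻¹ := by simp
    rw [h1]
    exact radIn_conj_mem (hψ _) hn⟩
  have hRs : Group.IsSolvable R := by
    have hs := radIn_solvable (centralizer ({NormalH.ψ τ} : Set Spor.HN))
    exact Group.isSolvable_of_isSolvable_injective
      (f := ((NormalH.ψ.comp HS100.K.subtype).comp R.subtype).codRestrict (radIn _) (fun z => z.2))
      (fun u v huv => Subtype.ext (Subtype.ext (emb.inj (congrArg Subtype.val huv))))
  have hyK : y ∈ HS100.K := by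
    have h2 : (y ^ 2) ^ 3 = y := by
      rw [← pow_mul, show 2 * 3 = 5 + 1 from rfl, pow_add, ← hy5, pow_orderOf_eq_one, one_mul, pow_one]
    rw [← h2]
    exact HS100.K.pow_mem (Subgroup.sq_mem_of_index_two HS100.K_index y) 3
  have hsQ := (DoubleCover.nonempty_Q H0Basic.card_H0 gx_sq_ne_one).2
  have hcQ := DoubleCover.card_Q H0Basic.card_H0 gx_sq_ne_one
  have : Finite HS100.Q := Nat.finite_of_card_ne_zero (by rw [hcQ]; norm_num)
  have hnsQ : ¬ Group.IsSolvable HS100.Q := by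
    intro hs
    let _ : CommGroup HS100.Q := { (inferInstance : Group HS100.Q) with
      mul_comm := fun a b => (IsSimpleGroup.comm_iff_isSolvable.2 hs) a b }
    have h3 := IsSimpleGroup.prime_card (α := HS100.Q)
    rw [hcQ] at h3
    exact absurd h3 (by norm_num)
  have h4 : R ≤ solvableRadical HS100.K := le_rad hRn hRs
  have h5 := map_rad_le DoubleCover.φK_surj (h4 (show (⟨y, hyK⟩ : HS100.K) ∈ R from hxR))
  rw [rad_eq_bot_of_simple hnsQ, mem_bot] at h5
  have h6 : (⟨y, hyK⟩ : HS100.K) ∈ DoubleCover.φK.ker := h5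
  have h7 : orderOf (⟨⟨y, hyK⟩, h6⟩ : DoubleCover.φK.ker) ∣ Nat.card DoubleCover.φK.ker := orderOf_dvd_natCard _
  rw [Subgroup.orderOf_mk, Subgroup.orderOf_mk, hy5, DoubleCover.card_ker H0Basic.card_H0 gx_sq_ne_one] at h7
  norm_num at h7

theorem center_eq_bot : center Spor.HN = ⊥ := Cfsg.Agent.CpAutHNFive.Main.center_HN

/-- **`p = 5`** -/
theorem noE_five [Fact (Nat.Prime 5)] : NoE 5 Spor.HN := by
  have hfin := finite_HN
  refine NoE.of_even center_eq_bot fun x hx => ?_
  obtain ⟨_, _, _, _, _, _, D⟩ := H536.T5.dat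
  obtain ⟨s, hs2, hs1, hsx⟩ := D.exists_inv (by rw [H536.T5.card_HN]; norm_num) hx
  have : Fact (Nat.Prime 2) := ⟨Nat.prime_two⟩
  have hs : orderOf s = 2 := orderOf_eq_prime (by rw [pow_two]; exact hs2) hs1
  have hrad : ∀ a : Spor.HN, ¬ 5 ∣ Nat.card (radIn (centralizer ({a} : Set Spor.HN))) → IsConj s a →
      ¬ 5 ∣ Nat.card (radIn (centralizer ({s} : Set Spor.HN))) := by
    intro a ha hsa
    obtain ⟨c, hc⟩ := isConj_iff.1 hsa
    have h1 : (centralizer ({s} : Set Spor.HN)).map (MulAut.conj c).toMonoidHom = centralizer ({a} : Set Spor.HN) := by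
      rw [Cfsg.Agent.CpAutHNFive.TauFive.map_centralizer, hc]
    rw [← h1, radIn_conj, Subgroup.card_map_of_injective (MulAut.conj c).injective] at ha
    exact ha
  refine ⟨s, hs1, ?_, ?_⟩
  · exact hsx
  · rcases Classes.inv_class hs with h | h
    · exact hrad _ not_dvd_τ h
    · exact hrad _ not_dvd_W0 h

theorem card_HN : Nat.card Spor.HN = 273030912000000 := H536.T5.card_HN

/-- `p ∣ |A₁₂|`, `p ^ 2 ∤ |HN|` -/
theorem lw_alt {p : ℕ} [Fact p.Prime] (hp : p ∣ Nat.card (alternatingGroup (Fin 12))) : Lw p Spor.HN := by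
  have hfin := finite_HN
  have : IsSimpleGroup (alternatingGroup (Fin 12)) := alternatingGroup.isSimpleGroup (by simp)
  refine Lw.of_simple (Q := alternatingGroup (Fin 12)) (H517.Alt.not_isSolvable (by norm_num)) hp
    Cfsg.Agent.CpAutHN.Alt.Φ Cfsg.Agent.CpAutHN.Alt.Φ_inj ?_
  intro hs
  have h1 := Nat.card_congr (Equiv.ofBijective _ ⟨Cfsg.Agent.CpAutHN.Alt.Φ_inj, hs⟩)
  rw [card_HN] at h1
  have h2 : Nat.card (alternatingGroup (Fin 12)) = 239500800 := by
    rw [nat_card_alternatingGroup, Nat.card_eq_fintype_card, Fintype.card_fin]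
    decide
  rw [h2] at h1
  norm_num at h1

end Cfsg.Agent.H669.SY.HN

namespace Cfsg.Agent.H669.SY

open Cfsg Subgroup Cfsg.Agent.H459.Rad Cfsg.Agent.H301.SY

theorem card_A12 : Nat.card (alternatingGroup (Fin 12)) = 239500800 := by
  rw [nat_card_alternatingGroup, Nat.card_eq_fintype_card, Fintype.card_fin]
  decide

/-- **task 1941** -/
theorem noE_hn {K : Type*} [Group K] [Finite K] [IsSimpleGroup K] (h : Cfsg.Spor.IsoHN K) {p : ℕ} [hp : Fact p.Prime]
    (h5 : 5 ≤ p) (hb : Cfsg.Agent.H301.SY.Blk p K) (hO : Cfsg.Agent.H301.SY.ThO p K) : Cfsg.Agent.H301.SY.NoE p K := by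
  obtain ⟨e⟩ := h
  have hfin := Cfsg.Agent.KFacts.HN.finite_HN
  have hcard : Nat.card K = 273030912000000 := (Nat.card_congr e.toEquiv).trans HN.card_HN
  have hna : ¬ IsMulCommutative K := by
    rintro ⟨⟨h⟩⟩
    let _ : CommGroup K := { (inferInstance : Group K) with mul_comm := h }
    have h3 := IsSimpleGroup.prime_card (α := K)
    rw [hcard] at h3
    exact absurd h3 (by norm_num)
  by_cases hd : p ∣ 273030912000000
  swap
  · exact NoE.of_not_dvd (by rwa [hcard])
  have hps : p = 5 ∨ p = 7 ∨ p = 11 ∨ p = 19 := by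
    have h1 : p ∈ Nat.primeFactors 273030912000000 := Nat.mem_primeFactors.2 ⟨hp.out, hd, by norm_num⟩
    have h2 : Nat.primeFactors 273030912000000 = {2, 3, 5, 7, 11, 19} := by
      rw [show (273030912000000 : ℕ) = 2 ^ 14 * (3 ^ 6 * (5 ^ 6 * (7 * (11 * 19)))) by norm_num]
      rw [Nat.primeFactors_mul (by norm_num) (by norm_num), Nat.primeFactors_mul (by norm_num) (by norm_num),
        Nat.primeFactors_mul (by norm_num) (by norm_num), Nat.primeFactors_mul (by norm_num) (by norm_num),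
        Nat.primeFactors_mul (by norm_num) (by norm_num),
        Nat.primeFactors_prime_pow (by norm_num) (by norm_num), Nat.primeFactors_prime_pow (by norm_num) (by norm_num),
        Nat.primeFactors_prime_pow (by norm_num) (by norm_num),
        Nat.Prime.primeFactors (by norm_num), Nat.Prime.primeFactors (by norm_num), Nat.Prime.primeFactors (by norm_num)]
      rfl
    rw [h2] at h1
    simp only [Finset.mem_insert, Finset.mem_singleton] at h1
    omega
  rcases hps with rfl | rfl | rfl | rfl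
  · exact HN.noE_five.congr e
  · exact NoE.congr e (NoE.of_lw (cyclic_of_card (by rw [HN.card_HN]; norm_num)) (HN.lw_alt (by rw [card_A12]; norm_num)))
  · exact NoE.congr e (NoE.of_lw (cyclic_of_card (by rw [HN.card_HN]; norm_num)) (HN.lw_alt (by rw [card_A12]; norm_num)))
  · have hcyc : ∀ P : Sylow 19 K, IsCyclic (P : Subgroup K) := cyclic_of_card (by rw [hcard]; norm_num)
    refine NoE.of_m0 hna hcyc fun x hx hR hY => m0_num hcyc hb hO hx hR hY fun t ht htp htd => Or.inl ?_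
    rw [hcard]
    have h1 : t ∈ Nat.primeFactors 18 := Nat.mem_primeFactors.2 ⟨ht, htd, by norm_num⟩
    have h2 : Nat.primeFactors 18 = {2, 3} := by decide +kernel
    rw [h2] at h1
    simp only [Finset.mem_insert, Finset.mem_singleton] at h1
    rcases h1 with rfl | rfl
    · exact left_of (m := 14) (by norm_num) (by norm_num) (by decide)
    · exact left_of (m := 6) (by norm_num) (by norm_num) (by decide)

end Cfsg.Agent.H669.SY
end

-- part: H805/NoEB
section
/-!
# The Baby Monster for S3846 (helper805, task 1949)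

`noE_b` : the subgroups `HN`, `Th`, `Fi₂₃` contain Sylow `p`-subgroups for the primes `p ≠ 47`; Theorem O for `p = 47`.
-/

set_option autoImplicit false

namespace Cfsg.Agent.H805.NoESpor

open Cfsg Subgroup Cfsg.Agent.H301.SY Cfsg.Agent.H459.Rad Cfsg.Agent.SignalizersComponents.ComponentExists

/-- the radical of a simple subgroup -/
theorem card_radIn_simple {K : Type*} [Group K] [Finite K] {H : Subgroup K} (hs : IsSimpleGroup ↥H)
    (hn : ¬ Group.IsSolvable ↥H) : Nat.card ↥(radIn H) = 1 := by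
  have h2 : Nat.card ↥(radIn H) = Nat.card ↥(solvableRadical ↥H) :=
    Subgroup.card_map_of_injective H.subtype_injective
  rw [h2, rad_eq_bot_of_simple hn, card_bot]

/-- a simple subgroup of index prime to `p` -/
theorem noE_of_simple_index {K : Type*} [Group K] [Finite K] {p : ℕ} [hp : Fact p.Prime] {H : Subgroup K} {n m : ℕ}
    (hK : Nat.card K = n * m) (hH : Nat.card ↥H = n) (hs : IsSimpleGroup ↥H) (hn : ¬ n.Prime)
    (hm : ¬ p ∣ m) (hm1 : m ≠ 1) : NoE p K := by
  have h1 := H.card_mul_index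
  rw [hH, hK] at h1
  have hn0 : 0 < n := by rw [← hH]; exact Nat.card_pos
  have hi : H.index = m := Nat.eq_of_mul_eq_mul_left hn0 h1
  have hsol : ¬ Group.IsSolvable ↥H := by
    intro h
    exact H561.AATool.not_comm_of_card (G := ↥H) (by rw [hH]; exact hn)
      ⟨⟨IsSimpleGroup.comm_iff_isSolvable.2 h⟩⟩
  obtain ⟨Q⟩ : Nonempty (Sylow p ↥H) := inferInstance
  have hidx : ¬ p ∣ ((Q : Subgroup ↥H).map H.subtype).index := by
    have h2 : ((Q : Subgroup ↥H).map H.subtype).index = (Q : Subgroup ↥H).index * H.index := by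
      have h3 := ((Q : Subgroup ↥H).map H.subtype).card_mul_index
      rw [card_map_of_injective H.subtype_injective, ← H.card_mul_index, ← (Q : Subgroup ↥H).card_mul_index,
        mul_assoc] at h3
      exact Nat.eq_of_mul_eq_mul_left Nat.card_pos h3
    rw [h2, hi]
    intro h
    rcases hp.out.dvd_mul.1 h with h | h
    · exact Q.not_dvd_index h
    · exact hm h
  refine NoE.of_sylow (L := H) ?_ ((Q.isPGroup'.map H.subtype).toSylow hidx) ?_ ?_
  · intro ht
    rw [ht, index_top] at hi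
    exact hm1 hi.symm
  · exact map_subtype_le _
  · rw [card_radIn_simple hs hsol]
    intro h
    exact hp.out.one_lt.ne' (Nat.dvd_one.1 h)

open Cfsg.Agent.BabyM in
/-- **The Baby Monster.** -/
theorem noE_b {K : Type*} [Group K] [Finite K] [IsSimpleGroup K] (h : Cfsg.Spor.IsoB K) {p : ℕ} [Fact p.Prime]
    (hp : 5 ≤ p) (hb : Cfsg.Agent.H301.SY.Blk p K) (hO : Cfsg.Agent.H301.SY.ThO p K) : Cfsg.Agent.H301.SY.NoE p K := by
  obtain ⟨e⟩ := Cfsg.Agent.KFacts.Baby.RowB.exists_iso h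
  have hfin : Finite Inst.M.G := Instance.all.finite_G
  have hc : Nat.card Inst.M.G = 4154781481226426191177580544000000 := Instance.isB.2
  have hcK : Nat.card K = 4154781481226426191177580544000000 := by rw [← Nat.card_congr e.toEquiv, hc]
  obtain ⟨K1, hK1, -⟩ := WordsTh.exists_th Instance.all Instance.ok Cfsg.Agent.S1700.result
  obtain ⟨K2, hK2⟩ := HNB.main Instance.all Instance.ok Cfsg.Agent.S1701.result
  obtain ⟨K3, hK3⟩ := Fi23B.main Instance.all Instance.ok Cfsg.Agent.S1697.result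
  by_cases hpd : p ∣ Nat.card K
  swap
  · intro x hx
    exact absurd (hx ▸ orderOf_dvd_natCard x) hpd
  have hpl : p = 5 ∨ p = 7 ∨ p = 11 ∨ p = 13 ∨ p = 17 ∨ p = 19 ∨ p = 23 ∨ p = 31 ∨ p = 47 := by
    have hpp : p.Prime := Fact.out
    rw [hcK, show 4154781481226426191177580544000000 = 2 ^ 41 * (3 ^ 13 * (5 ^ 6 * (7 ^ 2 * (11 * (13 * (17 * (19 *
      (23 * (31 * 47))))))))) by norm_num] at hpd
    have hdvd : ∀ q : ℕ, q.Prime → p ∣ q → p = q := fun q hq h => (Nat.prime_dvd_prime_iff_eq hpp hq).1 h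
    simp only [hpp.dvd_mul] at hpd
    rcases hpd with h | h | h | h | h | h | h | h | h | h | h
    · have := hdvd 2 (by norm_num) (hpp.dvd_of_dvd_pow h); omega
    · have := hdvd 3 (by norm_num) (hpp.dvd_of_dvd_pow h); omega
    · have := hdvd 5 (by norm_num) (hpp.dvd_of_dvd_pow h); omega
    · have := hdvd 7 (by norm_num) (hpp.dvd_of_dvd_pow h); omega
    · have := hdvd 11 (by norm_num) h; omega
    · have := hdvd 13 (by norm_num) h; omega
    · have := hdvd 17 (by norm_num) h; omega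
    · have := hdvd 19 (by norm_num) h; omega
    · have := hdvd 23 (by norm_num) h; omega
    · have := hdvd 31 (by norm_num) h; omega
    · have := hdvd 47 (by norm_num) h; omega
  have fromTh : ¬ p ∣ 45784762417152000 → NoE p K := fun hm => NoE.congr e.symm
    (noE_of_simple_index (m := 45784762417152000) (by rw [hc]) hK1.2 hK1.1 (by norm_num) hm (by norm_num))
  have fromHN : ¬ p ∣ 15217256723027853312 → NoE p K := fun hm => NoE.congr e.symm
    (noE_of_simple_index (m := 15217256723027853312) (by rw [hc]) hK2.2 hK2.1 (by norm_num) hm (by norm_num))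
  have fromFi : ¬ p ∣ 1015970529280000 → NoE p K := fun hm => NoE.congr e.symm
    (noE_of_simple_index (m := 1015970529280000) (by rw [hc]) hK3.2 hK3.1 (by norm_num) hm (by norm_num))
  rcases hpl with rfl | rfl | rfl | rfl | rfl | rfl | rfl | rfl | rfl
  · exact fromHN (by norm_num)
  · exact fromTh (by norm_num)
  · exact fromHN (by norm_num)
  · exact fromTh (by norm_num)
  · exact fromFi (by norm_num)
  · exact fromHN (by norm_num)
  · exact fromFi (by norm_num)
  · exact fromTh (by norm_num)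
  · have hcyc : ∀ P : Sylow 47 K, IsCyclic (P : Subgroup K) := cyclic_of_card (by rw [hcK]; norm_num)
    have hna : ¬ IsMulCommutative K := H561.AATool.not_comm_of_card (by rw [hcK]; norm_num)
    have hNA : H393.Iso.NA 47 K := by
      obtain ⟨e'⟩ := h
      exact (H547.PP.FarBaby.na_b (by norm_num) (by norm_num) (by norm_num) (by norm_num)).of_equiv e'.symm
    refine NoE.of_m0 hna hcyc fun x hx hR hY => m0_num hcyc hb hO hx hR hY fun t ht ht47 htd => ?_
    have ht2 : t = 2 ∨ t = 23 := by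
      have h1 : t ∣ 2 * 23 := htd
      rcases ht.dvd_mul.1 h1 with h2 | h2
      · left; exact (Nat.prime_dvd_prime_iff_eq ht Nat.prime_two).1 h2
      · right; exact (Nat.prime_dvd_prime_iff_eq ht (by norm_num)).1 h2
    rcases ht2 with rfl | rfl
    · right
      refine ⟨?_, default, ?_⟩
      · intro h2
        have f2 : Fact (Nat.Prime 2) := ⟨Nat.prime_two⟩
        obtain ⟨u, hu⟩ := exists_prime_orderOf_dvd_card' 2 h2
        exact hNA x u hx (by rw [Subgroup.orderOf_coe]; exact hu) (mem_centralizer_singleton_iff.1 u.2).symm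
      · rintro a j n hT ha hj - - - -
        have f2 : Fact (Nat.Prime 2) := ⟨Nat.prime_two⟩
        have h41 : Nat.card ↥((default : Sylow 2 K) : Subgroup K) = 2 ^ 41 := by
          refine (Sylow.card_eq_multiplicity (default : Sylow 2 K)).trans ?_
          congr 1
          rw [hcK]
          rw [show 4154781481226426191177580544000000 = 2 ^ 41 * 1889375872099856765625 by norm_num,
            Nat.factorization_mul (by norm_num) (by norm_num), Nat.Prime.factorization_pow Nat.prime_two]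
          simp [Nat.factorization_eq_zero_of_not_dvd]
        have h1 : a + j = 41 := Nat.pow_right_injective le_rfl (hT.symm.trans h41)
        have hj1 : j ≤ 1 := by
          by_contra h2
          push Not at h2
          have h3 : 2 ^ 2 ∣ 46 := (pow_dvd_pow 2 h2).trans hj
          norm_num at h3
        have ha' : a = 40 ∨ a = 41 := by omega
        rcases ha' with rfl | rfl <;> norm_num at ha
    · left
      intro i hi hd
      have hi1 : i ≤ 1 := by
        by_contra h2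
        push Not at h2
        have h3 : 23 ^ 2 ∣ 4154781481226426191177580544000000 := by
          rw [← hcK]
          exact (pow_dvd_pow 23 h2).trans hd
        norm_num at h3
      have : i = 1 := by omega
      subst this
      decide

end Cfsg.Agent.H805.NoESpor
end
end

-- part: H621/SY/PslRow
section
set_option linter.all false
open scoped Cfsg.Agent.FastGrp

-- part: H621/SY/PslLw
section
/-!
# S3846, row `PSL_n(q)`: the alternating subgroup and the primitive prime divisors (helper621)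
-/

set_option autoImplicit false

namespace Cfsg.Agent.H621.SYPsl

open Matrix Cfsg.Agent.H301.SY

variable {F : Type} [Field F] {n : ℕ}

/-- the permutation matrices -/
def perm (F : Type) [Field F] (n : ℕ) : alternatingGroup (Fin n) →* SpecialLinearGroup (Fin n) F where
  toFun σ := ⟨((σ : Equiv.Perm (Fin n))⁻¹).permMatrix F, by
    rw [Matrix.det_permutation, Equiv.Perm.sign_inv, (Equiv.Perm.mem_alternatingGroup.1 σ.2)]
    simp⟩
  map_one' := by
    apply Subtype.ext
    simp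
  map_mul' σ τ := by
    apply Subtype.ext
    show ((σ * τ : Equiv.Perm (Fin n))⁻¹).permMatrix F = _ * _
    rw [_root_.mul_inv_rev, Matrix.permMatrix_mul]

theorem perm_mulVec (σ : alternatingGroup (Fin n)) (v : Fin n → F) :
    (perm F n σ).1 *ᵥ v = fun i => v ((σ : Equiv.Perm (Fin n))⁻¹ i) := by
  ext i
  show (((σ : Equiv.Perm (Fin n))⁻¹).permMatrix F *ᵥ v) i = _
  rw [Matrix.permMatrix_mulVec]
  rfl

/-- `A_n → PSL_n(F)` -/
def permP (F : Type) [Field F] (n : ℕ) : alternatingGroup (Fin n) →* ProjectiveSpecialLinearGroup (Fin n) F :=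
  (QuotientGroup.mk' _).comp (perm F n)

theorem permP_inj : Function.Injective (permP F n) := by
  rw [injective_iff_map_eq_one]
  intro σ hσ
  have h1 : (perm F n σ) ∈ Subgroup.center (SpecialLinearGroup (Fin n) F) := (QuotientGroup.eq_one_iff _).1 hσ
  rw [Matrix.SpecialLinearGroup.mem_center_iff] at h1
  obtain ⟨c, -, h2⟩ := h1
  apply Subtype.ext
  ext i
  have h3 : (perm F n σ).1 *ᵥ (Pi.single i 1) = c • Pi.single i 1 := by
    rw [← h2]
    ext j
    simp [Matrix.scalar_apply, Matrix.mulVec_diagonal]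
  rw [perm_mulVec] at h3
  have h4 := congrFun h3 ((σ : Equiv.Perm (Fin n)) i)
  have h6 : ((σ : Equiv.Perm (Fin n)))⁻¹ ((σ : Equiv.Perm (Fin n)) i) = i := (σ : Equiv.Perm (Fin n)).symm_apply_apply i
  simp only [h6, Pi.single_eq_same, Pi.smul_apply, smul_eq_mul] at h4
  by_contra hcon
  have h5 : ((Pi.single i 1 : Fin n → F) ((σ : Equiv.Perm (Fin n)) i)) = 0 := by
    rw [Pi.single_eq_of_ne]
    intro h
    exact hcon (by rw [h]; rfl)
  rw [h5, mul_zero] at h4
  exact one_ne_zero h4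

theorem permP_not_surj (hn : 3 ≤ n) : ¬ Function.Surjective (permP F n) := by
  intro hs
  have h01 : (⟨0, by omega⟩ : Fin n) ≠ ⟨1, by omega⟩ := by simp
  obtain ⟨σ, hσ⟩ := hs (QuotientGroup.mk (SpecialLinearGroup.transvection h01 (1 : F)))
  have h1 : (perm F n σ)⁻¹ * SpecialLinearGroup.transvection h01 (1 : F) ∈
      Subgroup.center (SpecialLinearGroup (Fin n) F) := QuotientGroup.eq.1 hσ
  rw [Matrix.SpecialLinearGroup.mem_center_iff] at h1
  obtain ⟨c, -, h2⟩ := h1
  have h3 : (SpecialLinearGroup.transvection h01 (1 : F)).1 *ᵥ (fun _ => (1 : F)) = fun _ => c := by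
    have h4 : SpecialLinearGroup.transvection h01 (1 : F) =
        perm F n σ * ((perm F n σ)⁻¹ * SpecialLinearGroup.transvection h01 (1 : F)) := by group
    have h5 : (SpecialLinearGroup.transvection h01 (1 : F)).1 =
        (perm F n σ).1 * ((perm F n σ)⁻¹ * SpecialLinearGroup.transvection h01 (1 : F)).1 :=
      congrArg Subtype.val h4
    rw [h5, ← h2, ← mulVec_mulVec]
    have h6 : (scalar (Fin n) c) *ᵥ (fun _ => (1 : F)) = fun _ => c := by
      ext j
      simp [Matrix.scalar_apply, Matrix.mulVec_diagonal]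
    rw [h6, perm_mulVec]
  have h4 := congrFun h3 ⟨0, by omega⟩
  have h5 := congrFun h3 ⟨1, by omega⟩
  have h6 : (SpecialLinearGroup.transvection h01 (1 : F)).1 =
    1 + Matrix.single ⟨0, by omega⟩ ⟨1, by omega⟩ (1 : F) := rfl
  rw [h6, add_mulVec, one_mulVec] at h4 h5
  have h7 : (Matrix.single (⟨0, by omega⟩ : Fin n) (⟨1, by omega⟩ : Fin n) (1 : F) *ᵥ fun _ => (1 : F)) =
      Pi.single ⟨0, by omega⟩ 1 := by
    ext j
    rw [Matrix.mulVec, dotProduct]
    simp only [Matrix.single_apply, mul_one]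
    rw [Finset.sum_eq_single (⟨1, by omega⟩ : Fin n)]
    · by_cases hj : (⟨0, by omega⟩ : Fin n) = j
      · subst hj
        simp
      · rw [if_neg (fun h => hj h.1), Pi.single_eq_of_ne (fun h => hj h.symm)]
    · intro k _ hk
      rw [if_neg (fun h => hk h.2.symm)]
    · intro h
      exact absurd (Finset.mem_univ _) h
  rw [h7] at h4 h5
  simp only [Pi.add_apply, Pi.single_eq_same] at h4
  rw [Pi.add_apply, Pi.single_eq_of_ne h01.symm, add_zero] at h5
  rw [← h5] at h4
  exact one_ne_zero (add_left_cancel (h4.trans (add_zero _).symm))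

theorem lw {p : ℕ} [hp' : Fact p.Prime] [Finite F] (hp : 5 ≤ p) (hpn : p ≤ n) :
    Lw p (ProjectiveSpecialLinearGroup (Fin n) F) := by
  have hn5 : 5 ≤ n := by omega
  have hs : IsSimpleGroup (alternatingGroup (Fin n)) := alternatingGroup.isSimpleGroup (by
    rw [Nat.card_eq_fintype_card, Fintype.card_fin]; omega)
  have : Nontrivial (Fin n) := Fin.nontrivial_iff_two_le.2 (by omega)
  have hcard : 2 * Nat.card (alternatingGroup (Fin n)) = n.factorial := by
    rw [Nat.card_eq_fintype_card, two_mul_card_alternatingGroup, Fintype.card_perm, Fintype.card_fin]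
  refine Lw.of_simple (Q := alternatingGroup (Fin n)) ?_ ?_ (permP F n) permP_inj (permP_not_surj (by omega))
  · intro h
    have h1 := IsSimpleGroup.comm_iff_isSolvable.2 h
    have h2 := (alternatingGroup.isMulCommutative_iff_card_le_three (α := Fin n)).1 ⟨⟨h1⟩⟩
    rw [Nat.card_eq_fintype_card, Fintype.card_fin] at h2
    omega
  · have h1 : p ∣ 2 * Nat.card (alternatingGroup (Fin n)) := by
      rw [hcard]
      exact (hp'.out.dvd_factorial).2 hpn
    rcases hp'.out.dvd_mul.1 h1 with h2 | h2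
    · exact absurd (Nat.le_of_dvd (by norm_num) h2) (by omega)
    · exact h2

/-- the primitive prime divisors of `q ^ (n - 1) - 1` -/
theorem zc {r p : ℕ} [hr : Fact r.Prime] [hp' : Fact p.Prime] [Fintype F] [CharP F r] (hp : 5 ≤ p) (hpn : p = n + 1) :
    Zc r p (ProjectiveSpecialLinearGroup (Fin n) F) := by
  intro s hs hsp _
  have hn4 : 4 ≤ n := by omega
  have hodd : Odd p := hp'.out.odd_of_ne_two (by omega)
  have hneven : Even n := by
    rcases Nat.even_or_odd n with h | h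
    · exact h
    · exfalso
      rw [hpn] at hodd
      exact (Nat.not_even_iff_odd.2 hodd) h.add_one
  set q := Fintype.card F with hq
  have hq1 : 1 < q := Fintype.one_lt_card
  obtain ⟨w, hw, hwd, hwk⟩ := Cfsg.Agent.S2904.result q (n - 1) hq1 (by omega) (by
      rintro ⟨-, h⟩
      obtain ⟨k, hk⟩ := hneven
      omega) (by
      rintro ⟨h, -⟩
      obtain ⟨k, hk⟩ := hneven
      omega)
  have hFw : Fact w.Prime := ⟨hw⟩
  -- the order of `q` modulo `w`
  have hcast : ∀ k : ℕ, ((q : ℕ) : ZMod w) ^ k = 1 ↔ w ∣ q ^ k - 1 := by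
    intro k
    have h1 : 1 ≤ q ^ k := Nat.one_le_pow _ _ (by omega)
    rw [← ZMod.natCast_eq_zero_iff, Nat.cast_sub h1, Nat.cast_pow, Nat.cast_one, sub_eq_zero]
  have hord : orderOf ((q : ℕ) : ZMod w) = n - 1 := by
    have h1 : orderOf ((q : ℕ) : ZMod w) ∣ n - 1 := orderOf_dvd_of_pow_eq_one ((hcast _).2 hwd)
    have h2 : 0 < orderOf ((q : ℕ) : ZMod w) := Nat.pos_of_dvd_of_pos h1 (by omega)
    have h3 : orderOf ((q : ℕ) : ZMod w) ≤ n - 1 := Nat.le_of_dvd (by omega) h1
    by_contra hne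
    exact hwk _ h2 (by omega) ((hcast _).1 (pow_orderOf_eq_one _))
  have hqw : ((q : ℕ) : ZMod w) ≠ 0 := by
    intro h
    have h1 := (hcast (n - 1)).2 hwd
    rw [h, zero_pow (by omega)] at h1
    exact zero_ne_one h1
  have hdvd : n - 1 ∣ w - 1 := by
    rw [← hord]
    exact orderOf_dvd_of_pow_eq_one (ZMod.pow_card_sub_one_eq_one hqw)
  have hw1 := hw.one_lt
  have hwr : w ≠ r := by
    intro h
    apply hqw
    rw [ZMod.natCast_eq_zero_iff, h]
    obtain ⟨k, hr', hk⟩ := FiniteField.card F r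
    rw [hq, hk]
    exact dvd_pow_self r k.2.ne'
  have hwp : w ≠ p := by
    rintro rfl
    have h1 : w - 1 = n := by omega
    rw [h1] at hdvd
    have h2 : n - 1 ∣ n - (n - 1) := Nat.dvd_sub hdvd dvd_rfl
    have h3 := Nat.le_of_dvd (by omega) h2
    omega
  have hws : w ≠ s := by
    rintro rfl
    have h1 : p - 1 = n := by omega
    rw [h1] at hsp
    have h2 := Nat.le_of_dvd (by omega) hsp
    have h3 := Nat.le_of_dvd (by omega) hdvd
    have h4 : w = n := by omega
    have h5 := (Nat.Prime.eq_two_or_odd' hw)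
    rcases h5 with h5 | h5
    · omega
    · rw [h4] at h5
      exact (Nat.not_even_iff_odd.2 h5) hneven
  have hw2 : w ≠ 2 := by
    intro h
    have h3 := Nat.le_of_dvd (by omega) hdvd
    omega
  have hwG : w ∣ Nat.card (ProjectiveSpecialLinearGroup (Fin n) F) := by
    have h1 := Cfsg.Agent.S0243.result (F := F) rfl n (by omega)
    have h2 : w ∣ ∏ i : Fin n, (Fintype.card F ^ n - Fintype.card F ^ (i : ℕ)) := by
      have h3 : q ^ n - q ^ 1 = q * (q ^ (n - 1) - 1) := by
        rw [Nat.mul_sub, mul_one, pow_one, ← pow_succ']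
        congr 2
        omega
      refine Dvd.dvd.trans ?_ (Finset.dvd_prod_of_mem _ (Finset.mem_univ (⟨1, by omega⟩ : Fin n)))
      show w ∣ q ^ n - q ^ 1
      rw [h3]
      exact hwd.mul_left _
    rw [← h1] at h2
    have h4 : ¬ w ∣ q - 1 := by
      have := hwk 1 (by norm_num) (by omega)
      rwa [pow_one] at this
    rcases hw.dvd_mul.1 h2 with h3 | h3
    · exact absurd (h3.trans (Nat.gcd_dvd_right _ _)) h4
    · rcases hw.dvd_mul.1 h3 with h5 | h5
      · exact absurd h5 h4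
      · exact h5
  have hno := (Cfsg.Agent.S2470.result (F := F) r n (by omega) (by omega) w hw hw2 hwr hwG (n - 1) hord.symm).2
    (Or.inl (by omega))
  obtain ⟨z, hz⟩ := exists_prime_orderOf_dvd_card' w hwG
  refine ⟨z, ?_, ?_, ?_⟩
  · rintro rfl
    rw [orderOf_one] at hz
    omega
  · intro hd
    obtain ⟨v, hv⟩ := exists_prime_orderOf_dvd_card' r hd
    apply hno
    refine ⟨z * v, ?_⟩
    have hv' : orderOf (v : ProjectiveSpecialLinearGroup (Fin n) F) = r := by rw [Subgroup.orderOf_coe]; exact hv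
    have hcomm : Commute z (v : ProjectiveSpecialLinearGroup (Fin n) F) :=
      (Subgroup.mem_centralizer_iff.1 v.2) z (Set.mem_singleton z)
    rw [hcomm.orderOf_mul_eq_mul_orderOf_of_coprime (by
      rw [hz, hv']
      exact (Nat.coprime_primes hw hr.out).2 hwr), hz, hv']
  · rw [hz]
    exact Nat.Coprime.mul_right ((Nat.coprime_primes hw hp'.out).2 hwp) ((Nat.coprime_primes hw hs).2 hws)

end Cfsg.Agent.H621.SYPsl
end

-- part: H621/SY/Psl
section
/-!
# S3846, row `PSL_n(q)` (task 1514, helper621)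
-/

set_option autoImplicit false

namespace Cfsg.Agent.H621.SYPsl

open Matrix Cfsg.Agent.H301.SY Cfsg.Agent.H459.Iface Cfsg.Agent.H459.Rad

/-- the case `p ≤ n + 1` is complete; in the case `n + 1 < p` the natural module of `SL_n(q)` is used -/
theorem crow_of {F : Type} [Field F] [Fintype F] {n r p : ℕ} [hr : Fact r.Prime] [hp' : Fact p.Prime] [CharP F r]
    (hp : 5 ≤ p)
    (hM : n + 1 < p → ∀ x : ProjectiveSpecialLinearGroup (Fin n) F, orderOf x = p →
      (∀ P : Sylow p (ProjectiveSpecialLinearGroup (Fin n) F), IsCyclic (P : Subgroup (ProjectiveSpecialLinearGroup (Fin n) F))) →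
        ¬ FixR r (MulAut.conj x) → M0 x) :
    CRow r p (ProjectiveSpecialLinearGroup (Fin n) F) := by
  intro x hx hR hP
  rcases Nat.lt_or_ge n p with h | h
  · rcases Nat.lt_or_ge (n + 1) p with h1 | h1
    · by_cases hF : FixR r (MulAut.conj x)
      · exact Or.inl hF
      · exact Or.inr (Or.inl (hM h1 x hx hP hF))
    · exact Or.inr (Or.inr (zc hp (by omega)))
  · exact ((lw (F := F) hp h).false hx (RE.of_rc hR) hP).elim

end Cfsg.Agent.H621.SYPsl
end

-- part: H621/SY/PslRow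
section
/-!
# S3846, row `PSL_n(q)` (task 1514, helper621): the row
-/

set_option autoImplicit false

namespace Cfsg.Agent.H621.SYPsl

open Matrix Cfsg.Agent.H301.SY Cfsg.Agent.H459.Iface Cfsg.Agent.H459.Rad

/-- the natural representation of `SL_n(F)` -/
noncomputable def nat (F : Type) [Field F] (n : ℕ) : Representation F (SpecialLinearGroup (Fin n) F) (Fin n → F) where
  toFun g := Matrix.toLin' g.1
  map_one' := Matrix.toLin'_one
  map_mul' g h := Matrix.toLin'_mul g.1 h.1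

theorem nat_inj (F : Type) [Field F] (n : ℕ) : Function.Injective (nat F n) := by
  intro g h e
  exact Subtype.ext (Matrix.toLin'.injective e)

theorem crow_psl (hh : Cfsg.Agent.H301.SY.HH) {K : Type*} [Group K] [Finite K] [IsSimpleGroup K] {F : Type} [Field F]
    [Fintype F] {n r p : ℕ} [Fact r.Prime] [Fact p.Prime] [CharP F r] (_hn : 3 ≤ n)
    (e : Nonempty (K ≃* Matrix.ProjectiveSpecialLinearGroup (Fin n) F)) (hp : 5 ≤ p) (hpr : p ≠ r) :
    Cfsg.Agent.H301.SY.CRow r p K := by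
  obtain ⟨e⟩ := e
  refine CRow.congr e ?_
  refine crow_of hp fun hnp x hx hcyc hF => ?_
  exact m0_of_rep (E := SpecialLinearGroup (Fin n) F) (k := F) (V := Fin n → F) hh
    (QuotientGroup.mk' _) (QuotientGroup.mk'_surjective _) (by rw [QuotientGroup.ker_mk']) (nat F n) (nat_inj F n)
    hpr (by rw [Module.finrank_fin_fun]; exact hnp) hcyc hx hF

end Cfsg.Agent.H621.SYPsl
end
end

-- part: H141/SY/Alt_mg
section
prune_inst 0x743073640c8002000018059251003e66fe0005b0006b8801d9210a420e87ff6205822720c48019174a0aa2c500310020000000d00210000000000400011d008080ab56063310ad0cf4000f803087100000000000000000000000000000041004000000000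
set_option linter.all false
open scoped Cfsg.Agent.FastGrp

-- part: H141/SY/Alt
section
/-!
# S3846, the row of the alternating groups (task 1555, helper141)
-/

set_option autoImplicit false

namespace Cfsg.Agent.H141.SY

open Subgroup Equiv Cfsg Cfsg.Agent.H459.Rad Cfsg.Agent.H459.Iface Cfsg.Agent.H301.SY

/-- `p ^ 2` does not divide `|A_p|` -/
theorem not_sq_dvd {p : ℕ} (hpp : p.Prime) : ¬ p ^ 2 ∣ Nat.card ↥(alternatingGroup (Fin p)) := by
  intro hd
  have h1 : Nat.card ↥(alternatingGroup (Fin p)) ∣ p.factorial := by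
    have h2 := Subgroup.card_subgroup_dvd_card (alternatingGroup (Fin p))
    rwa [Nat.card_perm, Nat.card_eq_fintype_card (α := Fin p), Fintype.card_fin] at h2
  have h2 : p ^ 2 ∣ p.factorial := hd.trans h1
  obtain ⟨m, rfl⟩ : ∃ m, p = m + 1 := ⟨p - 1, by have := hpp.pos; omega⟩
  rw [Nat.factorial_succ, pow_two] at h2
  have h3 : (m + 1) ∣ m.factorial := Nat.dvd_of_mul_dvd_mul_left (by omega) h2
  have h4 := (hpp.dvd_factorial).1 h3
  omega

/-- a group with a normal `p`-subgroup `Q ≠ 1` and `p² ∤ |H|` has all elements of order `p` in `Q` -/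
theorem mem_of_not_sq {H : Type*} [Group H] [Finite H] {p : ℕ} [hp : Fact p.Prime] {Q : Subgroup H} [Q.Normal]
    (hQ : p ∣ Nat.card Q) (h : ¬ p ^ 2 ∣ Nat.card H) {x : H} (hx : orderOf x = p) : x ∈ Q := by
  by_contra hcon
  have h1 : (QuotientGroup.mk' Q x) ^ p = 1 := by
    rw [← map_pow, ← hx, pow_orderOf_eq_one, map_one]
  have h2 : QuotientGroup.mk' Q x ≠ 1 := fun h => hcon ((QuotientGroup.eq_one_iff x).1 h)
  have h3 : orderOf (QuotientGroup.mk' Q x) = p := orderOf_eq_prime h1 h2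
  have h4 : p ∣ Nat.card (H ⧸ Q) := by rw [← h3]; exact _root_.orderOf_dvd_natCard _
  apply h
  rw [Subgroup.card_eq_card_quotient_mul_card_subgroup Q, pow_two]
  exact Nat.mul_dvd_mul h4 hQ

/-- a `p`-cycle in a solvable subgroup of `A_p` -/
theorem m0_alt {p : ℕ} [hp : Fact p.Prime] {x : ↥(alternatingGroup (Fin p))}
    (hx : orderOf x = p) : M0 x := by
  have hpp : p.Prime := hp.out
  intro H hH hxH h hh
  -- `x` is a cycle
  have hxo : orderOf (x : Perm (Fin p)) = p := by rw [Subgroup.orderOf_coe]; exact hx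
  have hcyc : (x : Perm (Fin p)).IsCycle :=
    Perm.isCycle_of_prime_order'' (by rw [Fintype.card_fin]; exact hpp) (by rw [Fintype.card_fin]; exact hxo)
  have hsupp : (x : Perm (Fin p)).support = Finset.univ :=
    Finset.eq_univ_of_card _ (by rw [← hcyc.orderOf, hxo, Fintype.card_fin])
  have hne : Nonempty (Fin p) := ⟨⟨0, hpp.pos⟩⟩
  have htr : MulAction.IsPretransitive ↥H (Fin p) := by
    refine ⟨fun a b => ?_⟩
    have ha : (x : Perm (Fin p)) a ≠ a := Perm.mem_support.1 (by rw [hsupp]; exact Finset.mem_univ _)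
    have hb : (x : Perm (Fin p)) b ≠ b := Perm.mem_support.1 (by rw [hsupp]; exact Finset.mem_univ _)
    obtain ⟨i, hi⟩ := hcyc.sameCycle ha hb
    refine ⟨⟨x, hxH⟩ ^ i, ?_⟩
    have : ((((⟨x, hxH⟩ : ↥H) ^ i : ↥H) : ↥(alternatingGroup (Fin p))) : Perm (Fin p)) a = b := by
      rw [SubgroupClass.coe_zpow, SubgroupClass.coe_zpow]
      exact hi
    exact this
  have hprim : MulAction.IsPreprimitive ↥H (Fin p) :=
    MulAction.IsPreprimitive.of_prime_card (by rw [Nat.card_eq_fintype_card, Fintype.card_fin]; exact hpp)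
  have hnt : Nontrivial ↥H := ⟨⟨1, ⟨x, hxH⟩, fun h => by
    have h1 : x = 1 := (congrArg Subtype.val h).symm
    rw [h1, orderOf_one] at hx
    exact hpp.one_lt.ne hx⟩⟩
  obtain ⟨A, hA, hAc, hA1⟩ := Lib.SolvableMinNormal.exists_characteristic_abelian (G := ↥H)
  have hAn : A.Normal := inferInstance
  have hAt : MulAction.IsPretransitive ↥A (Fin p) := by
    apply MulAction.IsQuasiPreprimitive.isPretransitive_of_normal (G := ↥H)
    intro hfix
    apply hA1
    rw [Subgroup.eq_bot_iff_forall]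
    intro a ha
    apply Subtype.ext
    apply Subtype.ext
    apply Equiv.ext
    intro i
    have : i ∈ MulAction.fixedPoints ↥A (Fin p) := by rw [hfix]; exact Set.mem_univ _
    exact this ⟨a, ha⟩
  have hpA : p ∣ Nat.card A := by
    have h1 := MulAction.index_stabilizer_of_transitive ↥A (⟨0, hpp.pos⟩ : Fin p)
    rw [Nat.card_eq_fintype_card (α := Fin p), Fintype.card_fin] at h1
    have h2 := Subgroup.index_dvd_card (MulAction.stabilizer ↥A (⟨0, hpp.pos⟩ : Fin p))
    rwa [h1] at h2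
  -- the Sylow subgroup of `A`
  have hAcomm : ∀ a b : ↥A, a * b = b * a := fun a b => hAc.is_comm.comm a b
  let P : Sylow p ↥A := default
  have hPn : (((P : Subgroup ↥A)).Normal :) := ⟨fun n hn g => by
    rw [hAcomm g n, mul_inv_cancel_right]; exact hn⟩
  have hPc : ((P : Subgroup ↥A).Characteristic :) := P.characteristic_of_normal hPn
  have hQn : (((P : Subgroup ↥A).map A.subtype).Normal :) := inferInstance
  have hpQ : p ∣ Nat.card (((P : Subgroup ↥A).map A.subtype :)) := by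
    rw [Subgroup.card_map_of_injective A.subtype_injective]
    exact P.dvd_card_of_dvd_card hpA
  have hQp : IsPGroup p ↥((P : Subgroup ↥A).map A.subtype) := P.isPGroup'.map _
  have hH2 : ¬ p ^ 2 ∣ Nat.card ↥H := fun hd => not_sq_dvd hpp (hd.trans (Subgroup.card_subgroup_dvd_card H))
  have hQc : Nat.card ((P : Subgroup ↥A).map A.subtype) = p := by
    obtain ⟨k, hk⟩ := IsPGroup.iff_card.1 hQp
    have h1 : k < 2 := by
      by_contra hcon
      apply hH2
      refine (pow_dvd_pow p (not_lt.1 hcon)).trans ?_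
      rw [← hk]
      exact Subgroup.card_subgroup_dvd_card _
    have h2 : k ≠ 0 := by
      rintro rfl
      rw [hk, pow_zero] at hpQ
      exact hpp.one_lt.ne' (Nat.dvd_one.1 hpQ)
    have h3 : k = 1 := by omega
    rw [hk, h3, pow_one]
  have hx' : orderOf (⟨x, hxH⟩ : ↥H) = p := by rw [Subgroup.orderOf_mk]; exact hx
  have hxQ : (⟨x, hxH⟩ : ↥H) ∈ ((P : Subgroup ↥A).map A.subtype :) := mem_of_not_sq hpQ hH2 hx'
  have hz : zpowers (⟨x, hxH⟩ : ↥H) = (P : Subgroup ↥A).map A.subtype :=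
    Subgroup.eq_of_le_of_card_ge (zpowers_le.2 hxQ) (by rw [hQc, Nat.card_zpowers, hx'])
  have h1 : (⟨h, hh⟩ : ↥H) * ⟨x, hxH⟩ * (⟨h, hh⟩ : ↥H)⁻¹ ∈ zpowers (⟨x, hxH⟩ : ↥H) := by
    rw [hz]
    exact hQn.conj_mem _ hxQ _
  obtain ⟨k, hk⟩ := mem_zpowers_iff.1 h1
  refine mem_zpowers_iff.2 ⟨k, ?_⟩
  have := congrArg Subtype.val hk
  rw [SubgroupClass.coe_zpow] at this
  exact this

/-- the Sylow `p`-subgroups of `A_p` have order `p` -/
theorem isCyclic_sylow {p : ℕ} [hp : Fact p.Prime] (P : Sylow p ↥(alternatingGroup (Fin p))) :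
    IsCyclic (P : Subgroup ↥(alternatingGroup (Fin p))) := by
  obtain ⟨k, hk⟩ := IsPGroup.iff_card.1 P.isPGroup'
  have hk2 : k < 2 := by
    by_contra hcon
    apply not_sq_dvd hp.out
    refine (pow_dvd_pow p (not_lt.1 hcon)).trans ?_
    rw [← hk]
    exact Subgroup.card_subgroup_dvd_card _
  rcases Nat.lt_or_ge k 1 with h | h
  · have h0 : k = 0 := by omega
    rw [h0, pow_zero] at hk
    have : (Subsingleton ↥(P : Subgroup ↥(alternatingGroup (Fin p))) :) := Nat.card_eq_one_iff_unique.1 hk |>.1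
    infer_instance
  · have h1 : k = 1 := by omega
    rw [h1, pow_one] at hk
    exact isCyclic_of_prime_card hk

/-- **the row of the alternating groups** -/
theorem noya_alt {n : ℕ} (hn : 5 ≤ n) {p : ℕ} [Fact p.Prime] (hp : 5 ≤ p) {K : Type*} [Group K] [Finite K]
    (e : Nonempty (K ≃* alternatingGroup (Fin n))) : NoYA p K := by
  obtain ⟨e⟩ := e
  refine NoYA.congr e ?_
  intro x hx hR hY
  have hpp : p.Prime := Fact.out
  obtain ⟨a, rfl⟩ := Cfsg.Agent.H568.autInner_altAll hn hpp (by omega) x hx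
  have hc : center ↥(alternatingGroup (Fin n)) = ⊥ :=
    alternatingGroup.center_eq_bot (by rw [Nat.card_eq_fintype_card, Fintype.card_fin]; omega)
  rw [orderOf_injective _ (_root_.Cfsg.Agent.H301.SY.conj_injective hc)] at hx
  rcases Nat.lt_or_ge p n with h | h
  · exact Cfsg.Agent.H587.AltEnd.not_rc hp h hx hR
  · have hnp : n = p := by
      refine le_antisymm h ?_
      have h1 : p ∣ n.factorial := by
        have h2 := Subgroup.card_subgroup_dvd_card (alternatingGroup (Fin n))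
        rw [Nat.card_perm, Nat.card_eq_fintype_card (α := Fin n), Fintype.card_fin] at h2
        refine Dvd.dvd.trans ?_ h2
        rw [← hx]
        exact _root_.orderOf_dvd_natCard _
      exact (hpp.dvd_factorial).1 h1
    subst hnp
    have hs : IsSimpleGroup ↥(alternatingGroup (Fin n)) :=
      alternatingGroup.isSimpleGroup (by rw [Nat.card_eq_fintype_card, Fintype.card_fin]; omega)
    have hna : ¬ IsMulCommutative ↥(alternatingGroup (Fin n)) := by
      intro hcm
      have h1 : center ↥(alternatingGroup (Fin n)) = ⊤ := by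
        rw [eq_top_iff]
        intro a _
        rw [mem_center_iff]
        exact fun b => hcm.is_comm.comm b a
      exact bot_ne_top (hc.symm.trans h1)
    refine M0.false hna ?_ hx (YE.of_ya hc hY) (m0_alt hx)
    intro P a ha b hb
    have := isCyclic_sylow P
    exact (congrArg Subtype.val (IsCyclic.commGroup.mul_comm (⟨a, ha⟩ : ↥(P : Subgroup ↥(alternatingGroup (Fin n)))) ⟨b, hb⟩) :)

end Cfsg.Agent.H141.SY
end

-- part: H980/NoYATits
section
/-!
# S3846: the row of the Tits group (helper980)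

`noya_tits` : `NoYA p K` for the Tits group.  For `p = 5` and `p = 13` there are `x` of order `p`, an `r`-element `y`,
`r = 2`, which normalises `⟨x⟩`, and a conjugate `y'` of `y` with `(x y') ^ n = 1`, `n` prime to the order of `x` and
`y`, so that `⟨x, y'⟩` is perfect.
-/

set_option autoImplicit false
set_option maxRecDepth 100000

namespace Cfsg.Agent.H980.NoYATits

open Subgroup Cfsg
open Cfsg.Agent.H459.Iface Cfsg.Agent.H459.Rad Cfsg.Agent.H301.SY

section Gen

variable {G : Type*} [Group G]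

theorem comm_one {A : Type*} [CommGroup A] {y z : A} {p m n : ℕ} (hy : y ^ p = 1) (hz : z ^ m = 1)
    (h : (y * z) ^ n = 1) (h1 : Nat.gcd n (p * m) = 1) (h2 : Nat.gcd p m = 1) : y = 1 ∧ z = 1 := by
  have e1 : y * z = 1 := by
    have h3 : (y * z) ^ (p * m) = 1 := by
      rw [mul_pow, pow_mul, hy, one_pow, one_mul, mul_comm p m, pow_mul, hz, one_pow]
    have h4 : (y * z) ^ Nat.gcd n (p * m) = 1 := pow_gcd_eq_one.2 ⟨h, h3⟩
    rwa [h1, pow_one] at h4
  have e2 : y = 1 := by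
    have h3 : y ^ m = 1 := by
      have h5 : y = z⁻¹ := eq_inv_of_mul_eq_one_left e1
      rw [h5, inv_pow, hz, inv_one]
    have h4 : y ^ Nat.gcd p m = 1 := pow_gcd_eq_one.2 ⟨hy, h3⟩
    rwa [h2, pow_one] at h4
  exact ⟨e2, by rwa [e2, one_mul] at e1⟩

/-- two elements with these relations generate a non-solvable group -/
theorem not_solvable {y z : G} {p m n : ℕ} (hy : y ^ p = 1) (hz : z ^ m = 1)
    (h : (y * z) ^ n = 1) (h1 : Nat.gcd n (p * m) = 1) (h2 : Nat.gcd p m = 1) (hne : y ≠ 1) :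
    ¬ Group.IsSolvable ↥(_root_.Subgroup.closure ({y, z} : Set G)) := by
  intro hMs
  set M : Subgroup G := _root_.Subgroup.closure {y, z} with hM
  have hyM : y ∈ M := _root_.Subgroup.subset_closure (Or.inl rfl)
  have hzM : z ∈ M := _root_.Subgroup.subset_closure (Or.inr rfl)
  have hperf : _root_.commutator M = ⊤ := by
    have h3 : (⊤ : Subgroup M) ≤ _root_.commutator M := by
      have h4 : _root_.Subgroup.closure ({⟨y, hyM⟩, ⟨z, hzM⟩} : Set M) = ⊤ := by
        apply map_injective M.subtype_injective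
        rw [MonoidHom.map_closure, ← MonoidHom.range_eq_map, range_subtype, Set.image_pair]
        rfl
      rw [← h4, closure_le]
      have h5 := comm_one (A := Abelianization M) (y := Abelianization.of ⟨y, hyM⟩)
        (z := Abelianization.of ⟨z, hzM⟩) (p := p) (m := m) (n := n)
        (by rw [← map_pow]; exact (congrArg _ (Subtype.ext hy)).trans (map_one _))
        (by rw [← map_pow]; exact (congrArg _ (Subtype.ext hz)).trans (map_one _))
        (by rw [← map_mul, ← map_pow]; exact (congrArg _ (Subtype.ext h)).trans (map_one _)) h1 h2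
      rintro _ (rfl | rfl)
      · exact (QuotientGroup.eq_one_iff _).1 h5.1
      · exact (QuotientGroup.eq_one_iff _).1 h5.2
    exact top_le_iff.1 h3
  have h6 : ∀ n, derivedSeries M n = ⊤ := by
    intro n
    induction n with
    | zero => rfl
    | succ n ih => rw [derivedSeries_succ, ih]; exact hperf
  obtain ⟨n, hn⟩ := (Group.isSolvable_def M).1 hMs
  rw [h6 n] at hn
  have h7 : (⟨y, hyM⟩ : M) ∈ (⊥ : Subgroup M) := by rw [← hn]; exact mem_top _
  exact hne (congrArg Subtype.val (mem_bot.1 h7))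

theorem closure_pair (x y : G) : _root_.Subgroup.closure ({x, y} : Set G) = zpowers y ⊔ zpowers x := by
  rw [zpowers_eq_closure, zpowers_eq_closure, ← Subgroup.closure_union, Set.pair_comm]
  rfl

/-- an element which normalises `⟨x⟩` generates a solvable group with `x` -/
theorem solvable_of_norm [Finite G] {x t : G} {k : ℕ} (h : t * x * t⁻¹ = x ^ k) :
    Group.IsSolvable ↥(_root_.Subgroup.closure ({x, t} : Set G)) := by
  rw [closure_pair]
  refine Cfsg.Agent.H412.Tc.solvable_sup inferInstance inferInstance ?_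
  intro s hs y hy
  rw [← mem_powers_iff_mem_zpowers] at hs
  obtain ⟨n, rfl⟩ := hs
  induction n generalizing y with
  | zero => simpa using hy
  | succ n ih =>
    have h1 : t * y * t⁻¹ ∈ zpowers x := by
      obtain ⟨m, rfl⟩ := mem_zpowers_iff.1 hy
      have h2 : t * x ^ m * t⁻¹ = (t * x * t⁻¹) ^ m := by rw [conj_zpow]
      rw [h2, h]
      exact zpow_mem (pow_mem (mem_zpowers x) k) m
    have h3 := ih _ h1
    have h4 : (fun x_1 ↦ t ^ x_1) n * (t * y * t⁻¹) * ((fun x_1 ↦ t ^ x_1) n)⁻¹ =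
        (fun x_1 ↦ t ^ x_1) (n + 1) * y * ((fun x_1 ↦ t ^ x_1) (n + 1))⁻¹ := by
      simp only [pow_succ]
      group
    rw [← h4]
    exact h3

/-- `x` does not satisfy `YE` -/
def Wit (x : G) : Prop :=
  ∃ y g : G, (∃ k : ℕ, orderOf y = 2 ^ k) ∧ Group.IsSolvable ↥(_root_.Subgroup.closure ({x, y} : Set G)) ∧
    ¬ Group.IsSolvable ↥(closure ({x, g * y * g⁻¹} : Set G))

theorem solvable_iff {H : Type*} [Group H] (e : G ≃* H) (x : G) (y : H) :
    Group.IsSolvable ↥(_root_.Subgroup.closure ({x, e.symm y} : Set G)) ↔ Group.IsSolvable ↥(_root_.Subgroup.closure ({e x, y} : Set H)) := by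
  have h1 : (_root_.Subgroup.closure ({x, e.symm y} : Set G)).map e.toMonoidHom = _root_.Subgroup.closure ({e x, y} : Set H) := by
    rw [MonoidHom.map_closure, Set.image_pair]
    simp
  have h2 : (closure ({x, e.symm y} : Set G)) ≃* ↥(_root_.Subgroup.closure ({e x, y} : Set H)) := by
    rw [← h1]
    exact (closure ({x, e.symm y} : Set G)).equivMapOfInjective e.toMonoidHom e.injective
  constructor
  · intro h
    exact Group.isSolvable_of_isSolvable_injective (f := h2.symm.toMonoidHom) h2.symm.injective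
  · intro h
    exact Group.isSolvable_of_isSolvable_injective (f := h2.toMonoidHom) h2.injective

theorem Wit.of_equiv {H : Type*} [Group H] (e : G ≃* H) {x : G} (h : Wit (e x)) : Wit x := by
  obtain ⟨y, g, ⟨k, hk⟩, h1, h2⟩ := h
  refine ⟨e.symm y, e.symm g, ⟨k, ?_⟩, ?_, ?_⟩
  · rw [MulEquiv.orderOf_eq, hk]
  · rwa [solvable_iff]
  · rw [← map_mul, ← map_inv, ← map_mul, solvable_iff]
    exact h2

theorem Wit.of_zpowers {x y : G} (h : zpowers x = zpowers y) (hy : Wit y) : Wit x := by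
  obtain ⟨z, g, h0, h1, h2⟩ := hy
  rw [closure_pair] at h1 h2
  refine ⟨z, g, h0, ?_, ?_⟩
  · rw [closure_pair, h]; exact h1
  · rw [closure_pair, h]; exact h2

theorem Wit.not_ye {x : G} (h : Wit x) {p : ℕ} (hp : p ≠ 2) (hY : YE p x) : False := by
  obtain ⟨y, g, h0, h1, h2⟩ := h
  exact h2 (hY 2 Nat.prime_two hp.symm y h0 h1 g)

end Gen

section Model

open Cfsg.Agent.Omega.TwoF.Tits Cfsg.Agent.Omega.TwoF.Scalar Cfsg.Agent.Omega.TwoF.Orb
  Cfsg.Agent.ChevalleyStructure.Tits.Main Cfsg.Agent.ChevalleyStructure.Tits.Mat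
  Cfsg.Agent.ChevalleyStructure.Tits.Order Cfsg.Agent.ChevalleyStructure.Tits.Cert
  Cfsg.Agent.ChevalleyStructure.Tits.Sat
open Cfsg.Agent.H804.TitsFive (g8 g8_sq)

theorem inv_of {v w : List ℕ} (hv : (lt10 v && !par v) = true) (hw : (lt10 w && !par w) = true)
    (h : ck (v ++ w) [] = true) : (⟨wH v, wH_mem hv⟩ : C)⁻¹ = ⟨wH w, wH_mem hw⟩ := by
  apply inv_eq_of_mul_eq_one_right
  apply Subtype.ext
  show wH v * wH w = 1
  rw [← wH_append]
  exact rel (v := []) h

/-! ### the elements of order five -/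

theorem t4 : t ^ 4 = 1 := by
  apply Subtype.ext
  show wH wt ^ 4 = 1
  rw [← wH_rep]
  exact rel (v := []) (by decide +kernel)

/-- the conjugating element -/
noncomputable def h5 : C := ⟨wH [0, 8, 9], wH_mem (by decide +kernel)⟩

theorem h5_inv : h5⁻¹ = ⟨wH [9, 8, 0], wH_mem (by decide +kernel)⟩ :=
  inv_of (by decide +kernel) (by decide +kernel) (by decide +kernel)

theorem pow13 : (a * (h5 * t * h5⁻¹)) ^ 13 = 1 := by
  apply Subtype.ext
  have h : (((a * (h5 * t * h5⁻¹)) ^ 13 : C) : H0) = (wH wa * (wH [0, 8, 9] * wH wt * wH [9, 8, 0])) ^ 13 := by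
    rw [h5_inv]; rfl
  rw [h, ← wH_append, ← wH_append, ← wH_append, ← wH_rep]
  exact rel (v := []) (by decide +kernel)

theorem wit_a : Wit a := by
  have hf : Finite H0 := fin_H0
  refine ⟨t, h5, ?_, solvable_of_norm ta, ?_⟩
  · have h1 : orderOf t ∣ 2 ^ 2 := orderOf_dvd_of_pow_eq_one t4
    obtain ⟨k, -, hk⟩ := (Nat.dvd_prime_pow Nat.prime_two).1 h1
    exact ⟨k, hk⟩
  · refine not_solvable (p := 5) (m := 4) (n := 13) a5 ?_ pow13 (by norm_num) (by norm_num) a1
    rw [conj_pow, t4]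
    group

theorem wit_five {x : C} (hx : orderOf x = 5) : Wit x := by
  obtain ⟨s, hs⟩ := Cfsg.Agent.H804.TitsFive.exists_conj hx
  refine Wit.of_equiv (MulAut.conj s) ?_
  have h : (MulAut.conj s) x = a := hs
  rw [h]
  exact wit_a

/-! ### the elements of order thirteen -/

/-- the word of an element of order thirteen -/
def wc : List ℕ := [8, 9, 5, 8, 5, 5, 5, 9]

/-- an element of order thirteen -/
noncomputable def c : C := ⟨wH wc, wH_mem (by decide +kernel)⟩

theorem c13 : c ^ 13 = 1 := by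
  apply Subtype.ext
  show wH wc ^ 13 = 1
  rw [← wH_rep]
  exact rel (v := []) (by decide +kernel)

theorem c1 : c ≠ 1 := by
  intro h
  have h1 : ((c : H0) : GL I52 (ZMod 2)) = 1 := by rw [h]; rfl
  have h2 : ((c : H0) : GL I52 (ZMod 2)) = (wc.map yG).prod := coe_wH (by decide)
  have h3 := not_mem_of_chk (ws := []) (O := [1]) (w := wc) (by decide +kernel)
    (by intro v hv; exact absurd hv (List.not_mem_nil)) (by decide)
  apply h3
  rw [← h2, h1]
  exact Subgroup.one_mem _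

theorem g8_c : g8 * c * g8⁻¹ = c ^ 12 := by
  rw [mul_inv_eq_iff_eq_mul]
  apply Subtype.ext
  show wH [8] * wH wc = wH wc ^ 12 * wH [8]
  rw [← wH_rep, ← wH_append, ← wH_append]
  exact rel (by decide +kernel)

/-- the conjugating element -/
noncomputable def h13 : C := ⟨wH [3, 3, 2], wH_mem (by decide +kernel)⟩

theorem h13_inv : h13⁻¹ = ⟨wH [2, 3, 3], wH_mem (by decide +kernel)⟩ :=
  inv_of (by decide +kernel) (by decide +kernel) (by decide +kernel)

theorem pow3 : (c * (h13 * g8 * h13⁻¹)) ^ 3 = 1 := by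
  apply Subtype.ext
  have h : (((c * (h13 * g8 * h13⁻¹)) ^ 3 : C) : H0) = (wH wc * (wH [3, 3, 2] * wH [8] * wH [2, 3, 3])) ^ 3 := by
    rw [h13_inv]; rfl
  rw [h, ← wH_append, ← wH_append, ← wH_append, ← wH_rep]
  exact rel (v := []) (by decide +kernel)

theorem wit_c : Wit c := by
  have hf : Finite H0 := fin_H0
  have hg : g8 ^ 2 = 1 := by rw [pow_two]; exact g8_sq
  refine ⟨g8, h13, ?_, solvable_of_norm g8_c, ?_⟩
  · have h1 : orderOf g8 ∣ 2 ^ 1 := orderOf_dvd_of_pow_eq_one (by rw [pow_one]; exact hg)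
    obtain ⟨k, -, hk⟩ := (Nat.dvd_prime_pow Nat.prime_two).1 h1
    exact ⟨k, hk⟩
  · refine not_solvable (p := 13) (m := 2) (n := 3) c13 ?_ pow3 (by norm_num) (by norm_num) c1
    rw [conj_pow, hg]
    group

theorem orderOf_c : orderOf c = 13 := by
  have : Fact (Nat.Prime 13) := ⟨by norm_num⟩
  exact orderOf_eq_prime c13 c1

theorem wit_thirteen {x : C} (hx : orderOf x = 13) : Wit x := by
  have hf : Finite H0 := fin_H0
  have : Fact (Nat.Prime 13) := ⟨by norm_num⟩
  have hP : ∀ P : Sylow 13 C, IsCyclic (P : Subgroup C) := by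
    intro P
    have h1 : Nat.card P = 13 := by
      have h2 := P.card_eq_multiplicity
      rw [H0_result.2.2.2] at h2
      have h3 : (2 ^ 11 * 3 ^ 3 * 5 ^ 2 * 13).factorization 13 = 1 := by
        have h4 : (2 ^ 11 * 3 ^ 3 * 5 ^ 2 * 13 : ℕ) = 13 ^ 1 * 1382400 := by norm_num
        rw [h4]
        rw [Nat.factorization_mul (by norm_num) (by norm_num), Finsupp.add_apply,
          Nat.Prime.factorization_pow (by norm_num), Nat.factorization_eq_zero_of_not_dvd (n := 1382400) (by norm_num)]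
        simp
      rw [h3, pow_one] at h2
      exact h2
    exact isCyclic_of_prime_card (p := 13) h1
  obtain ⟨g, hg⟩ := exists_conj_mem hP hx (L := zpowers c) (by rw [Nat.card_zpowers, orderOf_c])
  refine Wit.of_equiv (MulAut.conj g) ?_
  have h : (MulAut.conj g) x = g * x * g⁻¹ := rfl
  have ho : orderOf (g * x * g⁻¹) = 13 := by
    rw [← h, ← hx]
    exact orderOf_injective (MulAut.conj g).toMonoidHom (MulAut.conj g).injective x
  rw [h]
  refine Wit.of_zpowers ?_ wit_c
  refine Subgroup.eq_of_le_of_card_ge ?_ ?_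
  · rw [zpowers_le]; exact hg
  · rw [Nat.card_zpowers, Nat.card_zpowers, ho, orderOf_c]

theorem wit_aux (T : Subgroup (GL I52 (ZMod 2))) (hT : T = H0) :
    ∀ y : ↥(_root_.commutator T), orderOf y = 5 ∨ orderOf y = 13 → Wit y := by
  subst hT
  intro y hy
  rcases hy with hy | hy
  · exact wit_five hy
  · exact wit_thirteen hy

end Model

theorem wit_of {G K : Type*} [Group G] [Group K] (T : Subgroup G)
    (hT : ∀ y : ↥(_root_.commutator T), orderOf y = 5 ∨ orderOf y = 13 → Wit y) (e : K ≃* ↥(_root_.commutator T))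
    {y : K} (hy : orderOf y = 5 ∨ orderOf y = 13) : Wit y := by
  have h1 : orderOf (e y) = orderOf y := MulEquiv.orderOf_eq e y
  exact (hT (e y) (by rw [h1]; exact hy)).of_equiv e

theorem wit_iso {K : Type*} [Group K] (h : Lie.IsoTits K) {y : K} (hy : orderOf y = 5 ∨ orderOf y = 13) :
    Wit y := by
  obtain ⟨T, hT, ⟨e⟩⟩ := Cfsg.Agent.Omega.TwoF.TitsAut.exists_equiv h
  exact wit_of T (wit_aux T hT) e hy

/-- **the row of the Tits group** -/
theorem noya_tits {K : Type*} [Group K] [Finite K] [IsSimpleGroup K] {p : ℕ} [Fact p.Prime]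
    (h : Cfsg.Lie.IsoTits K) (hp : 5 ≤ p) : NoYA p K := by
  intro x hx _ hY
  have ho := Cfsg.Agent.CpAutTits.Row.out h
  obtain ⟨y, rfl⟩ := Cfsg.Agent.CpAutTits.Row.autInner h (Fact.out : p.Prime) (by omega) x hx
  have hc := Cfsg.Agent.CpAutTits.Row.center_bot ho
  have hy : orderOf y = p := by rw [← Cfsg.Agent.CpAut.orderOf_conj hc y, hx]
  have hdvd : p ∣ 2 ^ 11 * 3 ^ 3 * 5 ^ 2 * 13 := by
    rw [← ho.card, ← hy]
    exact _root_.orderOf_dvd_natCard y
  have hp' : p.Prime := Fact.out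
  have hcases : p = 5 ∨ p = 13 := by
    rcases (Nat.Prime.dvd_mul hp').1 hdvd with h1 | h1
    · rcases (Nat.Prime.dvd_mul hp').1 h1 with h1 | h1
      · rcases (Nat.Prime.dvd_mul hp').1 h1 with h1 | h1
        · have := (Nat.prime_dvd_prime_iff_eq hp' Nat.prime_two).1 (hp'.dvd_of_dvd_pow h1)
          omega
        · have := (Nat.prime_dvd_prime_iff_eq hp' Nat.prime_three).1 (hp'.dvd_of_dvd_pow h1)
          omega
      · exact Or.inl ((Nat.prime_dvd_prime_iff_eq hp' (by norm_num)).1 (hp'.dvd_of_dvd_pow h1))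
    · exact Or.inr ((Nat.prime_dvd_prime_iff_eq hp' (by norm_num)).1 h1)
  exact (wit_iso h (by rw [hy]; exact hcases)).not_ye (p := p) (by omega) (YE.of_ya hc hY)

end Cfsg.Agent.H980.NoYATits
end
end
end
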